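import Groth.Agent.CGrpSh.K731.Basic

/-! The functor from commutative group schemes to abelian sheaves is fully faithful. -/

set_option autoImplicit false
universe u
open CategoryTheory CategoryTheory.Limits MonoidalCategory CartesianMonoidalCategory MonObj AlgebraicGeometry
open CGrpSh Opposite

namespace K731.Full

variable {K : Precoverage Scheme.{u}} {S : Scheme.{u}} [(QuotSh.J K S).Subcanonical]
variable {G H : Over S} [GrpObj G] [IsCommMonObj G] [GrpObj H] [IsCommMonObj H]

/-- The morphism of schemes underlying a morphism of sheaves of points. -/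
noncomputable def hom (g : pts K G ⟶ pts K H) : G ⟶ H :=
  (g.hom.app (op G) (ULift.up (Additive.ofMul (𝟙 G)))).down.toMul

theorem app_eq (g : pts K G ⟶ pts K H) (T : (Over S)ᵒᵖ) (x : (pts K G).obj.obj T) :
    g.hom.app T x = ULift.up (Additive.ofMul (x.down.toMul ≫ hom g)) := by
  have h := ConcreteCategory.congr_hom (g.hom.naturality (Quiver.Hom.op (X := unop T) (Y := G) x.down.toMul))
    (ULift.up (Additive.ofMul (𝟙 G)))
  have e1 : (pts K G).obj.map (Quiver.Hom.op (X := unop T) (Y := G) x.down.toMul)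
      (ULift.up (Additive.ofMul (𝟙 G))) = x := by
    apply ULift.ext
    change Additive.ofMul (x.down.toMul ≫ 𝟙 G) = x.down
    rw [Category.comp_id]
    rfl
  have h' : g.hom.app T ((pts K G).obj.map (Quiver.Hom.op (X := unop T) (Y := G) x.down.toMul)
      (ULift.up (Additive.ofMul (𝟙 G)))) = (pts K H).obj.map (Quiver.Hom.op (X := unop T) (Y := G) x.down.toMul)
      (g.hom.app (op G) (ULift.up (Additive.ofMul (𝟙 G)))) := h
  rw [e1] at h'
  rw [h']
  rfl

instance isMonHom_hom (g : pts K G ⟶ pts K H) : IsMonHom (hom g) where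
  one_hom := by
    have h1 : g.hom.app (op (𝟙_ (Over S))) 0 = 0 := map_zero _
    rw [app_eq] at h1
    have h2 : (1 : 𝟙_ (Over S) ⟶ G) ≫ hom g = 1 := congrArg (fun z => z.down.toMul) h1
    rw [Hom.one_def, Hom.one_def] at h2
    simpa using h2
  mul_hom := by
    let a : (pts K G).obj.obj (op (G ⊗ G)) := ULift.up (Additive.ofMul (fst G G))
    let b : (pts K G).obj.obj (op (G ⊗ G)) := ULift.up (Additive.ofMul (snd G G))
    have h1 : g.hom.app (op (G ⊗ G)) (a + b) = g.hom.app _ a + g.hom.app _ b := map_add _ _ _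
    rw [app_eq, app_eq, app_eq] at h1
    have h2 : (fst G G * snd G G) ≫ hom g = (fst G G ≫ hom g) * (snd G G ≫ hom g) :=
      congrArg (fun z => z.down.toMul) h1
    rw [Hom.mul_def, Hom.mul_def, lift_fst_snd, Category.id_comp] at h2
    rw [h2]
    congr 1

theorem ptsMap_hom (g : pts K G ⟶ pts K H) : ptsMap K (hom g) = g := by
  apply Sheaf.hom_ext
  ext T x
  exact (app_eq g T x).symm

theorem hom_ptsMap (φ : G ⟶ H) [IsMonHom φ] : hom (ptsMap K φ) = φ := by
  change 𝟙 G ≫ φ = φ
  rw [Category.id_comp]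

theorem hom_comp {L : Over S} [GrpObj L] [IsCommMonObj L] (g : pts K G ⟶ pts K H) (h : pts K H ⟶ pts K L) :
    hom (g ≫ h) = hom g ≫ hom h := by
  have h1 := app_eq h (op G) (g.hom.app (op G) (ULift.up (Additive.ofMul (𝟙 G))))
  exact congrArg (fun z => z.down.toMul) h1

theorem hom_id : hom (𝟙 (pts K G)) = 𝟙 G := rfl

/-- The isomorphism of schemes underlying an isomorphism of sheaves of points. -/
noncomputable def iso (e : pts K G ≅ pts K H) : G ≅ H where
  hom := hom e.hom
  inv := hom e.inv
  hom_inv_id := by rw [← hom_comp, e.hom_inv_id, hom_id]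
  inv_hom_id := by rw [← hom_comp, e.inv_hom_id, hom_id]

end K731.Full
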