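import Groth.Agent.CGrpSh.K731.Full
import Mathlib.Algebra.Category.Grp.EquivalenceGroupAddGroup

/-! An abelian sheaf whose underlying presheaf of sets is represented by `G'` is the sheaf of points of a
commutative group scheme structure on `G'`. -/

set_option autoImplicit false
universe u w v u₁
open CategoryTheory CategoryTheory.Limits MonoidalCategory CartesianMonoidalCategory MonObj AlgebraicGeometry
open CGrpSh Opposite

namespace K731.RepPts

/-- If `X` represents a presheaf of groups `F` then `Hom(T, X) ≃* F(T)`. -/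
theorem homEquiv_mul {D : Type u₁} [Category.{v} D] [CartesianMonoidalCategory D] {X : D}
    (F : Dᵒᵖ ⥤ GrpCat.{w}) (α : (F ⋙ forget _).RepresentableBy X) {T : D} (a b : T ⟶ X) :
    letI := GrpObj.ofRepresentableBy X F α
    α.homEquiv' (a * b) = α.homEquiv' a * α.homEquiv' b := by
  change α.homEquiv' (lift a b ≫ α.homEquiv'.symm (α.homEquiv' (fst X X) *
    α.homEquiv' (snd X X))) = α.homEquiv' a * α.homEquiv' b
  simp only [α.homEquiv'_comp, Equiv.apply_symm_apply, map_mul]
  simp only [← α.homEquiv'_comp]
  simp

variable {K : Precoverage Scheme.{u}} {S : Scheme.{u}} [(QuotSh.J K S).Subcanonical]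

section

variable (G : BigSite.Ab K S) (G' : Over S) (e : ∀ T : Over S, (T ⟶ G') ≃ G.obj.obj (op T))
  (he : ∀ {T T' : Over S} (f : T' ⟶ T) (x : T ⟶ G'), e T' (f ≫ x) = G.obj.map f.op (e T x))

/-- the represented presheaf of commutative groups -/
noncomputable def psh : (Over S)ᵒᵖ ⥤ CommGrpCat.{u + 1} := G.obj ⋙ AddCommGrpCat.toCommGrp

/-- the representation -/
noncomputable def rep : (psh G ⋙ forget _).RepresentableBy G' where
  homEquiv {T} := (e T).trans Multiplicative.ofAdd
  homEquiv_comp {T T'} f x := congrArg Multiplicative.ofAdd (he f x)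

end

/-- A representable abelian sheaf comes from a commutative group scheme. -/
theorem exists_grpObj (G : BigSite.Ab K S) (G' : Over S) (e : ∀ T : Over S, (T ⟶ G') ≃ G.obj.obj (op T))
    (he : ∀ {T T' : Over S} (f : T' ⟶ T) (x : T ⟶ G'), e T' (f ≫ x) = G.obj.map f.op (e T x)) :
    ∃ (_ : GrpObj G') (_ : IsCommMonObj G') (i : pts K G' ≅ G),
      ∀ (T : Over S) (x : T ⟶ G'), i.hom.hom.app (op T) (ULift.up (Additive.ofMul x)) = e T x := by
  let c : CommGrpObj G' := CommGrpObj.ofRepresentableBy G' (psh G) (rep G G' e @he)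
  let g : GrpObj G' := c.toGrpObj
  have g' : IsCommMonObj G' := c.toIsCommMonObj
  have hmul : ∀ (T : Over S) (x y : T ⟶ G'), e T (x * y) = e T x + e T y := by
    intro T x y
    exact homEquiv_mul (psh G ⋙ forget₂ CommGrpCat GrpCat) (rep G G' e @he) x y
  let E : ∀ T : (Over S)ᵒᵖ, (pts K G').obj.obj T ≅ G.obj.obj T := fun T =>
    AddEquiv.toAddCommGrpIso
      { toFun := fun x => e (unop T) x.down.toMul
        invFun := fun y => ULift.up (Additive.ofMul ((e (unop T)).symm y))
        left_inv := fun x => by
          apply ULift.ext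
          change Additive.ofMul ((e (unop T)).symm (e (unop T) x.down.toMul)) = _
          rw [Equiv.symm_apply_apply]
          rfl
        right_inv := fun y => by
          change e (unop T) ((e (unop T)).symm y) = y
          rw [Equiv.apply_symm_apply]
        map_add' := fun x y => hmul _ _ _ }
  let i : (pts K G').obj ≅ G.obj := NatIso.ofComponents E (fun {T T'} f => by
    ext x
    exact he f.unop x.down.toMul)
  refine ⟨g, g', (fullyFaithfulSheafToPresheaf _ _).preimageIso i, fun T x => rfl⟩

end K731.RepPts
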