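import Groth.Prelude.Def_CGrpSh
import Groth.Prelude.Def_AlgGrp
import Mathlib.CategoryTheory.Sites.EpiMono

/-! Basic facts on sheaves of points of commutative group schemes: epimorphisms are locally
surjective, in terms of covering families; exactness from a kernel. -/

set_option autoImplicit false
universe u
open CategoryTheory CategoryTheory.Limits MonoidalCategory CartesianMonoidalCategory MonObj AlgebraicGeometry
open CGrpSh Opposite

namespace K731.Basic

variable {K : Precoverage Scheme.{u}}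

/-- A covering sieve of the big site contains the arrows of a family of `K`. -/
theorem exists_mem_of_mem_J [K.IsStableUnderComposition] [K.IsStableUnderBaseChange] [K.HasPullbacks]
    [K.HasIsos] {S : Scheme.{u}} {T : Over S} {R : Sieve T} (hR : R ∈ QuotSh.J K S T) :
    ∃ P ∈ K T.left, ∀ ⦃Y : Scheme.{u}⦄ (f : Y ⟶ T.left), P f →
      R (Over.homMk f : Over.mk (f ≫ T.hom) ⟶ T) := by
  rw [QuotSh.J, GrothendieckTopology.mem_over_iff,
    Precoverage.mem_toGrothendieck_iff_of_isStableUnderComposition] at hR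
  obtain ⟨P, hP, hle⟩ := hR
  refine ⟨P, hP, fun Y f hf => ?_⟩
  exact (Sieve.overEquiv_iff _ _).mp (hle _ _ hf)

/-- Epimorphisms of abelian sheaves are locally surjective. -/
theorem exists_lift_of_epi {S : Scheme.{u}} {A B : BigSite.Ab K S} (φ : A ⟶ B) [Epi φ]
    (T : Over S) (b : B.obj.obj (op T)) :
    ∃ R ∈ QuotSh.J K S T, ∀ ⦃Y : Over S⦄ (f : Y ⟶ T), R f →
      ∃ a : A.obj.obj (op Y), φ.hom.app (op Y) a = B.obj.map f.op b := by
  have h : Sheaf.IsLocallySurjective φ := (Sheaf.isLocallySurjective_iff_epi' _ φ).mpr inferInstance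
  exact ⟨_, Presheaf.imageSieve_mem (QuotSh.J K S) φ.hom b, fun Y f hf => hf⟩

theorem epi_of_exists_lift {S : Scheme.{u}} {A B : BigSite.Ab K S} (φ : A ⟶ B)
    (H : ∀ (T : Over S) (b : B.obj.obj (op T)), ∃ R ∈ QuotSh.J K S T, ∀ ⦃Y : Over S⦄ (f : Y ⟶ T), R f →
      ∃ a : A.obj.obj (op Y), φ.hom.app (op Y) a = B.obj.map f.op b) : Epi φ := by
  apply (Sheaf.isLocallySurjective_iff_epi' _ φ).mp
  constructor
  intro U s
  obtain ⟨R, hR, h⟩ := H U s
  exact (QuotSh.J K S).superset_covering (fun Y f hf => h f hf) hR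

/-- Epimorphisms of abelian sheaves are locally surjective (covering families). -/
theorem exists_cover_of_epi [K.IsStableUnderComposition] [K.IsStableUnderBaseChange] [K.HasPullbacks]
    [K.HasIsos] {S : Scheme.{u}} {A B : BigSite.Ab K S} (φ : A ⟶ B) [Epi φ]
    (T : Over S) (b : B.obj.obj (op T)) :
    ∃ P ∈ K T.left, ∀ ⦃Y : Scheme.{u}⦄ (f : Y ⟶ T.left), P f →
      ∃ a : A.obj.obj (op (Over.mk (f ≫ T.hom))),
        φ.hom.app _ a = B.obj.map (Over.homMk f : Over.mk (f ≫ T.hom) ⟶ T).op b := by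
  obtain ⟨R, hR, h⟩ := exists_lift_of_epi φ T b
  obtain ⟨P, hP, h'⟩ := exists_mem_of_mem_J hR
  exact ⟨P, hP, fun Y f hf => h _ (h' f hf)⟩

theorem mem_J_of_mem {S : Scheme.{u}} {T : Over S} {P : Presieve T.left} (hP : P ∈ K T.left) :
    (Sieve.overEquiv T).symm (Sieve.generate P) ∈ QuotSh.J K S T := by
  rw [QuotSh.J, GrothendieckTopology.mem_over_iff]
  simpa using Precoverage.generate_mem_toGrothendieck hP

theorem epi_of_exists_cover {S : Scheme.{u}} {A B : BigSite.Ab K S} (φ : A ⟶ B)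
    (H : ∀ (T : Over S) (b : B.obj.obj (op T)), ∃ P ∈ K T.left, ∀ ⦃Y : Scheme.{u}⦄ (f : Y ⟶ T.left), P f →
      ∃ a : A.obj.obj (op (Over.mk (f ≫ T.hom))),
        φ.hom.app _ a = B.obj.map (Over.homMk f : Over.mk (f ≫ T.hom) ⟶ T).op b) : Epi φ := by
  apply epi_of_exists_lift
  intro T b
  obtain ⟨P, hP, h⟩ := H T b
  refine ⟨_, mem_J_of_mem hP, ?_⟩
  rintro Y f ⟨W, g, q, hq, hgq⟩
  obtain ⟨a, ha⟩ := h q hq
  change Y.left ⟶ W at g
  replace hgq : g ≫ q = f.left := hgq
  let g' : Y ⟶ Over.mk (q ≫ T.hom) := Over.homMk g (by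
    have := Over.w f
    rw [← this, ← hgq, Category.assoc]
    rfl)
  have hg' : g' ≫ Over.homMk q = f := by
    ext1
    exact hgq
  refine ⟨A.obj.map g'.op a, ?_⟩
  have e1 : φ.hom.app (op Y) (A.obj.map g'.op a) = B.obj.map g'.op (φ.hom.app _ a) := by
    have := φ.hom.naturality g'.op
    exact ConcreteCategory.congr_hom this a
  rw [e1, ha, ← ConcreteCategory.comp_apply, ← B.obj.map_comp, ← op_comp, hg']

/-- Monomorphisms of abelian sheaves are injective on sections. -/
theorem injective_of_mono {S : Scheme.{u}} {A B : BigSite.Ab K S} (φ : A ⟶ B) [Mono φ] (T : (Over S)ᵒᵖ) :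
    Function.Injective (φ.hom.app T) := by
  have : Mono ((sheafToPresheaf _ _).map φ) := inferInstance
  have h2 : Mono (((sheafToPresheaf _ _).map φ).app T) := inferInstance
  exact (AddCommGrpCat.mono_iff_injective _).mp h2

theorem mono_of_injective {S : Scheme.{u}} {A B : BigSite.Ab K S} (φ : A ⟶ B)
    (h : ∀ T : (Over S)ᵒᵖ, Function.Injective (φ.hom.app T)) : Mono φ := by
  have : ∀ T, Mono (φ.hom.app T) := fun T => (AddCommGrpCat.mono_iff_injective _).mpr (h T)
  have : Mono φ.hom := NatTrans.mono_of_mono_app _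
  exact (sheafToPresheaf _ _).mono_of_mono_map this

/-- A complex of abelian sheaves whose sections are exact in the middle is exact. -/
theorem exact_of_sections {S : Scheme.{u}} (C : ShortComplex (BigSite.Ab K S))
    (hex : ∀ (T : Over S) (x : C.X₂.obj.obj (op T)), C.g.hom.app _ x = 0 → ∃ a, C.f.hom.app _ a = x) :
    C.Exact := by
  rw [C.exact_iff_epi_toCycles]
  apply epi_of_exists_lift
  intro T b
  refine ⟨⊤, (QuotSh.J K S).top_mem T, fun Y f _ => ?_⟩
  have h0 : C.g.hom.app _ (C.iCycles.hom.app _ (C.cycles.obj.map f.op b)) = 0 := by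
    have := C.iCycles_g
    have h1 : (C.iCycles ≫ C.g).hom.app (op Y) (C.cycles.obj.map f.op b) = 0 := by
      rw [this]; rfl
    exact h1
  obtain ⟨a, ha⟩ := hex _ _ h0
  refine ⟨a, injective_of_mono C.iCycles _ ?_⟩
  rw [← ha]
  have h2 : (C.toCycles ≫ C.iCycles).hom.app (op Y) a = C.f.hom.app (op Y) a := by
    rw [C.toCycles_i]
  exact h2

theorem exists_of_exact_of_mono {S : Scheme.{u}} (C : ShortComplex (BigSite.Ab K S)) (hC : C.Exact) [Mono C.f]
    {T : (Over S)ᵒᵖ} (x : C.X₂.obj.obj T) (hx : C.g.hom.app _ x = 0) : ∃ a, C.f.hom.app _ a = x := by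
  let F := sheafToPresheaf (QuotSh.J K S) AddCommGrpCat.{u + 1} ⋙ (evaluation _ _).obj T
  have h1 : (C.map F).Exact ∧ Mono (C.map F).f := by
    rw [ShortComplex.exact_and_mono_f_iff_f_is_kernel]
    obtain ⟨h⟩ := (ShortComplex.exact_and_mono_f_iff_f_is_kernel C).mp ⟨hC, inferInstance⟩
    exact ⟨isLimitForkMapOfIsLimit' F _ h⟩
  have h2 := (ShortComplex.ab_exact_iff _).mp h1.1
  exact h2 x hx

end K731.Basic
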