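import Mathlib.AlgebraicGeometry.Morphisms.ClosedImmersion
import Mathlib.AlgebraicGeometry.PullbackCarrier

/-!
# Affine combinations of infinitesimally close morphisms of schemes

Let `j : U' ⟶ U` be a surjective morphism whose kernel on functions has square zero.  For morphisms
`a b c : U ⟶ X` which agree on `U'` and functions `f g` on `U` there is a morphism `a + f (b - a) + g (c - a)`.
-/

set_option autoImplicit false
universe u

open CategoryTheory CategoryTheory.Limits AlgebraicGeometry Opposite TopologicalSpace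

namespace K731.Comb

section ring

variable {A B : Type*} [CommRing A] [CommRing B]

/-- Combination of ring homomorphisms. -/
@[simps]
def rcomb (a b c : A →+* B) (f g : B) (hb : ∀ s t, (b s - a s) * (b t - a t) = 0)
    (hc : ∀ s t, (c s - a s) * (c t - a t) = 0) (hbc : ∀ s t, (b s - a s) * (c t - a t) = 0) : A →+* B where
  toFun s := a s + f * (b s - a s) + g * (c s - a s)
  map_one' := by simp
  map_zero' := by simp
  map_add' s t := by simp only [map_add]; ring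
  map_mul' s t := by
    have h1 := hb s t
    have h2 := hc s t
    have h3 := hbc s t
    have h4 := hbc t s
    simp only [map_mul]
    linear_combination (f - f ^ 2) * h1 + (g - g ^ 2) * h2 - f * g * h3 - f * g * h4

end ring

variable {U' U X Y : Scheme.{u}}

/-- A surjective morphism whose kernel on functions has square zero. -/
structure SqZ (j : U' ⟶ U) : Prop where
  surj : Function.Surjective j
  sq : ∀ (W : U.Opens) (s t : Γ(U, W)), j.app W s = 0 → j.app W t = 0 → s * t = 0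

variable {j : U' ⟶ U} (hj : SqZ j)

include hj in
theorem SqZ.base_eq {a b : U ⟶ X} (h : j ≫ a = j ≫ b) : a.base = b.base := by
  apply TopCat.hom_ext
  ext x
  obtain ⟨y, rfl⟩ := hj.surj x
  have := congrArg (fun k : U' ⟶ X => k y) h
  simpa using this

include hj in
theorem SqZ.preimage_eq {a b : U ⟶ X} (h : j ≫ a = j ≫ b) (W : X.Opens) : a ⁻¹ᵁ W = b ⁻¹ᵁ W := by
  ext x
  have h1 := congrArg (fun k => (k.hom : U → X) x) (hj.base_eq h)
  change a x ∈ W ↔ b x ∈ W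
  have h2 : a x = b x := h1
  rw [h2]

theorem app_sub {a b : U ⟶ X} (h : j ≫ a = j ≫ b) (W : X.Opens) (V : U.Opens) (ha : V ≤ a ⁻¹ᵁ W)
    (hb : V ≤ b ⁻¹ᵁ W) (s : Γ(X, W)) : j.app V (b.appLE W V hb s - a.appLE W V ha s) = 0 := by
  rw [map_sub, sub_eq_zero, ← CommRingCat.comp_apply, ← CommRingCat.comp_apply]
  simp only [Scheme.Hom.app_eq_appLE, Scheme.Hom.appLE_comp_appLE, h]

theorem appLE_sub {a b : U ⟶ X} (h : j ≫ a = j ≫ b) (W : X.Opens) (V : U.Opens) (O : U'.Opens)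
    (hO : O ≤ j ⁻¹ᵁ V) (ha : V ≤ a ⁻¹ᵁ W)
    (hb : V ≤ b ⁻¹ᵁ W) (s : Γ(X, W)) : j.appLE V O hO (b.appLE W V hb s - a.appLE W V ha s) = 0 := by
  rw [map_sub, sub_eq_zero, ← CommRingCat.comp_apply, ← CommRingCat.comp_apply]
  simp only [Scheme.Hom.appLE_comp_appLE, h]

section comb

variable (a b c : U ⟶ X) (hb : j ≫ a = j ≫ b) (hc : j ≫ a = j ≫ c) (f g : Γ(U, ⊤))

/-- Restriction of a global function. -/
abbrev rs (V : U.Opens) (f : Γ(U, ⊤)) : Γ(U, V) := U.presheaf.map (homOfLE le_top).op f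

/-- The ring homomorphisms of the combination. -/
noncomputable def cr (W : X.Opens) : Γ(X, W) →+* Γ(U, a ⁻¹ᵁ W) :=
  rcomb (a.appLE W (a ⁻¹ᵁ W) le_rfl).hom (b.appLE W (a ⁻¹ᵁ W) (hj.preimage_eq hb W).le).hom
    (c.appLE W (a ⁻¹ᵁ W) (hj.preimage_eq hc W).le).hom (rs _ f) (rs _ g)
    (fun _ _ => hj.sq _ _ _ (app_sub hb _ _ _ _ _) (app_sub hb _ _ _ _ _))
    (fun _ _ => hj.sq _ _ _ (app_sub hc _ _ _ _ _) (app_sub hc _ _ _ _ _))
    (fun _ _ => hj.sq _ _ _ (app_sub hb _ _ _ _ _) (app_sub hc _ _ _ _ _))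

theorem cr_apply (W : X.Opens) (s : Γ(X, W)) : cr hj a b c hb hc f g W s =
    a.appLE W (a ⁻¹ᵁ W) le_rfl s +
      rs _ f * (b.appLE W (a ⁻¹ᵁ W) (hj.preimage_eq hb W).le s - a.appLE W (a ⁻¹ᵁ W) le_rfl s) +
      rs _ g * (c.appLE W (a ⁻¹ᵁ W) (hj.preimage_eq hc W).le s - a.appLE W (a ⁻¹ᵁ W) le_rfl s) := rfl

theorem map_cr {W W' : X.Opens} (i : W' ≤ W) (V : U.Opens) (hV : V ≤ a ⁻¹ᵁ W') (s : Γ(X, W)) :
    U.presheaf.map (homOfLE (hV.trans (show a ⁻¹ᵁ W' ≤ a ⁻¹ᵁ W from fun _ h => i h))).op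
      (cr hj a b c hb hc f g W s) =
    U.presheaf.map (homOfLE hV).op (cr hj a b c hb hc f g W' (X.presheaf.map (homOfLE i).op s)) := by
  rw [cr_apply, cr_apply]
  simp only [map_add, map_mul, map_sub, rs, ← CommRingCat.comp_apply, ← Functor.map_comp, ← op_comp,
    Scheme.Hom.appLE_map, Scheme.Hom.map_appLE, homOfLE_comp]

/-- The underlying morphism of presheafed spaces. -/
noncomputable def pcomb : U.toPresheafedSpace.Hom X.toPresheafedSpace where
  base := a.base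
  c :=
    { app W := CommRingCat.ofHom (cr hj a b c hb hc f g W.unop)
      naturality := by
        intro W W' i
        ext s
        have := map_cr hj a b c hb hc f g i.unop.le (a ⁻¹ᵁ W'.unop) le_rfl s
        have h2 : (homOfLE (le_refl (a ⁻¹ᵁ W'.unop))).op = 𝟙 _ := rfl
        rw [h2, U.presheaf.map_id] at this
        exact this.symm }

theorem isUnit_germ_iff {V : U.Opens} (x : U) (hx : x ∈ V) (s t : Γ(U, V)) (h : (t - s) * (t - s) = 0)
    (ht : IsUnit (U.presheaf.germ V x hx t)) : IsUnit (U.presheaf.germ V x hx s) := by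
  set γ := U.presheaf.germ V x hx
  have h1 : (γ t - γ s) * (γ t - γ s) = 0 := by
    rw [← map_sub, ← map_mul, h, map_zero]
  have h2 : IsUnit (γ t * γ t) := ht.mul ht
  have h3 : γ s * (2 * γ t - γ s) = γ t * γ t := by linear_combination -h1
  rw [← h3] at h2
  exact isUnit_of_mul_isUnit_left h2

theorem sq_cr (W : X.Opens) (s : Γ(X, W)) :
    (cr hj a b c hb hc f g W s - a.appLE W (a ⁻¹ᵁ W) le_rfl s) *
      (cr hj a b c hb hc f g W s - a.appLE W (a ⁻¹ᵁ W) le_rfl s) = 0 := by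
  rw [cr_apply]
  have h1 := hj.sq _ _ _ (app_sub hb W _ le_rfl (hj.preimage_eq hb W).le s) (app_sub hb W _ le_rfl (hj.preimage_eq hb W).le s)
  have h2 := hj.sq _ _ _ (app_sub hc W _ le_rfl (hj.preimage_eq hc W).le s) (app_sub hc W _ le_rfl (hj.preimage_eq hc W).le s)
  have h3 := hj.sq _ _ _ (app_sub hb W _ le_rfl (hj.preimage_eq hb W).le s) (app_sub hc W _ le_rfl (hj.preimage_eq hc W).le s)
  linear_combination (rs _ f) ^ 2 * h1 + (rs _ g) ^ 2 * h2 + 2 * rs _ f * rs _ g * h3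

/-- The combination `a + f (b - a) + g (c - a)`. -/
noncomputable def comb : U ⟶ X where
  toHom := pcomb hj a b c hb hc f g
  prop x := by
    constructor
    intro z hz
    obtain ⟨W, hW, s, rfl⟩ := X.presheaf.exists_germ_eq z
    have h1 : (pcomb hj a b c hb hc f g).stalkMap x (X.presheaf.germ W _ hW s) =
        U.presheaf.germ (a ⁻¹ᵁ W) x hW (cr hj a b c hb hc f g W s) :=
      PresheafedSpace.stalkMap_germ_apply (pcomb hj a b c hb hc f g) W x hW s
    have h2 : IsUnit (U.presheaf.germ (a ⁻¹ᵁ W) x hW (cr hj a b c hb hc f g W s)) := h1 ▸ hz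
    have h3 := isUnit_germ_iff x hW _ _ (sq_cr hj a b c hb hc f g W s) h2
    have h4 : (a.stalkMap x) (X.presheaf.germ W (a x) hW s) =
        U.presheaf.germ (a ⁻¹ᵁ W) x hW (a.appLE W (a ⁻¹ᵁ W) le_rfl s) := by
      rw [Scheme.Hom.appLE_eq_app]
      exact Scheme.Hom.germ_stalkMap_apply a W x hW s
    rw [← h4] at h3
    exact isUnit_of_map_unit (a.stalkMap x).hom _ h3

theorem comb_base : (comb hj a b c hb hc f g).base = a.base := rfl

theorem comb_app (W : X.Opens) (s : Γ(X, W)) :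
    (comb hj a b c hb hc f g).app W s = cr hj a b c hb hc f g W s := rfl

theorem comb_appLE (W : X.Opens) (V : U.Opens) (h : V ≤ a ⁻¹ᵁ W) (hb' : V ≤ b ⁻¹ᵁ W) (hc' : V ≤ c ⁻¹ᵁ W)
    (s : Γ(X, W)) :
    (comb hj a b c hb hc f g).appLE W V h s =
      a.appLE W V h s + rs V f * (b.appLE W V hb' s - a.appLE W V h s) +
        rs V g * (c.appLE W V hc' s - a.appLE W V h s) := by
  have h0 : (comb hj a b c hb hc f g).appLE W V h s =
      U.presheaf.map (homOfLE h).op (cr hj a b c hb hc f g W s) := rfl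
  rw [h0, cr_apply]
  simp only [map_add, map_mul, map_sub, rs, ← CommRingCat.comp_apply, ← Functor.map_comp, ← op_comp,
    Scheme.Hom.appLE_map, homOfLE_comp]

end comb

theorem appLE_comp_apply (p : U ⟶ X) (q : X ⟶ Y) (W : Y.Opens) (V : X.Opens) (O : U.Opens) (e₁ : V ≤ q ⁻¹ᵁ W)
    (e₂ : O ≤ p ⁻¹ᵁ V) (e₃ : O ≤ (p ≫ q) ⁻¹ᵁ W) (s : Γ(Y, W)) :
    (p ≫ q).appLE W O e₃ s = p.appLE V O e₂ (q.appLE W V e₁ s) := by
  rw [← CommRingCat.comp_apply, Scheme.Hom.appLE_comp_appLE]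

theorem rs_appLE (p : U ⟶ X) (V : X.Opens) (O : U.Opens) (h : O ≤ p ⁻¹ᵁ V) (f : Γ(X, ⊤)) :
    p.appLE V O h (rs V f) = rs O (p.appTop f) := by
  rw [rs, ← CommRingCat.comp_apply, Scheme.Hom.map_appLE]
  rfl

theorem hom_ext {a b : U ⟶ X} (h : a.base = b.base)
    (h2 : ∀ (W : X.Opens) (V : U.Opens) (ha : V ≤ a ⁻¹ᵁ W) (hb : V ≤ b ⁻¹ᵁ W) (s : Γ(X, W)),
      a.appLE W V ha s = b.appLE W V hb s) : a = b := by
  refine Scheme.Hom.ext h fun W => ?_
  ext s
  have hW : b ⁻¹ᵁ W = a ⁻¹ᵁ W := congr((Opens.map $h.symm).obj W)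
  have := h2 W (b ⁻¹ᵁ W) hW.le le_rfl s
  rw [Scheme.Hom.appLE_eq_app b] at this
  exact this

include hj in
/-- Extensionality for infinitesimally close morphisms. -/
theorem SqZ.hom_ext {a b : U ⟶ X} (h : j ≫ a = j ≫ b)
    (h2 : ∀ (W : X.Opens) (V : U.Opens) (ha : V ≤ a ⁻¹ᵁ W) (hb : V ≤ b ⁻¹ᵁ W) (s : Γ(X, W)),
      a.appLE W V ha s = b.appLE W V hb s) : a = b :=
  Comb.hom_ext (hj.base_eq h) h2

section lemmas

variable {a b c : U ⟶ X} (hb : j ≫ a = j ≫ b) (hc : j ≫ a = j ≫ c) (f g : Γ(U, ⊤))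

theorem j_comb : j ≫ comb hj a b c hb hc f g = j ≫ a := by
  refine hom_ext rfl fun W V h1 h2 s => ?_
  rw [appLE_comp_apply j (comb hj a b c hb hc f g) W (a ⁻¹ᵁ W) V le_rfl h1 h1,
    appLE_comp_apply j a W (a ⁻¹ᵁ W) V le_rfl h1 h2,
    comb_appLE hj a b c hb hc f g W (a ⁻¹ᵁ W) le_rfl (hj.preimage_eq hb W).le (hj.preimage_eq hc W).le]
  rw [map_add, map_add, map_mul, map_mul, appLE_sub hb, appLE_sub hc, mul_zero, mul_zero, add_zero, add_zero]

/-- Characterisation of the combination. -/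
theorem eq_comb {d : U ⟶ X} (hd : j ≫ a = j ≫ d)
    (h : ∀ (W : X.Opens) (V : U.Opens) (ha : V ≤ a ⁻¹ᵁ W) (hb' : V ≤ b ⁻¹ᵁ W) (hc' : V ≤ c ⁻¹ᵁ W)
      (hd' : V ≤ d ⁻¹ᵁ W) (s : Γ(X, W)),
      d.appLE W V hd' s = a.appLE W V ha s + rs V f * (b.appLE W V hb' s - a.appLE W V ha s) +
        rs V g * (c.appLE W V hc' s - a.appLE W V ha s)) :
    d = comb hj a b c hb hc f g := by
  refine hj.hom_ext (hd.symm.trans (j_comb hj hb hc f g).symm) fun W V hd' ha s => ?_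
  have ha' : V ≤ a ⁻¹ᵁ W := ha
  have hb' : V ≤ b ⁻¹ᵁ W := by rw [← hj.preimage_eq hb W]; exact ha'
  have hc' : V ≤ c ⁻¹ᵁ W := by rw [← hj.preimage_eq hc W]; exact ha'
  rw [comb_appLE hj a b c hb hc f g W V ha' hb' hc', h W V ha' hb' hc' hd']

theorem comb_comp (φ : X ⟶ Y) : comb hj a b c hb hc f g ≫ φ =
    comb hj (a ≫ φ) (b ≫ φ) (c ≫ φ) (by rw [← Category.assoc, hb, Category.assoc])
      (by rw [← Category.assoc, hc, Category.assoc]) f g := by
  refine eq_comb hj _ _ f g ?_ fun W V ha hb' hc' hd' s => ?_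
  · rw [← Category.assoc, ← Category.assoc, j_comb]
  · have ha1 : V ≤ a ⁻¹ᵁ (φ ⁻¹ᵁ W) := ha
    have hb1 : V ≤ b ⁻¹ᵁ (φ ⁻¹ᵁ W) := hb'
    have hc1 : V ≤ c ⁻¹ᵁ (φ ⁻¹ᵁ W) := hc'
    rw [Scheme.Hom.comp_appLE, Scheme.Hom.comp_appLE, Scheme.Hom.comp_appLE, Scheme.Hom.comp_appLE]
    exact comb_appLE hj a b c hb hc f g _ V ha1 hb1 hc1 _

variable {V V' : Scheme.{u}} {j' : V' ⟶ V} (hj' : SqZ j') (p : V ⟶ U) (q : V' ⟶ U') (w : j' ≫ p = q ≫ j)

include w in
theorem comp_agree {a b : U ⟶ X} (hb : j ≫ a = j ≫ b) : j' ≫ (p ≫ a) = j' ≫ (p ≫ b) := by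
  rw [← Category.assoc, ← Category.assoc, w, Category.assoc, Category.assoc, hb]

theorem comp_comb : p ≫ comb hj a b c hb hc f g =
    comb hj' (p ≫ a) (p ≫ b) (p ≫ c) (comp_agree p q w hb) (comp_agree p q w hc)
      (p.appTop f) (p.appTop g) := by
  refine eq_comb hj' _ _ _ _ ?_ fun W O ha hb' hc' hd' s => ?_
  · rw [← Category.assoc, ← Category.assoc, w, Category.assoc, Category.assoc, j_comb]
  · have hp : O ≤ p ⁻¹ᵁ (a ⁻¹ᵁ W) := ha
    rw [appLE_comp_apply p (comb hj a b c hb hc f g) W (a ⁻¹ᵁ W) O le_rfl hp hd',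
      appLE_comp_apply p a W (a ⁻¹ᵁ W) O le_rfl hp ha,
      appLE_comp_apply p b W (a ⁻¹ᵁ W) O (hj.preimage_eq hb W).le hp hb',
      appLE_comp_apply p c W (a ⁻¹ᵁ W) O (hj.preimage_eq hc W).le hp hc',
      comb_appLE hj a b c hb hc f g W (a ⁻¹ᵁ W) le_rfl (hj.preimage_eq hb W).le (hj.preimage_eq hc W).le]
    simp only [map_add, map_mul, map_sub]
    rw [rs_appLE, rs_appLE]

end lemmas

section special

theorem comb_congr {a b c a' b' c' : U ⟶ X} {hb : j ≫ a = j ≫ b} {hc : j ≫ a = j ≫ c} {f g : Γ(U, ⊤)}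
    (ha : a = a') (hb0 : b = b') (hc0 : c = c') :
    comb hj a b c hb hc f g = comb hj a' b' c' (by rw [← ha, ← hb0]; exact hb) (by rw [← ha, ← hc0]; exact hc) f g := by
  subst ha hb0 hc0
  rfl

theorem comb_const {a b c : U ⟶ X} {hb : j ≫ a = j ≫ b} {hc : j ≫ a = j ≫ c} {f g : Γ(U, ⊤)}
    (hb0 : b = a) (hc0 : c = a) : comb hj a b c hb hc f g = a := by
  subst hb0 hc0
  refine (eq_comb hj _ _ f g rfl fun W V ha hb' hc' hd' s => ?_).symm
  simp

theorem comb_one_left {a b c : U ⟶ X} {hb : j ≫ a = j ≫ b} {hc : j ≫ a = j ≫ c} {g : Γ(U, ⊤)}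
    (hc0 : c = a) : comb hj a b c hb hc 1 g = b := by
  subst hc0
  refine (eq_comb hj _ _ 1 g hb fun W V ha hb' hc' hd' s => ?_).symm
  simp [rs]

theorem comb_one_right {a b c : U ⟶ X} {hb : j ≫ a = j ≫ b} {hc : j ≫ a = j ≫ c} {f : Γ(U, ⊤)}
    (hb0 : b = a) : comb hj a b c hb hc f 1 = c := by
  subst hb0
  refine (eq_comb hj _ _ f 1 hc fun W V ha hb' hc' hd' s => ?_).symm
  simp [rs]

end special

end K731.Comb
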