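import Groth.Agent.CGrpSh.K731.QBC
import Groth.Agent.AlgSp.K612.PullLoc
import Groth.Agent.AlgSp.K612.QcPull
import Groth.Agent.AlgSp.K612.UL
import Groth.Agent.AlgSp.K612.Post
import Groth.Agent.AlgSp.K644.CohAff

/-!
# The small étale site of a scheme inside its big site
-/

set_option autoImplicit false
universe u

open CategoryTheory CategoryTheory.Limits Opposite AlgebraicGeometry

noncomputable section

namespace K731.ESite

open AlgSp K644.Site K644.Psh K644.Alg K644.EtSite K612.PullSec K612.PullTerm K612.PullLoc K612.PullOver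
open Groth.Agent.Etbase.FFExact

variable (T : Scheme.{u})

/-- The final object of the big site as a sheaf. -/
abbrev XT : Sp T := (yon T).obj (Over.mk (𝟙 T))

/-- The final object of the small étale site. -/
def tt : EtOver (XT T) := EtOver.mk (𝟙 _) (repWith_id @Etale (Over.mk (𝟙 T)))

/-- The inclusion of the small étale site. -/
abbrev FF : EtOver (XT T) ⥤ Over T := EtOver.forget (XT T)

def isTerminal_tt : IsTerminal (tt T) :=
  IsTerminal.ofUniqueHom
    (fun E => EtOver.homMk (Over.mkIdTerminal.from E.obj.left) (by
      obtain ⟨k, hk⟩ := (yon T).map_surjective E.obj.hom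
      change (yon T).map _ ≫ 𝟙 _ = E.obj.hom
      rw [← hk, Category.comp_id]
      congr 1
      exact Over.mkIdTerminal.hom_ext _ _))
    (fun E m => EtOver.hom_ext _ _ (Over.mkIdTerminal.hom_ext _ _))

instance : PreservesLimitsOfShape (Discrete PEmpty.{1}) (FF T) := by
  have : PreservesLimit (Functor.empty.{0} (EtOver (XT T))) (FF T) :=
    preservesLimit_of_preserves_limit_cone (isTerminal_tt T)
      ((isLimitMapConeEmptyConeEquiv _ _).symm Over.mkIdTerminal)
  exact preservesLimitsOfShape_pempty_of_preservesTerminal _

instance : HasFiniteLimits (EtOver (XT T)) :=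
  have : HasTerminal (EtOver (XT T)) := (isTerminal_tt T).hasTerminal
  hasFiniteLimits_of_hasTerminal_and_pullbacks

instance : PreservesFiniteLimits (FF T) :=
  preservesFiniteLimits_of_preservesTerminal_and_pullbacks _

/-- The topology of the big fppf site. -/
abbrev JT : GrothendieckTopology (Over T) := QuotSh.J Scheme.fppfPrecoverage T

theorem coverPreserving : CoverPreserving (etTop (XT T)) (JT T) (FF T) where
  cover_preserve {E S} hS := by
    change _ ∈ QuotSh.J (Scheme.precoverage K570.Local.Qf) T _
    rw [K570.Cov.mem_J_iff]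
    intro x
    obtain ⟨Y, g, y, hg, hy⟩ := (mem_etTop_iff S).1 hS x
    refine ⟨(FF T).obj Y, (FF T).map g, ?_, ?_, ⟨y, hy⟩⟩
    · exact Sieve.image_mem_functorPushforward _ _ hg
    · have : Etale (mor g) := inferInstance
      exact ⟨inferInstanceAs (Flat (mor g)), inferInstanceAs (LocallyOfFinitePresentation (mor g))⟩

instance : (FF T).IsContinuous (etTop (XT T)) (JT T) := by
  have : RepresentablyFlat (FF T) := flat_of_preservesFiniteLimits _
  exact Functor.isContinuous_of_coverPreserving (compatiblePreservingOfFlat _ _) (coverPreserving T)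

instance (E : EtOver (XT T)) :
    (Over.post (X := E) (FF T)).IsContinuous ((etTop (XT T)).over E) ((JT T).over ((FF T).obj E)) :=
  K612.Post.isContinuous_post' _ _ _ _

/-- The structure sheaf of the big site. -/
abbrev RB : Sheaf (JT T) RingCat.{u + 1} := BigSite.ORing Scheme.fppfPrecoverage T

/-- The structure sheaf of the small site, by restriction. -/
abbrev RS : Sheaf (etTop (XT T)) RingCat.{u + 1} :=
  ((FF T).sheafPushforwardContinuous RingCat.{u + 1} (etTop (XT T)) (JT T)).obj (RB T)

/-- The comparison of structure sheaves. -/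
abbrev φT : RS T ⟶ ((FF T).sheafPushforwardContinuous RingCat.{u + 1} (etTop (XT T)) (JT T)).obj (RB T) := 𝟙 _

instance strS : Str (EtOver.toScheme (XT T)) (RS T).obj where
  ρ U := Str.ρ (T := Over.forget T) (R := (RB T).obj) ((FF T).obj U)
  nat g a := Str.nat (T := Over.forget T) (R := (RB T).obj) ((FF T).map g) a

/-- The comparison is induced by morphisms of schemes. -/
def PT : SchHom (EtOver.toScheme (XT T)) (Over.forget T) (φT T) where
  p := 𝟙 _
  compat c a := by
    change _ = Str.ρ (T := Over.forget T) (R := (RB T).obj) ((FF T).obj c) ((𝟙 (sch c) : sch c ⟶ sch c).appTop.hom a)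
    rw [Scheme.Hom.id_appTop]
    rfl

instance : (SheafOfModules.pushforward.{u + 1} (φT T)).IsRightAdjoint := inferInstance

instance (E : EtOver (XT T)) : (SheafOfModules.pushforward.{u + 1} (ringOver (φT T) E)).IsRightAdjoint := by
  infer_instance

end K731.ESite
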