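import Groth.Agent.CGrpSh.K731.FibRep
import Groth.Agent.Sga3.H828.FpqcRep

/-! Representability of extensions of commutative group schemes by affine ones (as fpqc sheaves). -/

set_option autoImplicit false
universe u w
open CategoryTheory CategoryTheory.Limits MonoidalCategory CartesianMonoidalCategory MonObj AlgebraicGeometry
open CGrpSh Opposite

namespace K731.ExtRep

open K731.Fib K731.FibRep Groth.Agent.Desc.SecPresheaf Groth.Agent.Picfga.OverRep Groth.Agent.Desc.SecFunctor

variable {K : Precoverage Scheme.{u}} {S : Scheme.{u}} [(QuotSh.J K S).Subcanonical]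
variable {F : Over S} [GrpObj F] [IsCommMonObj F] {X : Over S} [GrpObj X] [IsCommMonObj X]
variable {B : BigSite.Ab K S} (a : pts K F ⟶ B) (b : B ⟶ pts K X) (w : a ≫ b = 0)

section

include w in
theorem ab_zero {T : (Over S)ᵒᵖ} (x : (pts K F).obj.obj T) : b.hom.app T (a.hom.app T x) = 0 := by
  have h : (a ≫ b).hom.app T x = 0 := by rw [w]; rfl
  exact h

variable (hex : (ShortComplex.mk a b w).Exact) [hm : Mono a]

include hex hm in
theorem exists_of_b_zero {T : (Over S)ᵒᵖ} (x : B.obj.obj T) (hx : b.hom.app T x = 0) :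
    ∃ y, a.hom.app T y = x :=
  haveI : Mono (ShortComplex.mk a b w).f := hm
  Basic.exists_of_exact_of_mono (ShortComplex.mk a b w) hex x hx

include hex hm in
theorem small_fib_of_exact : FunctorToTypes.Small.{u} (fib b) := by
  apply small_fib
  intro T
  have hs : Function.Surjective (fun x : (T ⟶ F) =>
      (⟨a.hom.app (op T) (ULift.up (Additive.ofMul x)), ab_zero a b w _⟩ :
        {g : B.obj.obj (op T) // b.hom.app _ g = 0})) := by
    rintro ⟨g, hg⟩
    obtain ⟨y, hy⟩ := exists_of_b_zero a b w hex g hg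
    exact ⟨y.down.toMul, Subtype.ext hy⟩
  exact small_of_surjective hs

variable [FunctorToTypes.Small.{u} (fib b)]

/-- the `F`-component of a point of `F ×_S Y` -/
noncomputable def pF {Y : Scheme.{u}} (c : Y ⟶ X.left) {V : Over Y}
    (φ : V ⟶ Over.mk (pullback.snd F.hom (c ≫ X.hom))) : (Over.map X.hom).obj ((Over.map c).obj V) ⟶ F :=
  Over.homMk (φ.left ≫ pullback.fst F.hom (c ≫ X.hom)) (by
    have h : φ.left ≫ pullback.snd F.hom (c ≫ X.hom) = V.hom := Over.w φ
    change (φ.left ≫ pullback.fst F.hom (c ≫ X.hom)) ≫ F.hom = (V.hom ≫ c) ≫ X.hom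
    rw [Category.assoc, pullback.condition, ← Category.assoc, h, Category.assoc])

/-- the restriction of the section -/
noncomputable def resG {Y : Scheme.{u}} (c : Y ⟶ X.left) (g : (fib b).obj (op (Over.mk c))) (V : Over Y) :
    (fib b).obj (op ((Over.map c).obj V)) :=
  (fib b).map (Over.homMk V.hom rfl : (Over.map c).obj V ⟶ Over.mk c).op g

theorem resG_map {Y : Scheme.{u}} (c : Y ⟶ X.left) (g : (fib b).obj (op (Over.mk c))) {V V' : Over Y} (f : V' ⟶ V) :
    resG b c g V' = (fib b).map ((Over.map c).map f).op (resG b c g V) := by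
  have h : (Over.homMk V'.hom rfl : (Over.map c).obj V' ⟶ Over.mk c) =
      (Over.map c).map f ≫ (Over.homMk V.hom rfl : (Over.map c).obj V ⟶ Over.mk c) := by
    ext1
    exact (Over.w f).symm
  rw [resG, resG, ← ConcreteCategory.comp_apply, ← Functor.map_comp, ← op_comp, ← h]

/-- the lift attached to a point of `F ×_S Y` -/
noncomputable def lft {Y : Scheme.{u}} (c : Y ⟶ X.left) (g : (fib b).obj (op (Over.mk c))) {V : Over Y}
    (φ : V ⟶ Over.mk (pullback.snd F.hom (c ≫ X.hom))) : (fib b).obj (op ((Over.map c).obj V)) :=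
  ⟨a.hom.app _ (ULift.up (Additive.ofMul (pF c φ))) + (resG b c g V).1, by
    have h := (resG b c g V).2
    have h0 := ab_zero a b w (T := op ((Over.map X.hom).obj ((Over.map c).obj V)))
      (ULift.up (Additive.ofMul (pF c φ)))
    exact (map_add _ _ _).trans ((congrArg₂ (· + ·) h0 h).trans (zero_add _))⟩

include hex hm in
theorem lft_bijective {Y : Scheme.{u}} (c : Y ⟶ X.left) (g : (fib b).obj (op (Over.mk c))) (V : Over Y) :
    Function.Bijective (lft a b w c g (V := V)) := by
  constructor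
  · intro φ φ' h
    have h1 := add_right_cancel (congrArg Subtype.val h)
    have h2 := Basic.injective_of_mono a _ h1
    have h3 : φ.left ≫ pullback.fst F.hom (c ≫ X.hom) = φ'.left ≫ pullback.fst F.hom (c ≫ X.hom) :=
      congrArg (fun z : ULift.{u + 1} (Additive ((Over.map X.hom).obj ((Over.map c).obj V) ⟶ F)) =>
        z.down.toMul.left) h2
    ext1
    exact pullback.hom_ext h3 ((Over.w φ).trans (Over.w φ').symm)
  · intro x
    obtain ⟨y, hy⟩ := exists_of_b_zero a b w hex (x.1 - (resG b c g V).1) (by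
      have h1 := x.2
      have h2 := (resG b c g V).2
      rw [map_sub, h1.trans h2.symm]
      exact sub_self _)
    let f : (Over.map X.hom).obj ((Over.map c).obj V) ⟶ F := y.down.toMul
    have hf : f.left ≫ F.hom = V.hom ≫ c ≫ X.hom := by
      rw [Over.w f]
      exact Category.assoc _ _ _
    refine ⟨Over.homMk (pullback.lift f.left V.hom hf) (pullback.lift_snd _ _ _), ?_⟩
    apply Subtype.ext
    have h3 : pF c (Over.homMk (pullback.lift f.left V.hom hf) (pullback.lift_snd _ _ _) :
        V ⟶ Over.mk (pullback.snd F.hom (c ≫ X.hom))) = f := by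
      ext1
      exact pullback.lift_fst _ _ _
    change a.hom.app _ (ULift.up (Additive.ofMul (pF c _))) + (resG b c g V).1 = x.1
    rw [h3]
    have h4 : a.hom.app _ (ULift.up (Additive.ofMul f)) = x.1 - (resG b c g V).1 := hy
    rw [h4, sub_add_cancel]

/-- Local representability, in the presence of a section. -/
noncomputable def locRep {Y : Scheme.{u}} (c : Y ⟶ X.left) (g : (fib b).obj (op (Over.mk c))) :
    (restr c (fibS b)).RepresentableBy (Over.mk (pullback.snd F.hom (c ≫ X.hom))) where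
  homEquiv {V} := (Equiv.ofBijective _ (lft_bijective a b w hex c g V)).trans (uns b _).symm
  homEquiv_comp {V V'} f φ := by
    apply (uns b _).injective
    have e1 : uns b ((Over.map c).obj V) ((restr c (fibS b)).map f.op (((Equiv.ofBijective _
        (lft_bijective a b w hex c g V')).trans (uns b _).symm) φ)) = (fib b).map ((Over.map c).map f).op
        (lft a b w c g φ) := by
      refine (uns_map b ((Over.map c).map f) _).trans ?_
      change (fib b).map _ (uns b _ ((uns b _).symm (lft a b w c g φ))) = _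
      rw [Equiv.apply_symm_apply]
    refine Eq.trans ?_ e1.symm
    change uns b _ ((uns b _).symm (lft a b w c g (f ≫ φ))) = _
    rw [Equiv.apply_symm_apply]
    apply Subtype.ext
    rw [fib_map_val]
    change a.hom.app _ (ULift.up (Additive.ofMul (pF c (f ≫ φ)))) + (resG b c g V).1 =
      B.obj.map ((Over.map X.hom).map ((Over.map c).map f)).op
        (a.hom.app _ (ULift.up (Additive.ofMul (pF c φ))) + (resG b c g V').1)
    rw [map_add]
    congr 1
    · have h := ConcreteCategory.congr_hom (a.hom.naturality ((Over.map X.hom).map ((Over.map c).map f)).op)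
        (ULift.up (Additive.ofMul (pF c φ)))
      have h5 : (ULift.up (Additive.ofMul (pF c (f ≫ φ))) :
          (pts K F).obj.obj (op ((Over.map X.hom).obj ((Over.map c).obj V)))) =
          (pts K F).obj.map ((Over.map X.hom).map ((Over.map c).map f)).op (ULift.up (Additive.ofMul (pF c φ))) := by
        apply ULift.ext
        apply congrArg Additive.ofMul
        ext1
        exact Category.assoc _ _ _
      exact (congrArg (a.hom.app (op ((Over.map X.hom).obj ((Over.map c).obj V)))) h5).trans h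
    · rw [resG_map b c g f]
      rfl

end

lemma qaff_of_aff {X Y : Scheme.{u}} (f : X ⟶ Y) [IsAffineHom f] : Mor2.IsQuasiAffine f := by
  refine ⟨inferInstance, fun O hO => ?_⟩
  have : IsAffine (f ⁻¹ᵁ O : Scheme.{u}) := hO.preimage f
  infer_instance

/-- A small fpqc covering over which a lift of the identity exists. -/
theorem exists_cover {S : Scheme.{u}} {X : Over S} [GrpObj X] [IsCommMonObj X]
    {B : BigSite.Ab Scheme.fpqcPrecoverage S} (b : B ⟶ pts Scheme.fpqcPrecoverage X) [Epi b] :
    ∃ (J : Type u) (W : J → Scheme.{u}) (c : ∀ j, W j ⟶ X.left), (∀ j, Flat (c j)) ∧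
      (∀ j, Nonempty ((fib b).obj (op (Over.mk (c j))))) ∧
      (∀ j, CompactSpace (W j)) ∧
      ∀ V : X.left.Opens, IsAffineOpen V → ∃ (n : ℕ) (k : Fin n → J),
        ⋃ i, Set.range (c (k i)) = (V : Set X.left) := by
  obtain ⟨P, hP, h⟩ := Basic.exists_cover_of_epi b X (ULift.up (Additive.ofMul (𝟙 X)))
  obtain ⟨I, Y, f, rfl⟩ := P.exists_eq_ofArrows
  have hflat := ((Scheme.ofArrows_mem_precoverage_iff _).mp hP.2).2
  let E : PreZeroHypercover.{u + 1} X.left := { I₀ := I, X := Y, f := f }
  have hE : QuasiCompactCover E := Scheme.presieve₀_mem_qcPrecoverage_iff.1 hP.1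
  have key := fun V : X.left.affineOpens => QuasiCompactCover.exists_isAffineOpen_of_isCompact E V.2.isCompact
  choose n α V hV hU using key
  refine ⟨Σ U : X.left.affineOpens, Fin (n U), fun j => (V j.1 j.2).toScheme,
    fun j => (V j.1 j.2).ι ≫ f (α j.1 j.2), fun j => ?_, fun j => ?_, fun j => ?_, fun U hU' => ?_⟩
  · have := hflat (α j.1 j.2)
    infer_instance
  · obtain ⟨g, hg⟩ := h (f (α j.1 j.2)) ⟨_⟩
    let g' : (fib b).obj (op (Over.mk (f (α j.1 j.2)))) := ⟨g, by
      refine hg.trans ?_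
      apply ULift.ext
      apply congrArg Additive.ofMul
      ext1
      exact Category.comp_id _⟩
    exact ⟨(fib b).map (Over.homMk (V j.1 j.2).ι rfl :
      Over.mk ((V j.1 j.2).ι ≫ f (α j.1 j.2)) ⟶ Over.mk (f (α j.1 j.2))).op g'⟩
  · have := hV j.1 j.2
    exact isCompact_iff_compactSpace.mp (hV j.1 j.2).isCompact
  · refine ⟨n ⟨U, hU'⟩, fun i => ⟨⟨U, hU'⟩, i⟩, ?_⟩
    rw [← hU ⟨U, hU'⟩]
    congr 1
    funext i
    ext x
    constructor
    · rintro ⟨y, rfl⟩
      exact ⟨(V ⟨U, hU'⟩ i).ι y, y.2, (Scheme.Hom.comp_apply _ _ _).symm⟩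
    · rintro ⟨y, hy, rfl⟩
      exact ⟨⟨y, hy⟩, Scheme.Hom.comp_apply _ _ _⟩

/-- Representability of the presheaf of lifts. -/
theorem exists_rep {S : Scheme.{u}} {F : Over S} [GrpObj F] [IsCommMonObj F] {X : Over S} [GrpObj X]
    [IsCommMonObj X] {B : BigSite.Ab Scheme.fpqcPrecoverage S} (a : pts Scheme.fpqcPrecoverage F ⟶ B)
    (b : B ⟶ pts Scheme.fpqcPrecoverage X) (w : a ≫ b = 0) (hex : (ShortComplex.mk a b w).ShortExact)
    [IsAffineHom F.hom] (P : MorphismProperty Scheme.{u}) [IsZariskiLocalAtTarget P]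
    [P.IsStableUnderBaseChange] [P.DescendsAlong (@Surjective ⊓ @Flat ⊓ @QuasiCompact)] (hP : P F.hom)
    [FunctorToTypes.Small.{u} (fib b)] :
    ∃ E : Over X.left, P E.hom ∧ Nonempty ((fibS b).RepresentableBy E) := by
  have hm : Mono a := hex.mono_f
  have he : Epi b := hex.epi_g
  obtain ⟨J, W, c, hflat, hg, hcpt, hcov⟩ := exists_cover b
  have hsurj : ∀ x : X.left, ∃ (j : J) (y : W j), c j y = x := by
    intro x
    obtain ⟨_, ⟨V, hV, rfl⟩, hxV, -⟩ :=
      X.left.isBasis_affineOpens.exists_subset_of_mem_open (Set.mem_univ x) isOpen_univ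
    obtain ⟨n, k, hk⟩ := hcov V hV
    have : x ∈ ⋃ i, Set.range (c (k i)) := by rw [hk]; exact hxV
    obtain ⟨i, y, hy⟩ := Set.mem_iUnion.mp this
    exact ⟨k i, y, hy⟩
  let f : (∐ W) ⟶ X.left := Sigma.desc c
  have hι : ∀ j, Sigma.ι W j ≫ f = c j := fun j => Sigma.ι_desc _ _
  have hff : Flat f := inferInstanceAs (Flat (Sigma.desc fun j => c j))
  have hfs : Surjective f := by
    constructor
    intro x
    obtain ⟨j, y, hy⟩ := hsurj x
    refine ⟨Sigma.ι W j y, ?_⟩
    rw [← hy, ← hι, Scheme.Hom.comp_apply]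
  refine Groth.Agent.Sga3.H828.FpqcRep.exists_rep_of_fpqcCover (fibS b)
    (isZarSheaf_fibS b Scheme.zariskiPrecoverage_le_fpqcPrecoverage)
    (fun g h1 h2 h3 => isDesc_fibS b g (Scheme.Hom.singleton_mem_fpqcPrecoverage g.left)) P f ?_ ?_
  · intro V hV
    obtain ⟨n, k, hk⟩ := hcov V hV
    refine ⟨⨆ i, (Sigma.ι W (k i)).opensRange, ?_, ?_⟩
    · rw [TopologicalSpace.Opens.coe_iSup]
      apply isCompact_iUnion
      intro i
      have := hcpt (k i)
      exact isCompact_range (Sigma.ι W (k i)).continuous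
    · rw [TopologicalSpace.Opens.coe_iSup, Set.image_iUnion, ← hk]
      congr 1
      funext i
      ext x
      constructor
      · rintro ⟨_, ⟨y, rfl⟩, rfl⟩
        refine ⟨y, ?_⟩
        rw [← hι]
        exact Scheme.Hom.comp_apply _ _ _
      · rintro ⟨y, rfl⟩
        refine ⟨Sigma.ι W (k i) y, ⟨y, rfl⟩, ?_⟩
        rw [← hι]
        exact (Scheme.Hom.comp_apply _ _ _).symm
  · intro x
    obtain ⟨⟨j, y⟩, rfl⟩ := (sigmaMk W).surjective x
    rw [sigmaMk_mk]
    let U : (∐ W).Opens := (Sigma.ι W j).opensRange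
    let r : U.toScheme ⟶ W j := (Sigma.ι W j).isoOpensRange.inv
    have hr : r ≫ Sigma.ι W j = U.ι := (Sigma.ι W j).isoOpensRange_inv_comp
    have hrc : r ≫ c j = U.ι ≫ f := by rw [← hι, ← Category.assoc, hr]
    obtain ⟨g⟩ := hg j
    let g' : (fib b).obj (op (Over.mk (U.ι ≫ f))) :=
      (fib b).map (Over.homMk r hrc : Over.mk (U.ι ≫ f) ⟶ Over.mk (c j)).op g
    refine ⟨U, ⟨y, rfl⟩, Over.mk (pullback.snd F.hom ((U.ι ≫ f) ≫ X.hom)), ?_, ?_, ⟨?_⟩⟩
    · exact MorphismProperty.pullback_snd (P := P) _ _ hP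
    · exact @qaff_of_aff _ _ _ (MorphismProperty.pullback_snd (P := @IsAffineHom) _ _ ‹IsAffineHom F.hom›)
    · exact locRep a b w hex.exact (U.ι ≫ f) g'

end K731.ExtRep
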