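import Groth.Agent.CGrpSh.K731.Full
import Groth.Agent.Desc.SecPresheaf
import Groth.Agent.Picfga.OverRep
import Mathlib.CategoryTheory.ShrinkYoneda

/-! The presheaf on `Over X.left` of lifts of points of `X` along a morphism of abelian sheaves
`B ⟶ pts K X`. -/

set_option autoImplicit false
universe u w
open CategoryTheory CategoryTheory.Limits MonoidalCategory CartesianMonoidalCategory MonObj AlgebraicGeometry
open CGrpSh Opposite

namespace K731.Fib

variable {K : Precoverage Scheme.{u}} {S : Scheme.{u}}

/-- Amalgamation of a compatible family of sections on a covering family. -/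
theorem existsUnique_amalg (B : BigSite.Ab K S) {T : Over S} {I : Type w} (V : I → Over S) (j : ∀ i, V i ⟶ T)
    (hcov : Presieve.ofArrows (fun i => (V i).left) (fun i => (j i).left) ∈ K T.left)
    (x : ∀ i, B.obj.obj (op (V i)))
    (hx : ∀ (i k : I) (W : Over S) (a : W ⟶ V i) (b : W ⟶ V k), a ≫ j i = b ≫ j k →
      B.obj.map a.op (x i) = B.obj.map b.op (x k)) :
    ∃! y : B.obj.obj (op T), ∀ i, B.obj.map (j i).op y = x i := by
  have hJ : Sieve.ofArrows V j ∈ QuotSh.J K S T := by
    rw [QuotSh.J, GrothendieckTopology.mem_over_iff, Sieve.overEquiv_ofArrows]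
    exact Precoverage.generate_mem_toGrothendieck hcov
  have hB : Presieve.IsSheaf (QuotSh.J K S) (B.obj ⋙ forget AddCommGrpCat) := by
    rw [← isSheaf_iff_isSheaf_of_type]
    exact ((sheafCompose (QuotSh.J K S) (forget AddCommGrpCat.{u + 1})).obj B).property
  have h := (Presieve.isSheafFor_iff_generate _).mpr (hB _ hJ)
  exact (Presieve.isSheafFor_arrows_iff (B.obj ⋙ forget AddCommGrpCat) j).mp h x
    (fun i k W a b hab => hx i k W a b hab)

section

variable [(QuotSh.J K S).Subcanonical] {B : BigSite.Ab K S} {X : Over S} [GrpObj X] [IsCommMonObj X]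
  (b : B ⟶ pts K X)

/-- The point of `X` over `U → X`. -/
noncomputable abbrev pt (U : Over X.left) : (Over.map X.hom).obj U ⟶ X := Over.homMk U.hom rfl

/-- The presheaf of lifts. -/
noncomputable def fib : (Over X.left)ᵒᵖ ⥤ Type (u + 1) where
  obj U := {g : B.obj.obj (op ((Over.map X.hom).obj (unop U))) //
    b.hom.app _ g = ULift.up (Additive.ofMul (pt (unop U)))}
  map {U U'} f := ↾fun g => ⟨B.obj.map ((Over.map X.hom).map f.unop).op g.1, by
    have h := ConcreteCategory.congr_hom (b.hom.naturality ((Over.map X.hom).map f.unop).op) g.1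
    have h' : b.hom.app _ (B.obj.map ((Over.map X.hom).map f.unop).op g.1) =
      (pts K X).obj.map ((Over.map X.hom).map f.unop).op (b.hom.app _ g.1) := h
    rw [h', g.2]
    apply ULift.ext
    change Additive.ofMul ((Over.map X.hom).map f.unop ≫ pt (unop U)) = Additive.ofMul (pt (unop U'))
    congr 1
    ext1
    exact Over.w f.unop⟩
  map_id U := by
    ext g
    change B.obj.map ((Over.map X.hom).map (𝟙 (unop U))).op g.1 = g.1
    rw [CategoryTheory.Functor.map_id, op_id, CategoryTheory.Functor.map_id]
    rfl
  map_comp {U U' U''} f f' := by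
    ext g
    change B.obj.map ((Over.map X.hom).map (f'.unop ≫ f.unop)).op g.1 = _
    rw [CategoryTheory.Functor.map_comp, op_comp, CategoryTheory.Functor.map_comp]
    rfl

theorem fib_map_val {U U' : Over X.left} (f : U' ⟶ U) (g : (fib b).obj (op U)) :
    ((fib b).map f.op g).1 = B.obj.map ((Over.map X.hom).map f).op g.1 := rfl

/-- Amalgamation in the presheaf of lifts. -/
theorem existsUnique_fib {T : Over X.left} {I : Type w} (V : I → Over X.left) (j : ∀ i, V i ⟶ T)
    (hcov : Presieve.ofArrows (fun i => (V i).left) (fun i => (j i).left) ∈ K T.left)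
    (x : ∀ i, (fib b).obj (op (V i)))
    (hx : ∀ (i k : I) (W : Over X.left) (a : W ⟶ V i) (c : W ⟶ V k), a ≫ j i = c ≫ j k →
      (fib b).map a.op (x i) = (fib b).map c.op (x k)) :
    ∃! y : (fib b).obj (op T), ∀ i, (fib b).map (j i).op y = x i := by
  obtain ⟨y, hy, hu⟩ := existsUnique_amalg B (fun i => (Over.map X.hom).obj (V i))
    (fun i => (Over.map X.hom).map (j i)) hcov (fun i => (x i).1) (by
      intro i k W a c hac
      have hac' : a.left ≫ (j i).left = c.left ≫ (j k).left := congrArg (fun f => f.left) hac
      let W' : Over X.left := Over.mk (a.left ≫ (V i).hom)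
      have hW : c.left ≫ (V k).hom = a.left ≫ (V i).hom := by
        rw [← Over.w (j i), ← Over.w (j k), ← Category.assoc, ← Category.assoc, hac']
      have h1 := congrArg Subtype.val (hx i k W' (Over.homMk a.left rfl) (Over.homMk c.left hW) (by ext1; exact hac'))
      rw [fib_map_val, fib_map_val] at h1
      let i₀ : W ⟶ (Over.map X.hom).obj W' := Over.homMk (𝟙 _) (by
        change 𝟙 _ ≫ (a.left ≫ (V i).hom) ≫ X.hom = W.hom
        rw [Category.id_comp, Category.assoc]
        exact Over.w a)
      have e0 : a = i₀ ≫ (Over.map X.hom).map (Over.homMk a.left rfl : W' ⟶ V i) := by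
        ext1
        change a.left = 𝟙 _ ≫ a.left
        rw [Category.id_comp]
      have e1 : c = i₀ ≫ (Over.map X.hom).map (Over.homMk c.left hW : W' ⟶ V k) := by
        ext1
        change c.left = 𝟙 _ ≫ c.left
        rw [Category.id_comp]
      rw [e0, e1, op_comp, op_comp, B.obj.map_comp, B.obj.map_comp, ConcreteCategory.comp_apply,
        ConcreteCategory.comp_apply]
      exact congrArg _ h1)
  refine ⟨⟨y, ?_⟩, ?_, ?_⟩
  · refine (existsUnique_amalg (pts K X) (fun i => (Over.map X.hom).obj (V i))
      (fun i => (Over.map X.hom).map (j i)) hcov (fun i => ULift.up (Additive.ofMul (pt (V i)))) ?_).unique ?_ ?_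
    · intro i k W a c hac
      have hac' : a.left ≫ (j i).left = c.left ≫ (j k).left := congrArg (fun f => f.left) hac
      have hW : c.left ≫ (V k).hom = a.left ≫ (V i).hom := by
        rw [← Over.w (j i), ← Over.w (j k), ← Category.assoc, ← Category.assoc, hac']
      apply ULift.ext
      change Additive.ofMul (a ≫ pt (V i)) = Additive.ofMul (c ≫ pt (V k))
      congr 1
      ext1
      exact hW.symm
    · intro i
      have h := ConcreteCategory.congr_hom (b.hom.naturality ((Over.map X.hom).map (j i)).op) y
      have h' : b.hom.app _ (B.obj.map ((Over.map X.hom).map (j i)).op y) =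
        (pts K X).obj.map ((Over.map X.hom).map (j i)).op (b.hom.app _ y) := h
      rw [← h', hy i]
      exact (x i).2
    · intro i
      apply ULift.ext
      change Additive.ofMul ((Over.map X.hom).map (j i) ≫ pt T) = Additive.ofMul (pt (V i))
      congr 1
      ext1
      exact Over.w (j i)
  · intro i
    exact Subtype.ext (hy i)
  · intro z hz
    apply Subtype.ext
    exact hu z.1 fun i => congrArg Subtype.val (hz i)

/-- The presheaf of lifts is small if the kernel of `b` on sections is. -/
theorem small_fib (h : ∀ T : Over S, Small.{u} {g : B.obj.obj (op T) // b.hom.app _ g = 0}) :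
    FunctorToTypes.Small.{u} (fib b) := by
  intro U
  by_cases hne : Nonempty ((fib b).obj U)
  · obtain ⟨g₀⟩ := hne
    have := h ((Over.map X.hom).obj (unop U))
    refine small_of_injective (β := {g : B.obj.obj (op ((Over.map X.hom).obj (unop U))) //
      b.hom.app _ g = 0}) (f := fun g => ⟨g.1 - g₀.1, ?_⟩) ?_
    · have h1 := g.2.trans g₀.2.symm
      rw [map_sub, h1]
      exact sub_self _
    · intro g g' hgg
      apply Subtype.ext
      have := congrArg Subtype.val hgg
      exact sub_left_injective this
  · have : IsEmpty ((fib b).obj U) := not_nonempty_iff.mp hne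
    infer_instance

end

end K731.Fib
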