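import Groth.Agent.CGrpSh.K731.Fib
import Groth.Agent.CGrpSh.K731.RepPts
import Groth.Agent.Desc.SecFunctor

/-! The shrunk presheaf of lifts: sheaf conditions; representability of it over `X` gives representability of
the abelian sheaf over `S`; representability in the presence of a section. -/

set_option autoImplicit false
universe u w
open CategoryTheory CategoryTheory.Limits MonoidalCategory CartesianMonoidalCategory MonObj AlgebraicGeometry
open CGrpSh Opposite

namespace K731.FibRep

open K731.Fib Groth.Agent.Desc.SecPresheaf Groth.Agent.Picfga.OverRep Groth.Agent.Desc.SecFunctor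

variable {K : Precoverage Scheme.{u}} {S : Scheme.{u}}
variable [(QuotSh.J K S).Subcanonical] {B : BigSite.Ab K S} {X : Over S} [GrpObj X] [IsCommMonObj X]
  (b : B ⟶ pts K X) [FunctorToTypes.Small.{u} (fib b)]

/-- The shrunk presheaf of lifts. -/
noncomputable abbrev fibS : (Over X.left)ᵒᵖ ⥤ Type u := FunctorToTypes.shrink.{u} (fib b)

/-- unshrinking -/
noncomputable def uns (U : Over X.left) : (fibS b).obj (op U) ≃ (fib b).obj (op U) := (equivShrink _).symm

theorem uns_map {U U' : Over X.left} (f : U' ⟶ U) (x : (fibS b).obj (op U)) :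
    uns b U' ((fibS b).map f.op x) = (fib b).map f.op (uns b U x) := by
  change (equivShrink _).symm (equivShrink _ ((fib b).map f.op ((equivShrink _).symm x))) = _
  rw [Equiv.symm_apply_apply]
  rfl

theorem existsUnique_fibS {T : Over X.left} {I : Type w} (V : I → Over X.left) (j : ∀ i, V i ⟶ T)
    (hcov : Presieve.ofArrows (fun i => (V i).left) (fun i => (j i).left) ∈ K T.left)
    (x : ∀ i, (fibS b).obj (op (V i)))
    (hx : ∀ (i k : I) (W : Over X.left) (a : W ⟶ V i) (c : W ⟶ V k), a ≫ j i = c ≫ j k →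
      (fibS b).map a.op (x i) = (fibS b).map c.op (x k)) :
    ∃! y : (fibS b).obj (op T), ∀ i, (fibS b).map (j i).op y = x i := by
  obtain ⟨y, hy, hu⟩ := existsUnique_fib b V j hcov (fun i => uns b _ (x i)) (by
    intro i k W a c hac
    rw [← uns_map, ← uns_map, hx i k W a c hac])
  refine ⟨(uns b T).symm y, ?_, ?_⟩
  · intro i
    apply (uns b (V i)).injective
    rw [uns_map, Equiv.apply_symm_apply, hy]
  · intro z hz
    rw [Equiv.eq_symm_apply]
    exact hu _ fun i => by rw [← uns_map, hz]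

theorem isZarSheaf_fibS (hK : Scheme.zariskiPrecoverage ≤ K) : IsZarSheaf (fibS b) := by
  intro T 𝒰 x hx
  exact existsUnique_fibS b 𝒰.V 𝒰.j (hK _ ((Scheme.ofArrows_mem_precoverage_iff _).mpr
    ⟨fun t => 𝒰.covers t, fun i => 𝒰.isOpen i⟩)) x hx

theorem isDesc_fibS {T' T : Over X.left} (g : T' ⟶ T) (hg : Presieve.singleton g.left ∈ K T.left) :
    IsDesc (fibS b) g := by
  have hcov : Presieve.ofArrows (fun _ : PUnit.{1} => T'.left) (fun _ => g.left) ∈ K T.left := by
    rw [Presieve.ofArrows_pUnit]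
    exact hg
  constructor
  · intro a c hac
    exact (existsUnique_fibS b (fun _ : PUnit.{1} => T') (fun _ => g) hcov (fun _ => (fibS b).map g.op a)
      (by
        intro _ _ W z z' hz
        rw [← ConcreteCategory.comp_apply, ← ConcreteCategory.comp_apply, ← Functor.map_comp, ← Functor.map_comp,
          ← op_comp, ← op_comp, hz])).unique (fun _ => rfl) (fun _ => hac.symm)
  · intro a ha
    obtain ⟨y, hy, -⟩ := existsUnique_fibS b (fun _ : PUnit.{1} => T') (fun _ => g) hcov (fun _ => a)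
      (fun _ _ W z z' hz => ha W z z' hz)
    exact ⟨y, hy ⟨⟩⟩

section rep

variable {b} {E : Over X.left} (r : (fibS b).RepresentableBy E)

/-- The lift attached to a morphism to `E`. -/
noncomputable def ev {U : Over X.left} (ψ : U ⟶ E) : B.obj.obj (op ((Over.map X.hom).obj U)) :=
  (uns b U (r.homEquiv ψ)).1

theorem ev_spec {U : Over X.left} (ψ : U ⟶ E) :
    b.hom.app _ (ev r ψ) = ULift.up (Additive.ofMul (pt U)) := (uns b U (r.homEquiv ψ)).2

theorem ev_comp {U U' : Over X.left} (f : U' ⟶ U) (ψ : U ⟶ E) :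
    ev r (f ≫ ψ) = B.obj.map ((Over.map X.hom).map f).op (ev r ψ) := by
  rw [ev, r.homEquiv_comp, uns_map]
  rfl

theorem ev_injective {U : Over X.left} {ψ ψ' : U ⟶ E} (h : ev r ψ = ev r ψ') : ψ = ψ' :=
  r.homEquiv.injective ((uns b U).injective (Subtype.ext h))

theorem exists_ev {U : Over X.left} (g : B.obj.obj (op ((Over.map X.hom).obj U)))
    (hg : b.hom.app _ g = ULift.up (Additive.ofMul (pt U))) : ∃ ψ : U ⟶ E, ev r ψ = g := by
  refine ⟨r.homEquiv.symm ((uns b U).symm ⟨g, hg⟩), ?_⟩
  rw [ev, Equiv.apply_symm_apply]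
  exact congrArg Subtype.val ((uns b U).apply_symm_apply ⟨g, hg⟩)

/-- The comparison from the points of `E` over `S`. -/
noncomputable def eFun (T : Over S) (φ : T ⟶ Over.mk (E.hom ≫ X.hom)) : B.obj.obj (op T) :=
  B.obj.map (Over.homMk (𝟙 _) (by
    change 𝟙 _ ≫ (φ.left ≫ E.hom) ≫ X.hom = T.hom
    rw [Category.id_comp, Category.assoc]
    exact Over.w φ) : T ⟶ (Over.map X.hom).obj (Over.mk (φ.left ≫ E.hom))).op
    (ev r (Over.homMk φ.left : Over.mk (φ.left ≫ E.hom) ⟶ E))

theorem eFun_eq (T : Over S) (φ : T ⟶ Over.mk (E.hom ≫ X.hom)) {U : Over X.left} (i : T ⟶ (Over.map X.hom).obj U)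
    (ψ : U ⟶ E) (h : i.left ≫ ψ.left = φ.left) : eFun r T φ = B.obj.map i.op (ev r ψ) := by
  have hU : i.left ≫ U.hom = φ.left ≫ E.hom := by
    rw [← h, Category.assoc, Over.w ψ]
  let i' : Over.mk (φ.left ≫ E.hom) ⟶ U := Over.homMk i.left hU
  have h1 : (Over.homMk φ.left : Over.mk (φ.left ≫ E.hom) ⟶ E) = i' ≫ ψ := by
    ext1
    exact h.symm
  rw [eFun, h1, ev_comp, ← ConcreteCategory.comp_apply, ← Functor.map_comp, ← op_comp]
  congr 3

theorem eFun_comp {T T' : Over S} (f : T' ⟶ T) (φ : T ⟶ Over.mk (E.hom ≫ X.hom)) :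
    eFun r T' (f ≫ φ) = B.obj.map f.op (eFun r T φ) := by
  rw [eFun_eq r T φ (Over.homMk (𝟙 _) (by
    change 𝟙 _ ≫ (φ.left ≫ E.hom) ≫ X.hom = T.hom
    rw [Category.id_comp, Category.assoc]
    exact Over.w φ) : T ⟶ (Over.map X.hom).obj (Over.mk (φ.left ≫ E.hom)))
    (Over.homMk φ.left : Over.mk (φ.left ≫ E.hom) ⟶ E) (Category.id_comp _),
    ← ConcreteCategory.comp_apply, ← Functor.map_comp, ← op_comp]
  apply eFun_eq
  change (f.left ≫ 𝟙 _) ≫ φ.left = f.left ≫ φ.left
  rw [Category.comp_id]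

theorem b_eFun (T : Over S) (φ : T ⟶ Over.mk (E.hom ≫ X.hom)) :
    b.hom.app _ (eFun r T φ) = ULift.up (Additive.ofMul (φ ≫ Over.homMk E.hom)) := by
  have h := ConcreteCategory.congr_hom (b.hom.naturality (Over.homMk (𝟙 _) (by
    change 𝟙 _ ≫ (φ.left ≫ E.hom) ≫ X.hom = T.hom
    rw [Category.id_comp, Category.assoc]
    exact Over.w φ) : T ⟶ (Over.map X.hom).obj (Over.mk (φ.left ≫ E.hom))).op)
    (ev r (Over.homMk φ.left : Over.mk (φ.left ≫ E.hom) ⟶ E))
  refine Eq.trans h ?_
  rw [ConcreteCategory.comp_apply, ev_spec]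
  apply ULift.ext
  apply congrArg Additive.ofMul
  ext1
  exact Category.id_comp _

theorem eFun_bijective (T : Over S) : Function.Bijective (eFun r T) := by
  constructor
  · intro φ φ' h
    have h1 := (b_eFun r T φ).symm.trans ((congrArg _ h).trans (b_eFun r T φ'))
    have h2 : φ.left ≫ E.hom = φ'.left ≫ E.hom :=
      congrArg (fun z : ULift.{u + 1} (Additive (T ⟶ X)) => z.down.toMul.left) h1
    let i : T ⟶ (Over.map X.hom).obj (Over.mk (φ.left ≫ E.hom)) := Over.homMk (𝟙 _) (by
      change 𝟙 _ ≫ (φ.left ≫ E.hom) ≫ X.hom = T.hom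
      rw [Category.id_comp, Category.assoc]
      exact Over.w φ)
    have : IsIso ((Over.forget _).map i) := inferInstanceAs (IsIso (𝟙 _))
    have : IsIso i := isIso_of_reflects_iso i (Over.forget _)
    rw [eFun_eq r T φ i (Over.homMk φ.left) (Category.id_comp _),
      eFun_eq r T φ' i (Over.homMk φ'.left h2.symm) (Category.id_comp _)] at h
    have h3 := ev_injective r ((AddCommGrpCat.mono_iff_injective (B.obj.map i.op)).mp inferInstance h)
    ext1
    exact congrArg (fun z => z.left) h3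
  · intro g
    let t : T ⟶ X := (b.hom.app _ g).down.toMul
    let U : Over X.left := Over.mk t.left
    let j : (Over.map X.hom).obj U ⟶ T := Over.homMk (𝟙 _) (by
      change 𝟙 _ ≫ T.hom = t.left ≫ X.hom
      rw [Category.id_comp]
      exact (Over.w t).symm)
    let i : T ⟶ (Over.map X.hom).obj U := Over.homMk (𝟙 _) (by
      change 𝟙 _ ≫ t.left ≫ X.hom = T.hom
      rw [Category.id_comp]
      exact Over.w t)
    obtain ⟨ψ, hψ⟩ := exists_ev r (U := U) (B.obj.map j.op g) (by
      have h := ConcreteCategory.congr_hom (b.hom.naturality j.op) g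
      refine Eq.trans h ?_
      rw [ConcreteCategory.comp_apply]
      apply ULift.ext
      apply congrArg Additive.ofMul
      ext1
      exact Category.id_comp _)
    refine ⟨Over.homMk ψ.left (by
      change ψ.left ≫ E.hom ≫ X.hom = T.hom
      rw [← Category.assoc, Over.w ψ]
      exact Over.w t), ?_⟩
    rw [eFun_eq r T _ i ψ (Category.id_comp _), hψ, ← ConcreteCategory.comp_apply, ← Functor.map_comp,
      ← op_comp]
    have h5 : i ≫ j = 𝟙 T := by
      ext1
      exact Category.id_comp _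
    rw [h5, op_id, CategoryTheory.Functor.map_id]
    rfl

end rep

end K731.FibRep
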