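import Groth.Agent.CGrpSh.K731.HRef
import Groth.Agent.Etbase.SieveCartan

/-!
# A vanishing criterion for fppf cohomology of henselian local rings

`CH G`: the Čech cocycles of `G` of positive degree for finite locally free surjective morphisms, over spectra of
local rings which are finite over the base, are coboundaries.  If the base is henselian local and `G` is a sheaf
with `CH G` then `H^n(Spec R, G) = 0` for `n > 0`.
-/

set_option autoImplicit false
universe u

open CategoryTheory CategoryTheory.Limits AlgebraicGeometry Opposite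
open Groth.Agent.Etrest.BigEtSite Groth.Agent.Etrest.FppfCoch Groth.Agent.Etrest.FppfLoc
  Groth.Agent.Etrest.FppfMain Groth.Agent.Sga3B.InfConj K731.SmAlg

namespace K731.HCrit

variable {R : Type u} [CommRing R]

/-- Čech acyclicity over finite local algebras. -/
def CH (G : (Over (Spec (CommRingCat.of R)))ᵒᵖ ⥤ AddCommGrpCat.{u + 1}) : Prop :=
  ∀ (A : Type u) [CommRing A] [IsLocalRing A] [Algebra R A] [Module.Finite R A]
    ⦃T T' : Over (Spec (CommRingCat.of R))⦄ (p : T' ⟶ T) (e : pt R A ⟶ T), FLF p →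
    ∀ (n : ℕ) (c : Fam G (pt R A) T' (n + 1)), IsCoch p e c → IsCocycle p e c →
      ∃ b : Fam G (pt R A) T' n, IsCoch p e b ∧ IsCob p e b c

theorem CH.of_iso {G G' : (Over (Spec (CommRingCat.of R)))ᵒᵖ ⥤ AddCommGrpCat.{u + 1}} (e : G ≅ G') (h : CH G) :
    CH G' := by
  intro A _ _ _ _ T T' p k hp n c hc hz
  obtain ⟨b, hb, hbc⟩ := h A p k hp n (mapF e.inv c) (hc.map _) (hz.map _)
  refine ⟨mapF e.hom b, hb.map _, ?_⟩
  have h1 := hbc.map e.hom
  have h2 : mapF e.hom (mapF e.inv c) = c := by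
    funext W a x
    change e.hom.app (op W) (e.inv.app (op W) (c W a x)) = c W a x
    rw [← ConcreteCategory.comp_apply, ← NatTrans.comp_app, e.inv_hom_id]
    rfl
  rwa [h2] at h1

section Exact

variable {G I Q : (Over (Spec (CommRingCat.of R)))ᵒᵖ ⥤ AddCommGrpCat.{u + 1}} {ι : G ⟶ I} {π : I ⟶ Q}

/-- A cochain `y` of `I` whose image in `Q` is a cocycle can be corrected by a cochain of `G` to a cocycle. -/
theorem correct (h : LeftExact ι π) (hG : CH G) {A : Type u} [CommRing A] [IsLocalRing A] [Algebra R A]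
    [Module.Finite R A] {T T' : Over (Spec (CommRingCat.of R))} {p : T' ⟶ T} {e : pt R A ⟶ T} (hp : FLF p) {n : ℕ}
    (y : Fam I (pt R A) T' n) (hy : IsCoch p e y) (hz : IsCocycle p e (mapF π y)) :
    ∃ w : Fam I (pt R A) T' n, IsCoch p e w ∧ IsCocycle p e w ∧
        ∀ (W : Over (Spec (CommRingCat.of R))) (a : W ⟶ pt R A) (x : Fin (n + 1) → (W ⟶ T')),
          π.app (op W) (w W a x) = π.app (op W) (y W a x) := by
  have h0 : ∀ {W : Over (Spec (CommRingCat.of R))} (a : W ⟶ pt R A) (x : Fin (n + 2) → (W ⟶ T')),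
      Compat p e a x → π.app (op W) (dF y W a x) = 0 := by
    intro W a x hx
    rw [dF, ← dS_mapF]
    exact hz a x hx
  have hzc : IsCoch p e (Groth.Agent.Etrest.FppfMain.pull ι (dF y)) := by
    intro W W' f a x hx
    apply h.inj'
    rw [pull_spec h (dF y) _ _ (h0 _ _ (hx.comp f)), ← hy.dF f a x hx, ← pull_spec h (dF y) _ _ (h0 a x hx)]
    have := ConcreteCategory.congr_hom (ι.naturality f.op) (Groth.Agent.Etrest.FppfMain.pull ι (dF y) W a x)
    rw [ConcreteCategory.comp_apply, ConcreteCategory.comp_apply] at this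
    exact this
  have hzz : IsCocycle p e (Groth.Agent.Etrest.FppfMain.pull ι (dF y)) := by
    intro W a x hx
    apply h.inj
    rw [← dS_mapF]
    have : dS (mapF ι (Groth.Agent.Etrest.FppfMain.pull ι (dF y)) W a) x = dS (dF y W a) x :=
      dS_congr fun i => pull_spec h (dF y) a _ (h0 a _ (hx.face i))
    rw [this]
    exact dS_dS _ _
  obtain ⟨b, hb, hbc⟩ := hG A p e hp n _ hzc hzz
  refine ⟨subF y (mapF ι b), hy.sub (hb.map ι), ?_, ?_⟩
  · intro W a x hx
    rw [dS_subF, dS_mapF, hbc a x hx]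
    have : ι.app (op W) (Groth.Agent.Etrest.FppfMain.pull ι (dF y) W a x) = dF y W a x :=
      pull_spec h (dF y) a x (h0 _ _ hx)
    rw [this]
    exact sub_self _
  · intro W a x
    change π.app (op W) (y W a x - ι.app (op W) (b W a x)) = _
    rw [map_sub, h.comp, sub_zero]

/-- Surjectivity over finite local algebras. -/
theorem surj_local [HenselianLocalRing R] (h : LeftExact ι π) (hG : CH G)
    (hI : Presheaf.IsSheaf (EtFppf.J (Spec (CommRingCat.of R))) I)
    (hQ : Presheaf.IsSheaf (EtFppf.J (Spec (CommRingCat.of R))) Q)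
    (hπ : Presheaf.IsLocallySurjective (EtFppf.J (Spec (CommRingCat.of R))) π)
    (A : Type u) [CommRing A] [IsLocalRing A] [Algebra R A] [Module.Finite R A] (q : Q.obj (op (pt R A))) :
    ∃ s : I.obj (op (pt R A)), π.app (op (pt R A)) s = q := by
  have hA : HenselianLocalRing A := Groth.Agent.S0505.result R A
  have hsv := Presheaf.imageSieve_mem (EtFppf.J (Spec (CommRingCat.of R))) π q
  rw [mem_J_iff] at hsv
  obtain ⟨Y, g, ⟨s, hs⟩, _, _, ⟨y, hy⟩⟩ := hsv (IsLocalRing.closedPoint A)
  obtain ⟨B, _, _, _, l, hfin, hlg, h1, h2, h3, h4⟩ := HRef.exists_ref (A := A) g.left y hy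
  let _ : Algebra R B := ((algebraMap A B).comp (algebraMap R A)).toAlgebra
  have : IsScalarTower R A B := IsScalarTower.of_algebraMap_eq fun _ => rfl
  let b : pt R B ⟶ pt R A := Over.homMk (Spec.map (CommRingCat.ofHom (algebraMap A B))) (by
    change Spec.map _ ≫ Spec.map _ = Spec.map _
    rw [← Spec.map_comp]
    rfl)
  have hb : FLF b := ⟨h1, h2, h3, h4⟩
  let lo : pt R B ⟶ Y := Over.homMk l (by
    rw [← Over.w g, ← Category.assoc, hlg]
    exact Over.w b)
  have hlo : lo ≫ g = b := by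
    ext1
    exact hlg
  let s₂ : I.obj (op (pt R B)) := I.map lo.op s
  have hs₂ : π.app (op (pt R B)) s₂ = Q.map b.op q := by
    rw [nat_apply, hs]
    rw [map_map_apply, hlo]
  let yy : Fam I (pt R A) (pt R B) 0 := fun W c x => I.map (x 0).op s₂
  have hyy : ∀ {W : Over (Spec (CommRingCat.of R))} (c : W ⟶ pt R A) (x : W ⟶ pt R B), x ≫ b = c →
      π.app (op W) (I.map x.op s₂) = Q.map c.op q := by
    intro W c x hx
    rw [nat_apply, hs₂, map_map_apply, hx]
  have hyc : IsCoch b (𝟙 (pt R A)) yy := by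
    intro W W' f c x hx
    exact map_map_apply I f (x 0) s₂
  have hyz : IsCocycle b (𝟙 (pt R A)) (mapF π yy) := by
    intro W c x hx
    rw [dS_zero_eq]
    change π.app (op W) (I.map (x 1).op s₂) - π.app (op W) (I.map (x 0).op s₂) = 0
    have h1 := hx 1
    have h0 := hx 0
    rw [Category.comp_id] at h1 h0
    rw [hyy c (x 1) h1, hyy c (x 0) h0, sub_self]
  obtain ⟨w, hw, hwz, hwπ⟩ := correct h hG hb yy hyc hyz
  obtain ⟨s', hs'⟩ := descend hI hb hw hwz
  refine ⟨s', eq_of_flf hQ hb (e := 𝟙 (pt R A)) _ _ fun W c x hx => ?_⟩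
  rw [← nat_apply, hs' W c x hx, hwπ W c (fun _ => x)]
  rw [Category.comp_id] at hx
  exact hyy c x hx

/-- Surjectivity over finite algebras. -/
theorem surj_finite [HenselianLocalRing R] (h : LeftExact ι π) (hG : CH G)
    (hI : Presheaf.IsSheaf (EtFppf.J (Spec (CommRingCat.of R))) I)
    (hQ : Presheaf.IsSheaf (EtFppf.J (Spec (CommRingCat.of R))) Q)
    (hπ : Presheaf.IsLocallySurjective (EtFppf.J (Spec (CommRingCat.of R))) π)
    (Y : Over (Spec (CommRingCat.of R))) [IsFinite Y.hom] (q : Q.obj (op Y)) :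
    ∃ s : I.obj (op Y), π.app (op Y) s = q := by
  obtain ⟨κ, C, _, _, _, j, hfin, hj1, hj2, hj3⟩ := HRef.exists_decomp Y
  choose s hs using fun i => surj_local h hG hI hQ hπ (C i) (Q.map (j i).op q)
  have hI' : Presheaf.IsSheaf (JE (Spec (CommRingCat.of R))) I := fun E => Presieve.isSheaf_of_le _ (JE_le_J _) (hI E)
  have hQ' : Presheaf.IsSheaf (JE (Spec (CommRingCat.of R))) Q := fun E => Presieve.isSheaf_of_le _ (JE_le_J _) (hQ E)
  obtain ⟨t, ht⟩ := exists_glue hI' j hj1 hj2 hj3 s
  refine ⟨t, eq_of_local hQ' _ _ fun y => ?_⟩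
  obtain ⟨i, w, hw⟩ := hj2 y
  have := hj1 i
  refine ⟨_, j i, inferInstance, ⟨w, hw⟩, ?_⟩
  rw [← nat_apply, ht, hs]

/-- The quotient is Čech acyclic. -/
theorem ch_quotient [HenselianLocalRing R] (h : LeftExact ι π) (hG : CH G) [Injective I]
    (hI : Presheaf.IsSheaf (EtFppf.J (Spec (CommRingCat.of R))) I)
    (hQ : Presheaf.IsSheaf (EtFppf.J (Spec (CommRingCat.of R))) Q)
    (hπ : Presheaf.IsLocallySurjective (EtFppf.J (Spec (CommRingCat.of R))) π) : CH Q := by
  intro A _ _ _ _ T T' p e hp n c hc hz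
  obtain ⟨P, hP⟩ := exists_rep (MorphismProperty.inverseImage @IsFinite (Over.forget _)) p e hp.fin (n + 1)
  have hfin : IsFinite P.Y.hom := by
    have h1 : IsFinite P.π.left := hP
    have h2 : IsFinite (pt R A).hom := by
      change IsFinite (Spec.map _)
      rw [IsFinite.SpecMap_iff]
      exact RingHom.finite_algebraMap.2 inferInstance
    rw [← Over.w P.π]
    infer_instance
  obtain ⟨s, hs⟩ := surj_finite h hG hI hQ hπ P.Y (c P.Y P.π P.y)
  let y : Fam I (pt R A) T' (n + 1) := ofSec P s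
  have hy : IsCoch p e y := isCoch_ofSec P s
  have hπy : ∀ {W : Over (Spec (CommRingCat.of R))} (a : W ⟶ pt R A) (x : Fin (n + 2) → (W ⟶ T')),
      Compat p e a x → π.app (op W) (y W a x) = c W a x := by
    intro W a x hx
    change π.app (op W) (ofSec P s W a x) = _
    rw [ofSec_apply P s a x hx, nat_apply, hs, ← ofSec_apply P (c P.Y P.π P.y) a x hx, ofSec_eq P c hc _ _ hx]
  have hzy : IsCocycle p e (mapF π y) := by
    intro W a x hx
    have : dS (mapF π y W a) x = dS (c W a) x := dS_congr fun i => hπy a _ (hx.face i)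
    rw [this]
    exact hz _ _ hx
  obtain ⟨w, hw, hwz, hwπ⟩ := correct h hG hp y hy hzy
  obtain ⟨b, hb, hbc⟩ := exists_cob_of_injective w hw hwz
  refine ⟨mapF π b, hb.map π, ?_⟩
  have h5 := hbc.map π
  intro W a x hx
  rw [h5 a x hx]
  change π.app (op W) (w W a x) = c W a x
  rw [hwπ, hπy a x hx]

end Exact

/-- The vanishing criterion. -/
theorem subsingleton_H [HenselianLocalRing R] (F : EtFppf.AbF (Spec (CommRingCat.of R))) (hF : CH F.obj) (n : ℕ) :
    Subsingleton (Sheaf.H F (n + 1)) := by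
  refine Groth.Agent.Etbase.SieveCartan.H_subsingleton_of_class (T := Over.mk (𝟙 (Spec (CommRingCat.of R))))
    Over.mkIdTerminal (fun F : EtFppf.AbF (Spec (CommRingCat.of R)) => CH F.obj) ?_ n F hF
  intro F hF
  let P : InjectivePresentation F := Classical.arbitrary _
  have hS : (ShortComplex.mk P.f (cokernel.π P.f) (cokernel.condition P.f)).ShortExact :=
    { exact := ShortComplex.exact_cokernel P.f }
  have hinj := P.injective
  have hL := leftExact_of_shortExact hS
  have hπ : Presheaf.IsLocallySurjective (EtFppf.J _) (cokernel.π P.f).hom := by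
    have := hS.epi_g
    exact (Sheaf.isLocallySurjective_iff_epi' (φ := cokernel.π P.f)).2 this
  have hIi := injective_obj P.J
  refine ⟨P.J, cokernel P.f, P.f, cokernel.π P.f, cokernel.condition P.f, hS, P.injective, ?_, ?_⟩
  · have hfin : IsFinite (Over.mk (𝟙 (Spec (CommRingCat.of R)))).hom := inferInstanceAs (IsFinite (𝟙 _))
    exact surj_finite hL hF P.J.property (cokernel P.f).property hπ (Over.mk (𝟙 (Spec (CommRingCat.of R))))
  · exact ch_quotient hL hF P.J.property (cokernel P.f).property hπ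

end K731.HCrit
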