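import Groth.Agent.CGrpSh.K731.SmAlg
import Mathlib.RingTheory.Spectrum.Prime.Noetherian

/-!
# Affine charts and affinizations
-/

set_option autoImplicit false
universe u

open CategoryTheory MonoidalCategory CartesianMonoidalCategory MonObj GrpObj AlgebraicGeometry Limits
open scoped TensorProduct
open Groth.Agent.Sga3B.InfConj

noncomputable section

namespace K731.SmAlg

variable {A : Type u} [CommRing A]

theorem exists_algHom {R R' : Type u} [CommRing R] [Algebra A R] [CommRing R'] [Algebra A R']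
    (l : Spec (CommRingCat.of R') ⟶ Spec (CommRingCat.of R))
    (hl : l ≫ Spec.map (CommRingCat.ofHom (algebraMap A R)) = Spec.map (CommRingCat.ofHom (algebraMap A R'))) :
    ∃ φ : R →ₐ[A] R', Spec.map (CommRingCat.ofHom φ.toRingHom) = l := by
  have h1 : Spec.map (Spec.preimage l) = l := Spec.map_preimage l
  let φ : R →ₐ[A] R' := { (Spec.preimage l).hom with
    commutes' := fun a => by
      have h3 : CommRingCat.ofHom (algebraMap A R) ≫ Spec.preimage l = CommRingCat.ofHom (algebraMap A R') := by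
        apply Spec.map_injective
        rw [Spec.map_comp, h1, hl]
      exact congr($h3 a) }
  exact ⟨φ, h1⟩

/-- The affinization of a scheme over `Spec A`. -/
structure Aff {Y : Scheme.{u}} (α : Y ⟶ Spec (CommRingCat.of A)) where
  /-- the ring -/
  R : Type u
  [ring : CommRing R]
  [alg : Algebra A R]
  /-- the canonical morphism -/
  π : Y ⟶ Spec (CommRingCat.of R)
  hπ : π ≫ Spec.map (CommRingCat.ofHom (algebraMap A R)) = α
  /-- factorization -/
  fac : ∀ {R' : Type u} [CommRing R'] [Algebra A R'] (l : Y ⟶ Spec (CommRingCat.of R'))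
    (_ : l ≫ Spec.map (CommRingCat.ofHom (algebraMap A R')) = α), R' →ₐ[A] R
  π_fac : ∀ {R' : Type u} [CommRing R'] [Algebra A R'] (l : Y ⟶ Spec (CommRingCat.of R'))
    (hl : l ≫ Spec.map (CommRingCat.ofHom (algebraMap A R')) = α),
      π ≫ Spec.map (CommRingCat.ofHom (fac l hl).toRingHom) = l
  hom_ext : ∀ {R' : Type u} [CommRing R'] [Algebra A R'] (φ ψ : R' →ₐ[A] R),
    π ≫ Spec.map (CommRingCat.ofHom φ.toRingHom) = π ≫ Spec.map (CommRingCat.ofHom ψ.toRingHom) → φ = ψ

attribute [instance] Aff.ring Aff.alg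

theorem nonempty_aff {Y : Scheme.{u}} (α : Y ⟶ Spec (CommRingCat.of A)) : Nonempty (Aff α) := by
  let R : Type u := Γ(Y, ⊤)
  let alg : Algebra A R := ((Scheme.ΓSpecIso (.of A)).inv ≫ α.appTop).hom.toAlgebra
  have hα : Y.toSpecΓ ≫ Spec.map (CommRingCat.ofHom (algebraMap A R)) = α := toSpecΓ_SpecMap_eq α
  have hinj : ∀ {R' : Type u} [CommRing R'] (φ ψ : R' →+* R),
      Y.toSpecΓ ≫ Spec.map (CommRingCat.ofHom φ) = Y.toSpecΓ ≫ Spec.map (CommRingCat.ofHom ψ) → φ = ψ := by
    intro R' _ φ ψ h
    have h1 := ΓSpecIso_inv_comp_appTop Y (CommRingCat.ofHom φ)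
    have h2 := ΓSpecIso_inv_comp_appTop Y (CommRingCat.ofHom ψ)
    rw [h] at h1
    have h3 := h1.symm.trans h2
    ext x
    exact congr($h3 x)
  have hfac : ∀ {R' : Type u} [CommRing R'] [Algebra A R'] (l : Y ⟶ Spec (CommRingCat.of R'))
    (_ : l ≫ Spec.map (CommRingCat.ofHom (algebraMap A R')) = α),
      ∃ φ : R' →ₐ[A] R, Y.toSpecΓ ≫ Spec.map (CommRingCat.ofHom φ.toRingHom) = l := by
    intro R' _ _ l hl
    let φ₀ : R' →+* R := ((Scheme.ΓSpecIso (.of R')).inv ≫ l.appTop).hom
    have h0 : Y.toSpecΓ ≫ Spec.map (CommRingCat.ofHom φ₀) = l := toSpecΓ_SpecMap_eq l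
    have h1 : φ₀.comp (algebraMap A R') = algebraMap A R := by
      apply hinj
      rw [CommRingCat.ofHom_comp, Spec.map_comp, ← Category.assoc, h0, hl, hα]
    exact ⟨{ φ₀ with commutes' := fun a => DFunLike.congr_fun h1 a }, h0⟩
  exact ⟨{ R := R
           π := Y.toSpecΓ
           hπ := hα
           fac := fun l hl => (hfac l hl).choose
           π_fac := fun l hl => (hfac l hl).choose_spec
           hom_ext := fun φ ψ h => by
            have h1 := hinj _ _ h
            ext x
            exact DFunLike.congr_fun h1 x }⟩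

/-- An affine scheme mapping to `G` as a point of `G` in an algebra. -/
theorem exists_ptChart (G : Over (Spec (CommRingCat.of A))) {W : Scheme.{u}} [IsAffine W] (w : W ⟶ G.left) :
    ∃ (E : Type u) (_ : CommRing E) (_ : Algebra A E) (e : Spec (CommRingCat.of E) ≅ W) (j : pt A E ⟶ G),
      j.left = e.hom ≫ w := by
  let E : Type u := Γ(W, ⊤)
  let alg : Algebra A E := ((Scheme.ΓSpecIso (.of A)).inv ≫ (w ≫ G.hom).appTop).hom.toAlgebra
  have h1 : W.toSpecΓ ≫ Spec.map (CommRingCat.ofHom (algebraMap A E)) = w ≫ G.hom := toSpecΓ_SpecMap_eq (w ≫ G.hom)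
  let e : Spec (CommRingCat.of E) ≅ W := (asIso W.toSpecΓ).symm
  refine ⟨E, inferInstance, alg, e, Over.homMk (e.hom ≫ w) ?_, rfl⟩
  change (e.hom ≫ w) ≫ G.hom = Spec.map (CommRingCat.ofHom (algebraMap A E))
  rw [Category.assoc, ← h1]
  change (asIso W.toSpecΓ).inv ≫ (asIso W.toSpecΓ).hom ≫ _ = _
  rw [Iso.inv_hom_id_assoc]

theorem finitePresentation_of_pt {G : Over (Spec (CommRingCat.of A))} [LocallyOfFinitePresentation G.hom] {E : Type u}
    [CommRing E] [Algebra A E] (j : pt A E ⟶ G) [LocallyOfFinitePresentation j.left] :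
    Algebra.FinitePresentation A E := by
  have h1 : LocallyOfFinitePresentation (Spec.map (CommRingCat.ofHom (algebraMap A E))) := by
    have h2 : j.left ≫ G.hom = Spec.map (CommRingCat.ofHom (algebraMap A E)) := Over.w j
    rw [← h2]
    infer_instance
  rw [HasRingHomProperty.Spec_iff (P := @LocallyOfFinitePresentation)] at h1
  exact RingHom.finitePresentation_algebraMap.1 h1

/-- A point of `G` in a ring with finite discrete spectrum lifts to a finite disjoint union of affine opens. -/
theorem exists_disjoint_chart (G : Over (Spec (CommRingCat.of A))) [LocallyOfFinitePresentation G.hom] {R : Type u}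
    [CommRing R] [Algebra A R] [IsArtinianRing R] (g : pt A R ⟶ G) :
    ∃ (E : Type u) (_ : CommRing E) (_ : Algebra A E) (_ : Algebra.FinitePresentation A E) (j : pt A E ⟶ G)
      (_ : Smooth j.left) (c : E →ₐ[A] R), ptMap c ≫ j = g := by
  let Z : Scheme.{u} := Spec (CommRingCat.of R)
  have hdisc : DiscreteTopology Z := inferInstanceAs (DiscreteTopology (PrimeSpectrum R))
  have hfin : Finite Z := inferInstanceAs (Finite (PrimeSpectrum R))
  have h1 : ∀ z : Z, ∃ W : G.left.Opens, IsAffineOpen W ∧ g.left z ∈ W := by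
    intro z
    obtain ⟨W, hW, hzW, -⟩ := exists_isAffineOpen_mem_and_subset (x := g.left z) (U := (⊤ : G.left.Opens)) trivial
    exact ⟨W, hW, hzW⟩
  choose W hW hzW using h1
  let X : Z → Scheme.{u} := fun z => (W z : Scheme.{u})
  have hX : ∀ z, IsAffine (X z) := fun z => hW z
  let w : (∐ X) ⟶ G.left := Sigma.desc fun z => (W z).ι
  have hw : Etale w := IsZariskiLocalAtSource.sigmaDesc (P := @Etale) fun z => inferInstance
  obtain ⟨E, _, _, e, j, hj⟩ := exists_ptChart G w
  have hj1 : Etale j.left := by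
    rw [hj]
    infer_instance
  -- the points of `Z`
  let O : Z → Z.Opens := fun z => ⟨{z}, isOpen_discrete _⟩
  have hcov : ⨆ z, ((O z).ι).opensRange = ⊤ := by
    rw [eq_top_iff]
    intro z _
    rw [TopologicalSpace.Opens.mem_iSup]
    exact ⟨z, by rw [Scheme.Opens.opensRange_ι]; exact rfl⟩
  have hdisj : Pairwise (Function.onFun Disjoint fun z => ((O z).ι).opensRange) := by
    intro z z' hzz
    rw [Function.onFun, Scheme.Opens.opensRange_ι, Scheme.Opens.opensRange_ι, disjoint_iff]
    ext x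
    simp only [O, TopologicalSpace.Opens.coe_inf, TopologicalSpace.Opens.coe_mk, TopologicalSpace.Opens.coe_bot,
      Set.mem_inter_iff, Set.mem_singleton_iff, Set.mem_empty_iff_false, iff_false, not_and]
    rintro rfl h
    exact hzz h
  obtain ⟨hc⟩ := nonempty_isColimit_cofanMk_of (fun z => (O z).ι) hcov hdisj
  have h2 : ∀ z : Z, Set.range ((O z).ι ≫ g.left) ⊆ Set.range (W z).ι := by
    rintro z _ ⟨y, rfl⟩
    rw [Scheme.Opens.range_ι, Scheme.Hom.comp_apply]
    have : (O z).ι y = z := y.2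
    rw [this]
    exact hzW z
  let l : Z ⟶ ∐ X := Cofan.IsColimit.desc hc fun z =>
    IsOpenImmersion.lift (W z).ι ((O z).ι ≫ g.left) (h2 z) ≫ Sigma.ι X z
  have hl : l ≫ w = g.left := by
    refine Cofan.IsColimit.hom_ext hc _ _ fun z => ?_
    rw [Cofan.IsColimit.fac_assoc, Category.assoc, Sigma.ι_desc, IsOpenImmersion.lift_fac]
    rfl
  have hl2 : (l ≫ e.inv) ≫ j.left = g.left := by
    rw [hj, Category.assoc, e.inv_hom_id_assoc, hl]
  obtain ⟨c, hc'⟩ := exists_algHom (A := A) (R := E) (R' := R) (l ≫ e.inv) (by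
    have e1 : j.left ≫ G.hom = Spec.map (CommRingCat.ofHom (algebraMap A E)) := Over.w j
    have e2 : g.left ≫ G.hom = Spec.map (CommRingCat.ofHom (algebraMap A R)) := Over.w g
    rw [← e1, ← e2, ← hl2, Category.assoc, Category.assoc, Category.assoc])
  refine ⟨E, inferInstance, inferInstance, finitePresentation_of_pt j, j, inferInstance, c, ?_⟩
  ext1
  rw [Over.comp_left, ptMap_left, hc', hl2]

end K731.SmAlg
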