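import Groth.Agent.CalgB.EtaleNbhd
import Groth.Agent.CGrpSh.K731.SmPt

/-!
# Étale-local lifting of points of a smooth scheme along a closed immersion
-/

set_option autoImplicit false
universe u

open CategoryTheory AlgebraicGeometry Limits

namespace K731.HLift

section alg

variable {A B C : Type u} [CommRing A] [CommRing B] [CommRing C] [Algebra A B] [Algebra A C]

/-- Étale lifting of a point of a smooth algebra along a surjection of the base ring. -/
theorem exists_alg [Algebra.Smooth A B] (hs : Function.Surjective (algebraMap A C)) (σ : B →ₐ[A] C) :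
    ∃ (A' : Type u) (_ : CommRing A') (_ : Algebra A A'), Algebra.Etale A A' ∧
      ∃ (τ : B →ₐ[A] A') (ρ : A' →ₐ[A] C), ρ.comp τ = σ ∧ ∀ b, ∃ a₀ : A, algebraMap A C a₀ = σ b ∧
        τ b - algebraMap A A' a₀ ∈ (RingHom.ker (algebraMap A C)).map (algebraMap A A') := by
  let I : Ideal A := RingHom.ker (algebraMap A C)
  let e : (A ⧸ I) ≃ₐ[A] C := Ideal.quotientKerAlgEquivOfSurjective (f := Algebra.ofId A C) hs
  have he : ∀ a : A, e (Ideal.Quotient.mk I a) = algebraMap A C a := fun a => rfl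
  have he' : ∀ a : A, e.symm (algebraMap A C a) = Ideal.Quotient.mk I a := fun a => by
    rw [← he, AlgEquiv.symm_apply_apply]
  obtain ⟨A', _, _, h1, h2, τ, hτ⟩ := Groth.Agent.CalgB.EtaleNbhd.exists_etale_lift_section_of_smooth I
    ((e.symm.toAlgHom).comp σ)
  let ε : (A ⧸ I) ≃+* (A' ⧸ I.map (algebraMap A A')) := RingEquiv.ofBijective (algebraMap _ _) h2
  have hε : ∀ a : A, ε (Ideal.Quotient.mk I a) = Ideal.Quotient.mk _ (algebraMap A A' a) := fun a => rfl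
  have hεs : ∀ a : A, ε.symm (Ideal.Quotient.mk _ (algebraMap A A' a)) = Ideal.Quotient.mk I a := fun a => by
    rw [← hε, RingEquiv.symm_apply_apply]
  let ρ : A' →ₐ[A] C :=
    { (e.toRingEquiv.toRingHom.comp (ε.symm.toRingHom.comp (Ideal.Quotient.mk (I.map (algebraMap A A'))))) with
      commutes' := fun a => by
        change e (ε.symm (Ideal.Quotient.mk _ (algebraMap A A' a))) = _
        rw [hεs, he] }
  have hρ : ∀ a' : A', ρ a' = e (ε.symm (Ideal.Quotient.mk _ a')) := fun _ => rfl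
  refine ⟨A', inferInstance, inferInstance, h1, τ, ρ, ?_, fun b => ?_⟩
  · ext b
    rw [AlgHom.comp_apply, hρ, hτ]
    change e (ε.symm (ε (e.symm (σ b)))) = σ b
    rw [RingEquiv.symm_apply_apply, AlgEquiv.apply_symm_apply]
  · obtain ⟨a₀, ha₀⟩ := hs (σ b)
    refine ⟨a₀, ha₀, ?_⟩
    rw [← Ideal.Quotient.eq_zero_iff_mem, map_sub, hτ]
    change ε (e.symm (σ b)) - _ = 0
    rw [← ha₀, he', hε, sub_self]

end alg

/-- Étale-local lifting of points of a smooth scheme along a closed immersion: the affine case. -/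
theorem exists_lift_affine {A B C : Type u} [CommRing A] [CommRing B] [CommRing C] [Algebra A B] [Algebra A C]
    [Algebra.Smooth A B] (hs : Function.Surjective (algebraMap A C)) (σ : B →ₐ[A] C)
    (p : Spec (CommRingCat.of C)) :
    ∃ (A' : Type u) (_ : CommRing A') (_ : Algebra A A') (τ : B →ₐ[A] A'),
      Etale (Spec.map (CommRingCat.ofHom (algebraMap A A'))) ∧
      Spec.map (CommRingCat.ofHom (algebraMap A C)) p ∈
        Set.range (Spec.map (CommRingCat.ofHom (algebraMap A A'))) ∧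
      ∀ (W : Scheme.{u}) (a : W ⟶ Spec (CommRingCat.of A')) (b : W ⟶ Spec (CommRingCat.of C)),
        a ≫ Spec.map (CommRingCat.ofHom (algebraMap A A')) = b ≫ Spec.map (CommRingCat.ofHom (algebraMap A C)) →
        a ≫ Spec.map (CommRingCat.ofHom τ.toRingHom) = b ≫ Spec.map (CommRingCat.ofHom σ.toRingHom) := by
  obtain ⟨A', _, _, h1, τ, ρ, hρ, hτ⟩ := exists_alg hs σ
  refine ⟨A', inferInstance, inferInstance, τ, ?_, ?_, ?_⟩
  · rw [HasRingHomProperty.Spec_iff (P := @Etale)]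
    exact RingHom.etale_algebraMap.2 h1
  · refine ⟨Spec.map (CommRingCat.ofHom ρ.toRingHom) p, ?_⟩
    rw [← Scheme.Hom.comp_apply, ← Spec.map_comp, ← CommRingCat.ofHom_comp]
    have : ρ.toRingHom.comp (algebraMap A A') = algebraMap A C := ρ.comp_algebraMap
    rw [this]
  · intro W a b hab
    obtain ⟨α⟩ := SmAlg.nonempty_aff (A := A) (a ≫ Spec.map (CommRingCat.ofHom (algebraMap A A')))
    let φ : A' →ₐ[A] α.R := α.fac a rfl
    let ψ : C →ₐ[A] α.R := α.fac b hab.symm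
    have hφ : α.π ≫ Spec.map (CommRingCat.ofHom φ.toRingHom) = a := α.π_fac a rfl
    have hψ : α.π ≫ Spec.map (CommRingCat.ofHom ψ.toRingHom) = b := α.π_fac b hab.symm
    have h2 : φ.comp τ = ψ.comp σ := by
      ext b
      obtain ⟨a₀, ha₀, hb⟩ := hτ b
      have h3 : (RingHom.ker (algebraMap A C)).map (algebraMap A A') ≤ RingHom.ker φ.toRingHom := by
        rw [Ideal.map_le_iff_le_comap]
        intro z hz
        change φ (algebraMap A A' z) = 0
        rw [φ.commutes, ← ψ.commutes, (show algebraMap A C z = 0 from hz), map_zero]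
      have h4 : φ (τ b - algebraMap A A' a₀) = 0 := h3 hb
      rw [map_sub, sub_eq_zero, φ.commutes, ← ψ.commutes, ha₀] at h4
      exact h4
    rw [← hφ, ← hψ, Category.assoc, Category.assoc, ← Spec.map_comp, ← Spec.map_comp, ← CommRingCat.ofHom_comp,
      ← CommRingCat.ofHom_comp]
    have h5 : φ.toRingHom.comp τ.toRingHom = ψ.toRingHom.comp σ.toRingHom := congrArg AlgHom.toRingHom h2
    rw [h5]

/-- Étale-local lifting of points of a smooth scheme along a closed immersion. -/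
theorem exists_lift {U Y Z : Scheme.{u}} (f : Y ⟶ U) [Smooth f] (i : Z ⟶ U) [IsClosedImmersion i]
    (x : Z ⟶ Y) (hx : x ≫ f = i) (z : Z) :
    ∃ (V : Scheme.{u}) (g : V ⟶ U) (_ : Etale g) (y : V ⟶ Y), y ≫ f = g ∧ i z ∈ Set.range g ∧
      ∀ (W : Scheme.{u}) (a : W ⟶ V) (b : W ⟶ Z), a ≫ g = b ≫ i → a ≫ y = b ≫ x := by
  obtain ⟨V₀, hV₀, hzV, -⟩ := exists_isAffineOpen_mem_and_subset (x := i z) (U := (⊤ : U.Opens)) trivial
  have hxz : x z ∈ f ⁻¹ᵁ V₀ := by
    change f (x z) ∈ V₀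
    rw [← Scheme.Hom.comp_apply, hx]
    exact hzV
  obtain ⟨Y₀, hY₀, hzY, hYV⟩ := exists_isAffineOpen_mem_and_subset hxz
  have hYV' : Y₀ ≤ f ⁻¹ᵁ V₀ := hYV
  obtain ⟨O, hO, hOx⟩ := i.isClosedEmbedding.isInducing.isOpen_iff.1 (x ⁻¹ᵁ Y₀).isOpen
  have hzO : i z ∈ O := by
    have : z ∈ i ⁻¹' O := by
      rw [hOx]
      exact hzY
    exact this
  obtain ⟨s, hs, hzs⟩ := hV₀.exists_basicOpen_le (V := ⟨O, hO⟩) ⟨i z, hzO⟩ hzV
  let V : U.Opens := U.basicOpen s
  have hV : IsAffineOpen V := hV₀.basicOpen s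
  let Y₁ : Y.Opens := Y.basicOpen (f.appLE V₀ Y₀ hYV' s)
  have hY₁ : IsAffineOpen Y₁ := hY₀.basicOpen _
  have hY₁' : Y₁ = Y₀ ⊓ f ⁻¹ᵁ V := Scheme.basicOpen_appLE _ _ _ _ _
  have h1 : Y₁ ≤ f ⁻¹ᵁ V := by
    rw [hY₁']
    exact inf_le_right
  have hZ : IsAffineOpen (i ⁻¹ᵁ V) := hV.preimage i
  have h2 : i ⁻¹ᵁ V ≤ x ⁻¹ᵁ Y₁ := by
    intro w hw
    change x w ∈ Y₁
    rw [hY₁']
    refine ⟨?_, ?_⟩
    · have : w ∈ i ⁻¹' O := hs hw
      rw [hOx] at this
      exact this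
    · change f (x w) ∈ V
      rw [← Scheme.Hom.comp_apply, hx]
      exact hw
  let algB : Algebra Γ(U, V) Γ(Y, Y₁) := (f.appLE V Y₁ h1).hom.toAlgebra
  let algC : Algebra Γ(U, V) Γ(Z, i ⁻¹ᵁ V) := (i.app V).hom.toAlgebra
  have hsm : Algebra.Smooth Γ(U, V) Γ(Y, Y₁) := f.smooth_appLE hV hY₁ h1
  have hsu : Function.Surjective (algebraMap Γ(U, V) Γ(Z, i ⁻¹ᵁ V)) := i.app_surjective V hV
  let σ : Γ(Y, Y₁) →ₐ[Γ(U, V)] Γ(Z, i ⁻¹ᵁ V) := ⟨(x.appLE Y₁ (i ⁻¹ᵁ V) h2).hom, fun r => by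
    change (x.appLE Y₁ (i ⁻¹ᵁ V) h2) (f.appLE V Y₁ h1 r) = i.app V r
    rw [← CommRingCat.comp_apply, Scheme.Hom.appLE_comp_appLE]
    have h3 : ∀ (t : Z ⟶ U) (ht : t = i) (h : i ⁻¹ᵁ V ≤ t ⁻¹ᵁ V), t.appLE V (i ⁻¹ᵁ V) h = i.app V := by
      intro t ht h
      subst ht
      exact Scheme.Hom.appLE_eq_app _
    rw [h3 _ hx]⟩
  obtain ⟨p, hp⟩ : ∃ p : Spec Γ(Z, i ⁻¹ᵁ V), hZ.fromSpec p = z := by
    have : z ∈ Set.range hZ.fromSpec := by
      rw [hZ.range_fromSpec]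
      exact hzs
    exact this
  obtain ⟨A', _, _, τ, hA', hpr, hW⟩ := exists_lift_affine hsu σ p
  have e1 : Spec.map (CommRingCat.ofHom (algebraMap Γ(U, V) Γ(Z, i ⁻¹ᵁ V))) ≫ hV.fromSpec =
      hZ.fromSpec ≫ i := by
    have := IsAffineOpen.SpecMap_appLE_fromSpec i hV hZ le_rfl
    rw [Scheme.Hom.appLE_eq_app] at this
    exact this
  have e2 : Spec.map (CommRingCat.ofHom (algebraMap Γ(U, V) Γ(Y, Y₁))) ≫ hV.fromSpec =
      hY₁.fromSpec ≫ f := IsAffineOpen.SpecMap_appLE_fromSpec f hV hY₁ h1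
  have e3 : Spec.map (CommRingCat.ofHom σ.toRingHom) ≫ hY₁.fromSpec = hZ.fromSpec ≫ x :=
    IsAffineOpen.SpecMap_appLE_fromSpec x hY₁ hZ h2
  refine ⟨Spec (CommRingCat.of A'), Spec.map (CommRingCat.ofHom (algebraMap Γ(U, V) A')) ≫ hV.fromSpec,
    inferInstance, Spec.map (CommRingCat.ofHom τ.toRingHom) ≫ hY₁.fromSpec, ?_, ?_, ?_⟩
  · rw [Category.assoc, ← e2, ← Category.assoc, ← Spec.map_comp, ← CommRingCat.ofHom_comp]
    have : τ.toRingHom.comp (algebraMap Γ(U, V) Γ(Y, Y₁)) = algebraMap Γ(U, V) A' := τ.comp_algebraMap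
    rw [this]
  · obtain ⟨q, hq⟩ := hpr
    refine ⟨q, ?_⟩
    rw [Scheme.Hom.comp_apply, hq, ← Scheme.Hom.comp_apply, e1, Scheme.Hom.comp_apply, hp]
  · intro W a b hab
    have hbZ : Set.range b ⊆ Set.range hZ.fromSpec := by
      rintro _ ⟨w, rfl⟩
      rw [hZ.range_fromSpec]
      change i (b w) ∈ V
      rw [← Scheme.Hom.comp_apply, ← hab]
      have : (a ≫ Spec.map (CommRingCat.ofHom (algebraMap Γ(U, V) A')) ≫ hV.fromSpec) w ∈
          Set.range hV.fromSpec := ⟨(a ≫ Spec.map (CommRingCat.ofHom (algebraMap Γ(U, V) A'))) w, by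
        rw [← Scheme.Hom.comp_apply, Category.assoc]⟩
      rw [hV.range_fromSpec] at this
      exact this
    let b' : W ⟶ Spec Γ(Z, i ⁻¹ᵁ V) := IsOpenImmersion.lift hZ.fromSpec b hbZ
    have hb' : b' ≫ hZ.fromSpec = b := IsOpenImmersion.lift_fac _ _ _
    have h5 := hW W a b' (by
      rw [← cancel_mono hV.fromSpec, Category.assoc, Category.assoc, e1, ← Category.assoc b', hb', ← hab])
    rw [← Category.assoc, h5, Category.assoc, e3, ← Category.assoc, hb']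

end K731.HLift
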