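import Groth.Agent.CGrpSh.K731.NMod
import Groth.Agent.AbSch.K453.SheafEx
import Groth.Prelude.Def_BigSite2

/-!
# The kernel of restriction to a square-zero closed subscheme as a sheaf of modules on the big site
-/

set_option autoImplicit false
universe u

open CategoryTheory CategoryTheory.Limits AlgebraicGeometry Opposite
open K731.Comb K731.NMod

namespace K731.NSh

variable {T T' : Scheme.{u}} (j : T' ⟶ T)

/-- The inclusion of the closed subscheme. -/
noncomputable abbrev cl (U : Over T) : (Over.map j).obj ((Over.pullback j).obj U) ⟶ U :=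
  (Over.mapPullbackAdj j).counit.app U

theorem cl_left (U : Over T) : (cl j U).left = pullback.fst U.hom j := by
  simp

theorem cl_nat {U V : Over T} (f : U ⟶ V) : cl j U ≫ f = (Over.map j).map ((Over.pullback j).map f) ≫ cl j V :=
  ((Over.mapPullbackAdj j).counit.naturality f).symm

variable {j}

theorem sqz [IsClosedImmersion j] (hj : j.ker * j.ker = ⊥) (U : Over T) : SqZ (cl j U).left := by
  rw [cl_left]
  exact SqZ.of_ker _ (ker_fst_mul j hj U.hom)

variable (j) (G : Over T) [GrpObj G] [IsCommMonObj G]

/-- The presheaf of infinitesimal points. -/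
noncomputable def NP : (Over T)ᵒᵖ ⥤ AddCommGrpCat.{u + 1} where
  obj U := AddCommGrpCat.of (NK G (cl j U.unop))
  map {U V} f := AddCommGrpCat.ofHom
    ((((CGrpSh.ptsPre G).map f).hom.comp (NK G (cl j U.unop)).subtype).codRestrict (NK G (cl j V.unop)) (by
      intro x
      rw [mem_NK]
      exact comp_pt f.unop _ (cl_nat j f.unop) (comp_ptOf x)))
  map_id U := AddCommGrpCat.ext fun x => ptOf_inj (by
    change 𝟙 U.unop ≫ ptOf (show NK G (cl j _) from x) = ptOf (show NK G (cl j _) from x)
    rw [Category.id_comp])
  map_comp f g := AddCommGrpCat.ext fun x => ptOf_inj (by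
    change (g.unop ≫ f.unop) ≫ ptOf (show NK G (cl j _) from x) = g.unop ≫ f.unop ≫ ptOf (show NK G (cl j _) from x)
    rw [Category.assoc])

theorem ptOf_map {U V : Over T} (f : V ⟶ U) (x : (NP j G).obj (op U)) :
    ptOf (show NK G (cl j V) from (NP j G).map f.op x) = f ≫ ptOf (show NK G (cl j U) from x) := rfl

section iso

/-- The unit of the adjunction between restriction and direct image. -/
noncomputable abbrev un : CGrpSh.pts Scheme.fppfPrecoverage G ⟶
    (BigSite.pushBig Scheme.fppfPrecoverage j AddCommGrpCat.{u + 1}).obj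
      ((BigSite.pullBig Scheme.fppfPrecoverage j AddCommGrpCat.{u + 1}).obj
        (CGrpSh.pts Scheme.fppfPrecoverage G)) :=
  (BigSite.bigAdj Scheme.fppfPrecoverage j AddCommGrpCat.{u + 1}).unit.app (CGrpSh.pts Scheme.fppfPrecoverage G)

theorem un_app (U : Over T) (x : (CGrpSh.ptsPre G).obj (op U)) :
    (un j G).hom.app (op U) x = (CGrpSh.ptsPre G).map (cl j U).op x := rfl

/-- Sections of the kernel sheaf. -/
noncomputable def toNP : (kernel (un j G)).obj ⟶ NP j G where
  app U := AddCommGrpCat.ofHom (((kernel.ι (un j G)).hom.app U).hom.codRestrict (NK G (cl j U.unop)) (by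
    intro x
    have h := congrArg (fun φ => φ.hom.app U x) (kernel.condition (un j G))
    exact h))
  naturality U V f := AddCommGrpCat.ext fun x => Subtype.ext
    (ConcreteCategory.congr_hom ((kernel.ι (un j G)).hom.naturality f) x)

theorem toNP_app (U : Over T) (x : (kernel (un j G)).obj.obj (op U)) :
    ((toNP j G).app (op U) x : NK G (cl j U)).1 = (kernel.ι (un j G)).hom.app (op U) x := rfl

instance isIso_toNP : IsIso (toNP j G) := by
  have : ∀ U, IsIso ((toNP j G).app U) := by
    intro U
    rw [ConcreteCategory.isIso_iff_bijective]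
    constructor
    · intro x y h
      have h1 := congrArg Subtype.val h
      exact K453.SheafEx.mono_app (kernel.ι (un j G)) U h1
    · intro y
      obtain ⟨t, ht⟩ := K453.SheafEx.exists_kernel_section (un j G) (U := U) y.1 y.2
      exact ⟨t, Subtype.ext ht⟩
  exact NatIso.isIso_of_isIso_app _

/-- The kernel sheaf is the sheaf of infinitesimal points. -/
noncomputable def kerIso : (kernel (un j G)).obj ≅ NP j G := asIso (toNP j G)

theorem isSheaf_NP : Presheaf.IsSheaf (QuotSh.J Scheme.fppfPrecoverage T) (NP j G) :=
  (Presheaf.isSheaf_of_iso_iff (kerIso j G)).1 (kernel (un j G)).property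

end iso

section mod

variable {j} [IsClosedImmersion j] (hj : j.ker * j.ker = ⊥)

/-- The module structure on infinitesimal points, over the ring of sections of the structure sheaf. -/
@[reducible]
noncomputable def modU (U : Over T) : Module (ULift.{u + 1} Γ(U.left, ⊤)) (NK G (cl j U)) :=
  letI := modNK (G := G) (sqz hj U)
  Module.compHom _ (ULift.ringEquiv : ULift.{u + 1} Γ(U.left, ⊤) ≃+* Γ(U.left, ⊤)).toRingHom

/-- The presheaf of modules of infinitesimal points. -/
noncomputable def NM : PresheafOfModules.{u + 1} (BigSite.ORing Scheme.fppfPrecoverage T).obj :=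
  letI : ∀ X : (Over T)ᵒᵖ, Module ((BigSite.ORing Scheme.fppfPrecoverage T).obj.obj X) ((NP j G).obj X) :=
    fun X => modU G hj X.unop
  PresheafOfModules.ofPresheaf (NP j G) (by
    intro X Y f r m
    apply ptOf_inj
    exact comp_smulPt' (sqz hj X.unop) (sqz hj Y.unop) f.unop _ (cl_nat j f.unop) r.down
      (comp_ptOf (show NK G (cl j X.unop) from m)))

/-- The sheaf of modules of infinitesimal points. -/
noncomputable def NS : BigSite.Mod Scheme.fppfPrecoverage T where
  val := NM G hj
  isSheaf := isSheaf_NP j G

end mod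

end K731.NSh
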