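import Groth.Agent.CGrpSh.K731.HChart
import Groth.Agent.CGrpSh.K731.HCrit
import Groth.Agent.CGrpSh.K731.HLift
import Groth.Agent.CGrpSh.K731.NSh
import Groth.Agent.TateGlob.K828.Unram

/-!
# Čech acyclicity of the kernel of restriction to a closed subscheme, over henselian local rings
-/

set_option autoImplicit false
universe u

open CategoryTheory MonoidalCategory CartesianMonoidalCategory MonObj GrpObj AlgebraicGeometry Limits Opposite
open scoped TensorProduct
open Groth.Agent.Sga3B.InfConj Groth.Agent.Sga3B.DSPts Groth.Agent.Etrest.FppfCoch Groth.Agent.Etrest.FppfMain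
open K731.NSh K731.NMod K731.SmAlg IsLocalRing

noncomputable section

namespace K731.HCH

section general

variable {X Z : Scheme.{u}} (j : Z ⟶ X) (G : Over X) [GrpObj G] [IsCommMonObj G]

/-- The inclusion of the kernel. -/
def incl : NP j G ⟶ CGrpSh.ptsPre G where
  app U := AddCommGrpCat.ofHom (NK G (cl j U.unop)).subtype
  naturality _ _ _ := rfl

theorem incl_inj (U : (Over X)ᵒᵖ) : Function.Injective ((incl j G).app U) := Subtype.val_injective

variable {j G} in
theorem eq_zero_of_factor {U : Over X} (z : U.left ⟶ Z) (hz : z ≫ j = U.hom) (x : (NP j G).obj (op U)) : x = 0 := by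
  let s : U ⟶ (Over.map j).obj ((Over.pullback j).obj U) :=
    Over.homMk (pullback.lift (𝟙 _) z (by rw [hz, Category.id_comp])) (by
      change pullback.lift (𝟙 _) z _ ≫ pullback.snd U.hom j ≫ j = U.hom
      rw [← Category.assoc, pullback.lift_snd, hz])
  have hs : s ≫ cl j U = 𝟙 U := by
    ext1
    rw [Over.comp_left, cl_left]
    exact pullback.lift_fst _ _ _
  apply ptOf_inj
  have h1 : cl j U ≫ ptOf (show NK G (cl j U) from x) = 1 := comp_ptOf (show NK G (cl j U) from x)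
  have h2 : ptOf (show NK G (cl j U) from x) = 1 := by
    rw [← Category.id_comp (ptOf _), ← hs, Category.assoc, h1, MonObj.comp_one]
  rw [h2]
  rfl

end general

section alg

variable {R : Type u} [CommRing R] [IsLocalRing R] (a : Ideal R) (A : Type u) [CommRing A] [IsLocalRing A]
  [Algebra R A]

omit [IsLocalRing R] [IsLocalRing A] in
theorem surj : Function.Surjective (algebraMap A (A ⊗[R] (R ⧸ a))) :=
  Algebra.TensorProduct.includeLeft_surjective R A
    (show Function.Surjective (algebraMap R (R ⧸ a)) from Ideal.Quotient.mk_surjective)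

variable [Module.Finite R A] {a} (ha : a ≠ ⊤)

include ha in
theorem mem_max {x : R} (hx : x ∈ a) : algebraMap R A x ∈ maximalIdeal A := by
  have h1 : ((maximalIdeal A).comap (algebraMap R A)).IsMaximal :=
    Ideal.isMaximal_comap_of_isIntegral_of_isMaximal (maximalIdeal A)
  have h2 := IsLocalRing.eq_maximalIdeal h1
  have h3 : x ∈ (maximalIdeal A).comap (algebraMap R A) := by
    rw [h2]
    exact IsLocalRing.le_maximalIdeal ha hx
  exact h3

/-- The residue point of the reduction. -/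
def resPt : (A ⊗[R] (R ⧸ a)) →ₐ[A] ResidueField A :=
  Algebra.TensorProduct.lift (Algebra.ofId A (ResidueField A))
    (Ideal.Quotient.liftₐ a (Algebra.ofId R (ResidueField A)) (fun x hx => by
      change algebraMap R (ResidueField A) x = 0
      rw [IsScalarTower.algebraMap_apply R A (ResidueField A)]
      exact (IsLocalRing.residue_eq_zero_iff _).2 (mem_max A ha hx))) (fun _ _ => .all _ _)

include ha in
theorem isLocalRing_red : IsLocalRing (A ⊗[R] (R ⧸ a)) := by
  have : Nontrivial (A ⊗[R] (R ⧸ a)) := (resPt A ha).toRingHom.domain_nontrivial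
  exact IsLocalRing.of_surjective' (algebraMap A (A ⊗[R] (R ⧸ a))) (surj a A)

include ha in
/-- Lifting of points of smooth algebras. -/
theorem exists_lift (hA : HenselianLocalRing A) {O : Type u} [CommRing O] [Algebra A O] [Algebra.Smooth A O]
    (κ : O →ₐ[A] (A ⊗[R] (R ⧸ a))) :
    ∃ l : O →ₐ[A] A, (Algebra.ofId A (A ⊗[R] (R ⧸ a))).comp l = κ := by
  obtain ⟨A', _, _, hA', τ, ρ, hρ, hτ⟩ := HLift.exists_alg (surj a A) κ
  obtain ⟨f, -⟩ := K828.Unram.exists_lift A' A ((resPt A ha).comp ρ)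
  refine ⟨f.comp τ, ?_⟩
  ext o
  obtain ⟨a₀, ha₀, ho⟩ := hτ o
  have h1 : (RingHom.ker (algebraMap A (A ⊗[R] (R ⧸ a)))).map (algebraMap A A') ≤
      RingHom.ker ((algebraMap A (A ⊗[R] (R ⧸ a))).comp f.toRingHom) := by
    rw [Ideal.map_le_iff_le_comap]
    intro z hz
    change algebraMap A (A ⊗[R] (R ⧸ a)) (f (algebraMap A A' z)) = 0
    rw [f.commutes]
    exact hz
  have h2 : algebraMap A (A ⊗[R] (R ⧸ a)) (f (τ o - algebraMap A A' a₀)) = 0 := h1 ho
  rw [map_sub, map_sub, f.commutes, sub_eq_zero] at h2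
  exact h2.trans ha₀

end alg

section dat

variable {X : Scheme.{u}} {T' T U : Over X} {p : T' ⟶ T} {e : U ⟶ T} (D : Dat p e) (G : Over X) [GrpObj G]
  [IsCommMonObj G] {n : ℕ}

/-- Vanishing of a family on schemes on which the universal value vanishes. -/
theorem fromAlg_eq_zero {A₀ : Type u} [CommRing A₀] [Algebra D.A A₀] (T₁ : Tup D.A D.B n)
    (s : Q (D.GA G) (D.A ⊗[D.A] T₁.C)) (hs : qmap (D.GA G) (tm T₁.C (Algebra.ofId D.A A₀)) s = 0)
    {W : Over X} (a : W ⟶ D.ob D.A) (x : Fin (n + 1) → (W ⟶ T')) (hx : Compat p (D.toU D.A ≫ e) a x)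
    (π : W ⟶ D.ob A₀) (hπ : π.left ≫ Spec.map (CommRingCat.ofHom (algebraMap D.A A₀)) =
      a.left ≫ Spec.map (CommRingCat.ofHom (algebraMap D.A D.A))) :
    D.fromAlg (ofS T₁ s) W a x = 0 := by
  obtain ⟨φ, hφ⟩ := D.exists_aff_hom a π hπ
  choose x' hx' using fun i => D.exists_affξ a (x i) (hx i)
  obtain ⟨a', ha'⟩ := D.exists_affα a
  obtain rfl : (fun i => D.affπ a ≫ D.toT' (x' i)) = x := funext hx'
  have h1 := D.fromAlg_eq (isN_ofS T₁ s) (D.aff a).R (D.affπ a) a' x'
  rw [ha'] at h1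
  rw [h1]
  have h2 : a' = φ.comp (Algebra.ofId D.A A₀) := by
    ext
  have h3 : ofS T₁ s (D.aff a).R a' x' = 0 := by
    rw [ofS, h2, ← tl_tm, ← qmap_qmap, hs, map_zero]
  rw [h3, map_zero, map_zero]

end dat

section main

variable {R : Type u} [CommRing R] [HenselianLocalRing R] {a : Ideal R} (ha : a ≠ ⊤)
  (G : Over (Spec (CommRingCat.of R))) [GrpObj G] [IsCommMonObj G] [Smooth G.hom]

include ha in
theorem ch_NP : HCrit.CH (NP (Spec.map (CommRingCat.ofHom (Ideal.Quotient.mk a))) G) := by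
  intro A _ _ _ _ T T' p e hp n c hc hz
  have hA : HenselianLocalRing A := Groth.Agent.S0505.result R A
  let z : Spec (CommRingCat.of A) := closedPoint A
  have hunit : ∀ f : A, f ∉ z.asIdeal → IsUnit f := fun f hf => by
    by_contra h
    exact hf ((IsLocalRing.mem_maximalIdeal f).2 h)
  obtain ⟨B, _, _, t, pb, hfin, hfl, hfp, hsu⟩ := exists_dat₀ (e := e) hp (𝟙 (Spec (CommRingCat.of A)))
  let D : Dat p e := { A := A, B := B, s := 𝟙 (Spec (CommRingCat.of A)), t := t, pb := pb }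
  have hfinD : Module.Finite D.A D.B := hfin
  have hfree : Module.Free D.A D.B := by
    have : Module.Free A B := Module.free_of_flat_of_isLocalRing
    exact this
  have hsm : Smooth (D.GA G).hom := inferInstanceAs (Smooth (pullback.snd G.hom D.sX))
  obtain ⟨f₁, L₁, hf₁, hL₁⟩ := exists_form hsu z
  obtain ⟨L, hL⟩ : ∃ L : D.B →ₗ[D.A] D.A, L 1 = 1 := by
    obtain ⟨v, hv⟩ := hunit f₁ hf₁
    refine ⟨((v⁻¹ : Aˣ) : A) • L₁, ?_⟩
    change ((v⁻¹ : Aˣ) : A) * L₁ 1 = 1
    rw [hL₁, ← hv, Units.inv_mul]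
  obtain ⟨N, hN⟩ : ∃ N : UNbhd (D.GA G), Algebra.FiniteType D.A N.D := by
    obtain ⟨f, hf, hN⟩ := exists_unbhd G D.sX z
    exact hN A ((hunit f hf).map _) D.sX (by
      have : algebraMap A A = RingHom.id A := rfl
      rw [this]
      exact (Category.id_comp _).symm.trans (congrArg (fun k => k ≫ D.sX) (Spec.map_id _).symm))
  -- the cocycle over `A`
  let cG : Fam (CGrpSh.ptsPre G) (pt R A) T' (n + 1) := mapF (incl _ G) c
  have hcG : IsCoch p e cG := hc.map _
  have hzG : IsCocycle p e cG := hz.map _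
  let cA : AFam (D.GA G) D.B D.A (n + 1) := D.toAlg (resF (D.toU D.A) cG)
  have hcA : IsN cA := D.isN_toAlg (hcG.res _)
  have hzA : ∀ (R : Type u) [CommRing R] [Algebra D.A R] (x : Fin (n + 3) → (D.B →ₐ[D.A] R)),
      dS (cA R (Algebra.ofId D.A R)) x = 0 := fun R _ _ x => D.isCocycle_toAlg (hzG.res _) R _ x
  have hcAeq : ∀ (R : Type u) [CommRing R] [Algebra D.A R] (x : Fin (n + 2) → (D.B →ₐ[D.A] R)),
      cA R (Algebra.ofId D.A R) x = D.toQ (cG (D.ob R) (D.toU R) (fun i => D.toT' (x i))) := by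
    intro R _ _ x
    change D.toQ (cG (D.ob R) (D.obMap (Algebra.ofId D.A R) ≫ D.toU D.A) (fun i => D.toT' (x i))) = _
    rw [D.obMap_toU]
  -- the reduction
  let A₀ : Type u := A ⊗[R] (R ⧸ a)
  have hA₀ : IsLocalRing A₀ := isLocalRing_red A ha
  have hA₀' : IsPullback (Spec.map (CommRingCat.ofHom (algebraMap A A₀)))
      (Spec.map (CommRingCat.ofHom (Algebra.TensorProduct.includeRight (R := R) (A := A) (B := R ⧸ a)).toRingHom))
      (Spec.map (CommRingCat.ofHom (algebraMap R A)))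
      (Spec.map (CommRingCat.ofHom (Ideal.Quotient.mk a))) :=
    isPullback_SpecMap_of_isPushout _ _ _ _ (CommRingCat.isPushout_tensorProduct R A (R ⧸ a))
  obtain ⟨T₁⟩ := nonempty_tup (A := D.A) (B := D.B) n
  obtain ⟨T₂⟩ := nonempty_tup (A := D.A) (B := D.B) (n + 1)
  let c₀ : N.D →ₐ[D.A] A₀ ⊗[D.A] T₁.C := (Algebra.ofId D.A _).comp N.ε
  have hc₀ : Additive.ofMul (ptMap c₀ ≫ N.v) = (0 : Q (D.GA G) (A₀ ⊗[D.A] T₁.C)) := by
    rw [N.unit]
    rfl
  have hs₀ : IsSol T₁ cA (Additive.ofMul (ptMap c₀ ≫ N.v)) := by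
    rw [hc₀]
    intro R₁ _ _ α x
    have e1 : dS (ofS T₁ (0 : Q (D.GA G) (A₀ ⊗[D.A] T₁.C)) R₁ α) x = 0 := by
      rw [dS]
      refine Finset.sum_eq_zero fun i _ => ?_
      rw [ofS, map_zero, smul_zero]
    have e2 : c (D.ob R₁) (D.toU R₁) (fun i => D.toT' (x i)) = 0 := by
      refine eq_zero_of_factor (Spec.map (CommRingCat.ofHom α.toRingHom) ≫ Spec.map (CommRingCat.ofHom
        (Algebra.TensorProduct.includeRight (R := R) (A := A) (B := R ⧸ a)).toRingHom)) ?_ _
      rw [Category.assoc, ← hA₀'.w, ← Category.assoc, ← Spec.map_comp, ← CommRingCat.ofHom_comp]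
      have e3 : α.toRingHom.comp (algebraMap A A₀) = algebraMap A R₁ := α.comp_algebraMap
      rw [e3]
      change _ = Spec.map _ ≫ 𝟙 _ ≫ _
      rw [Category.id_comp]
      rfl
    rw [e1, hcAeq]
    change 0 = D.toQ ((incl _ G).app _ (c (D.ob R₁) (D.toU R₁) (fun i => D.toT' (x i))))
    rw [e2, map_zero, map_zero]
  have hNfp : Algebra.FinitePresentation D.A N.D := finitePresentation_of_pt N.v
  obtain ⟨O, _, _, hO, s, κ, hs, hκ⟩ := exists_chart_local T₁ T₂ L hL N hcA hzA N.v (K := A₀) c₀ hs₀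
  obtain ⟨l, hl⟩ := exists_lift A ha hA κ
  let s₁ : Q (D.GA G) (D.A ⊗[D.A] T₁.C) := qmap (D.GA G) (tm T₁.C l) s
  have hs₁ : qmap (D.GA G) (tm T₁.C (Algebra.ofId D.A A₀)) s₁ = 0 := by
    rw [qmap_qmap, tm_comp, hl, hκ, hc₀]
  let σ : AFam (D.GA G) D.B D.A n := ofS T₁ s₁
  have hσ : IsN σ := isN_ofS _ _
  have hσc : ∀ (R : Type u) [CommRing R] [Algebra D.A R] (a : D.A →ₐ[D.A] R) (x : Fin (n + 2) → (D.B →ₐ[D.A] R)),
      dS (σ R a) x = cA R (Algebra.ofId D.A R) x := IsSol.qmap T₁ cA hs l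
  -- the inverse of `D.toU`
  have hid : Spec.map (CommRingCat.ofHom (algebraMap A A)) = 𝟙 _ := Spec.map_id _
  let v : pt R A ⟶ D.ob D.A := Over.homMk (𝟙 (Spec (CommRingCat.of A))) (by
    change 𝟙 _ ≫ Spec.map (CommRingCat.ofHom (algebraMap A A)) ≫ 𝟙 _ ≫ _ = _
    rw [hid, Category.id_comp, Category.id_comp, Category.id_comp])
  have hv : v ≫ D.toU D.A = 𝟙 _ := by
    ext1
    change 𝟙 _ ≫ Spec.map (CommRingCat.ofHom (algebraMap A A)) ≫ 𝟙 _ = 𝟙 _
    rw [hid, Category.id_comp, Category.id_comp]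
  let bG : Fam (CGrpSh.ptsPre G) (pt R A) T' n := resF v (D.fromAlg σ)
  have hve : v ≫ D.toU D.A ≫ e = e := by
    rw [← Category.assoc, hv, Category.id_comp]
  have hbG : IsCoch p e bG := by
    have := (D.isCoch_fromAlg hσ).res v
    rwa [hve] at this
  have hcomp : ∀ {W : Over (Spec (CommRingCat.of R))} {m : ℕ} (a : W ⟶ pt R A) (x : Fin m → (W ⟶ T')),
      Compat p e a x → Compat p (D.toU D.A ≫ e) (a ≫ v) x := by
    intro W m a x hx i
    rw [hx i, Category.assoc, hve]
  have hmem : ∀ {W : Over (Spec (CommRingCat.of R))} (α : W ⟶ pt R A) (x : Fin (n + 1) → (W ⟶ T')),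
      Compat p e α x → bG W α x ∈ NK G (cl (Spec.map (CommRingCat.ofHom (Ideal.Quotient.mk a))) W) := by
    intro W α x hx
    change (CGrpSh.ptsPre G).map (cl _ W).op (bG W α x) = 0
    rw [hbG _ α x hx]
    let W' := (Over.map (Spec.map (CommRingCat.ofHom (Ideal.Quotient.mk a)))).obj
      ((Over.pullback (Spec.map (CommRingCat.ofHom (Ideal.Quotient.mk a)))).obj W)
    let k : W' ⟶ W := cl (Spec.map (CommRingCat.ofHom (Ideal.Quotient.mk a))) W
    let q : W'.left ⟶ Spec (CommRingCat.of (R ⧸ a)) := pullback.snd W.hom _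
    have hq : q ≫ Spec.map (CommRingCat.ofHom (Ideal.Quotient.mk a)) = (k ≫ α).left ≫
        Spec.map (CommRingCat.ofHom (algebraMap R A)) := (Over.w (k ≫ α)).symm
    let m : W'.left ⟶ Spec (CommRingCat.of A₀) := hA₀'.lift (k ≫ α).left q hq.symm
    have hm : m ≫ Spec.map (CommRingCat.ofHom (algebraMap A A₀)) = (k ≫ α).left := hA₀'.lift_fst _ _ _
    refine fromAlg_eq_zero D G T₁ s₁ hs₁ ((k ≫ α) ≫ v) _ (hcomp _ _ (hx.comp k)) (Over.homMk m ?_) ?_
    · change m ≫ Spec.map (CommRingCat.ofHom (algebraMap A A₀)) ≫ 𝟙 _ ≫ _ = _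
      rw [Category.id_comp, ← Category.assoc, hm]
      exact Over.w (k ≫ α)
    · change m ≫ Spec.map (CommRingCat.ofHom (algebraMap A A₀)) = ((k ≫ α).left ≫ 𝟙 _) ≫
        Spec.map (CommRingCat.ofHom (algebraMap A A))
      rw [hid, Category.comp_id]
      exact hm.trans (Category.comp_id _).symm
  classical
  let b : Fam (NP (Spec.map (CommRingCat.ofHom (Ideal.Quotient.mk a))) G) (pt R A) T' n := fun W α x =>
    if h : Compat p e α x then ⟨bG W α x, hmem α x h⟩ else 0
  have hb : ∀ {W : Over (Spec (CommRingCat.of R))} (α : W ⟶ pt R A) (x : Fin (n + 1) → (W ⟶ T')),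
      Compat p e α x → (incl _ G).app (op W) (b W α x) = bG W α x := by
    intro W α x hx
    change (incl _ G).app (op W) (if h : Compat p e α x then _ else _) = _
    rw [dif_pos hx]
    rfl
  refine ⟨b, ?_, ?_⟩
  · intro W W' f α x hx
    apply incl_inj _ G
    rw [nat_apply, hb _ _ hx, hb _ _ (hx.comp f), hbG f α x hx]
  · intro W α x hx
    apply incl_inj _ G
    have h1 : (incl _ G).app (op W) (dS (b W α) x) = dS (bG W α) x := by
      refine (map_dS ((incl _ G).app (op W)).hom (b W α) x).trans ?_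
      exact dS_congr fun i => hb α _ (hx.face i)
    rw [h1]
    change dS (D.fromAlg σ W (α ≫ v)) x = cG W α x
    obtain ⟨R₁, _, _, π', a', x', hπ, hx'⟩ := D.exists_tuple (α ≫ v) x (hcomp α x hx)
    obtain rfl : (fun i => π' ≫ D.toT' (x' i)) = x := funext hx'
    rw [← hπ, D.dS_fromAlg hσ, hσc, hcAeq, D.ofQ_toQ]
    have h2 : Compat p e (D.toU R₁) (fun i => D.toT' (x' i)) := fun i => D.toT'_p _ _
    rw [hcG π' _ _ h2]
    have h3 : π' ≫ D.toU R₁ = α := by
      rw [← D.obMap_toU _ a', ← Category.assoc, hπ, Category.assoc, hv, Category.comp_id]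
    rw [h3]

include ha in
theorem subsingleton_H (n : ℕ) : Subsingleton (BigSite.H Scheme.fppfPrecoverage (Spec (CommRingCat.of R))
    (kernel (un (Spec.map (CommRingCat.ofHom (Ideal.Quotient.mk a))) G)) (n + 1)) :=
  HCrit.subsingleton_H _ ((ch_NP ha G).of_iso (kerIso _ G).symm) n

end main

end K731.HCH
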