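import Groth.Agent.CGrpSh.K731.HSq
import Groth.Agent.HRes.K836.Pull

/-!
# Restriction along nilpotent thickenings of affine schemes
-/

set_option autoImplicit false
universe u

open CategoryTheory AlgebraicGeometry Limits Opposite

namespace K731.HNil

theorem ker_SpecMap_mul {R R' : Type u} [CommRing R] [CommRing R'] (φ : R →+* R')
    (h : RingHom.ker φ * RingHom.ker φ = ⊥) :
    (Spec.map (CommRingCat.ofHom φ)).ker * (Spec.map (CommRingCat.ofHom φ)).ker = ⊥ := by
  apply Scheme.IdealSheafData.equivOfIsAffine.injective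
  refine (map_mul Scheme.IdealSheafData.equivOfIsAffine.toRingEquiv _ _).trans ?_
  change (Spec.map (CommRingCat.ofHom φ)).ker.ideal ⟨⊤, isAffineOpen_top _⟩ *
    (Spec.map (CommRingCat.ofHom φ)).ker.ideal ⟨⊤, isAffineOpen_top _⟩ = ⊥
  rw [eq_bot_iff, Ideal.mul_le]
  have key : ∀ x ∈ (Spec.map (CommRingCat.ofHom φ)).ker.ideal ⟨⊤, isAffineOpen_top _⟩,
      (Scheme.ΓSpecIso (CommRingCat.of R)).hom x ∈ RingHom.ker φ := by
    intro x hx
    rw [Scheme.Hom.ker_apply, RingHom.mem_ker] at hx
    have h1 := ConcreteCategory.congr_hom (Scheme.ΓSpecIso_naturality (CommRingCat.ofHom φ)) x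
    rw [ConcreteCategory.comp_apply, ConcreteCategory.comp_apply] at h1
    have h2 : (Spec.map (CommRingCat.ofHom φ)).appTop x = 0 := hx
    rw [h2, map_zero] at h1
    exact h1.symm
  intro x hx y hy
  have h1 := Ideal.mul_mem_mul (key x hx) (key y hy)
  rw [h, Ideal.mem_bot, ← map_mul] at h1
  change x * y = 0
  have h2 : Function.Injective (Scheme.ΓSpecIso (CommRingCat.of R)).hom :=
    ((Scheme.ΓSpecIso (CommRingCat.of R)).commRingCatIsoToRingEquiv).injective
  exact h2 (h1.trans (map_zero _).symm)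

section

variable {K : Precoverage Scheme.{u}} {S T T' : Scheme.{u}}

theorem map_iso_bijective {F F' : BigSite.Ab K S} (e : F ≅ F') (n : ℕ) :
    Function.Bijective (Sheaf.H.map e.hom n) := by
  refine ⟨fun x y h => ?_, fun y => ⟨Sheaf.H.map e.inv n y, ?_⟩⟩
  · have := congrArg (Sheaf.H.map e.inv n) h
    rwa [← Sheaf.H.map_comp_apply, ← Sheaf.H.map_comp_apply, e.hom_inv_id, Sheaf.H.map_id_apply,
      Sheaf.H.map_id_apply] at this
  · rw [← Sheaf.H.map_comp_apply, e.inv_hom_id, Sheaf.H.map_id_apply]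

/-- The bijectivity of the restriction map depends only on the sheaf up to isomorphism. -/
theorem pull_bijective_of_iso (f : T ⟶ S) {F F' : BigSite.Ab K S} (e : F ≅ F') (n : ℕ)
    (h : Function.Bijective (HRes.pull K f F' n)) : Function.Bijective (HRes.pull K f F n) := by
  have h1 := h.comp (map_iso_bijective e n)
  have h2 : (HRes.pull K f F' n) ∘ (Sheaf.H.map e.hom n) =
      (Sheaf.H.map ((BigSite.pullBig K f AddCommGrpCat.{u + 1}).map e.hom) n) ∘ (HRes.pull K f F n) := by
    funext x
    exact HRes.pull_map K f e.hom n x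
  rw [h2] at h1
  have h3 := map_iso_bijective ((BigSite.pullBig K f AddCommGrpCat.{u + 1}).mapIso e) n
  exact (Function.Bijective.of_comp_iff' h3 _).1 h1

/-- The bijectivity of the restriction map of a composite. -/
theorem pull_bijective_comp (f : T ⟶ S) (g : T' ⟶ T) (F : BigSite.Ab K S) (n : ℕ)
    (hf : Function.Bijective (HRes.pull K f F n))
    (hg : Function.Bijective (HRes.pull K g ((BigSite.pullBig K f AddCommGrpCat.{u + 1}).obj F) n)) :
    Function.Bijective (HRes.pull K (g ≫ f) F n) := by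
  have h1 : (HRes.pull K (g ≫ f) F n : BigSite.H K S F n → _) =
      (Sheaf.H.map ((K.toGrothendieck.overMapPullbackComp AddCommGrpCat.{u + 1} g f).hom.app F) n) ∘
        (HRes.pull K g ((BigSite.pullBig K f AddCommGrpCat.{u + 1}).obj F) n) ∘ (HRes.pull K f F n) := by
    funext x
    exact K836.HResPull.pull_comp K f g F n x
  rw [h1]
  exact (map_iso_bijective ((K.toGrothendieck.overMapPullbackComp AddCommGrpCat.{u + 1} g f).app F) n).comp
    (hg.comp hf)

end

theorem pull_bijective (k : ℕ) : ∀ {R R' : Type u} [CommRing R] [CommRing R'] (φ : R →+* R')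
    (_ : Function.Surjective φ) (_ : RingHom.ker φ ^ (k + 1) = ⊥) (G : Over (Spec (CommRingCat.of R)))
    [GrpObj G] [IsCommMonObj G] [Smooth G.hom] (n : ℕ) (_ : 1 ≤ n),
    Function.Bijective (HRes.pull Scheme.fppfPrecoverage (Spec.map (CommRingCat.ofHom φ))
      (CGrpSh.pts Scheme.fppfPrecoverage G) n) := by
  induction k with
  | zero =>
    intro R R' _ _ φ hφ h G _ _ _ n hn
    have : IsClosedImmersion (Spec.map (CommRingCat.ofHom φ)) := IsClosedImmersion.spec_of_surjective _ hφ
    rw [zero_add, pow_one] at h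
    exact HSq.pull_bijective _ (ker_SpecMap_mul φ (by rw [h, Ideal.bot_mul])) G n hn
  | succ k ih =>
    intro R R' _ _ φ hφ h G _ _ _ n hn
    let b : Ideal R := RingHom.ker φ ^ (k + 1)
    have hb : b * b = ⊥ := by
      rw [eq_bot_iff, ← h, ← pow_add]
      exact Ideal.pow_le_pow_right (by omega)
    have hle : b ≤ RingHom.ker φ := Ideal.pow_le_self (by omega)
    let ψ : R ⧸ b →+* R' := Ideal.Quotient.lift b φ hle
    have hψ : Function.Surjective ψ := Ideal.Quotient.lift_surjective_of_surjective b hle hφ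
    have hψφ : ψ.comp (Ideal.Quotient.mk b) = φ := Ideal.Quotient.lift_comp_mk b φ hle
    have hker : RingHom.ker ψ ^ (k + 1) = ⊥ := by
      have h1 : RingHom.ker ψ = (RingHom.ker φ).map (Ideal.Quotient.mk b) := by
        rw [← hψφ, ← RingHom.comap_ker, Ideal.map_comap_of_surjective _ Ideal.Quotient.mk_surjective]
      rw [h1, ← Ideal.map_pow]
      exact Ideal.map_quotient_self b
    have hcl : IsClosedImmersion (Spec.map (CommRingCat.ofHom (Ideal.Quotient.mk b))) :=
      IsClosedImmersion.spec_of_surjective _ Ideal.Quotient.mk_surjective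
    have h1 := HSq.pull_bijective (Spec.map (CommRingCat.ofHom (Ideal.Quotient.mk b)))
      (ker_SpecMap_mul (Ideal.Quotient.mk b) (by rw [Ideal.mk_ker, hb])) G n hn
    have hsm : Smooth (Red.bc (Spec.map (CommRingCat.ofHom (Ideal.Quotient.mk b))) G).hom :=
      inferInstanceAs (Smooth (pullback.snd G.hom (Spec.map (CommRingCat.ofHom (Ideal.Quotient.mk b)))))
    have h2 := ih ψ hψ hker (Red.bc (Spec.map (CommRingCat.ofHom (Ideal.Quotient.mk b))) G) n hn
    have h3 := pull_bijective_of_iso _ (K809.PtsPull.ptsPull Scheme.fppfPrecoverage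
      (Spec.map (CommRingCat.ofHom (Ideal.Quotient.mk b))) G) n h2
    have h4 := pull_bijective_comp _ _ _ n h1 h3
    have h5 : Spec.map (CommRingCat.ofHom ψ) ≫ Spec.map (CommRingCat.ofHom (Ideal.Quotient.mk b)) =
        Spec.map (CommRingCat.ofHom φ) := by
      rw [← Spec.map_comp, ← CommRingCat.ofHom_comp, hψφ]
    rw [h5] at h4
    exact h4

end K731.HNil
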