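import Groth.Agent.CGrpSh.K731.HLift
import Groth.Agent.CGrpSh.K731.NSh
import Groth.Agent.EtpbcB.ClosedImmEtale
import Groth.Agent.Etrest.FppfMain3

/-!
# Direct images along closed immersions on the big fppf site

* `epi_pushBig`: the direct image along a closed immersion turns étale-locally surjective morphisms into epimorphisms;
* `epi_un`: restriction of points of a smooth commutative group scheme to a closed subscheme is étale-locally surjective.
-/

set_option autoImplicit false
universe u

open CategoryTheory AlgebraicGeometry Limits Opposite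
open Groth.Agent.Etrest.BigEtSite Groth.Agent.Etrest.FppfMain Groth.Agent.Etrest.FppfLoc

namespace K731.HPush

open K731.NSh K731.NMod MonObj

variable {Z T : Scheme.{u}} (j : Z ⟶ T)

/-- Sections of a sheaf over the empty scheme are equal. -/
theorem eq_of_isEmpty {X : Scheme.{u}} {P : (Over X)ᵒᵖ ⥤ AddCommGrpCat.{u + 1}}
    (hP : Presheaf.IsSheaf (EtFppf.J X) P) {U : Over X} (hU : IsEmpty U.left) (s s' : P.obj (op U)) : s = s' :=
  eq_of_local (fun E => Presieve.isSheaf_of_le _ (JE_le_J X) (hP E)) s s' (fun x => hU.elim x)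

theorem sq {U V : Over T} (g : V ⟶ U) :
    ((Over.pullback j).map g).left ≫ pullback.fst U.hom j = pullback.fst V.hom j ≫ g.left := by
  exact pullback.lift_fst _ _ _

theorem isEmpty_pullback {U V : Over T} (g : V ⟶ U)
    (h : ∀ v : V.left, g.left v ∉ Set.range (pullback.fst U.hom j)) :
    IsEmpty ((Over.pullback j).obj V).left := by
  refine ⟨fun w => ?_⟩
  let w' : (pullback V.hom j : Scheme.{u}) := w
  apply h (pullback.fst V.hom j w')
  refine ⟨((Over.pullback j).map g).left w', ?_⟩
  rw [← Scheme.Hom.comp_apply, ← Scheme.Hom.comp_apply]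
  rw [sq]

/-- The complement of the closed subscheme. -/
theorem exists_compl [IsClosedImmersion j] {U : Over T} {x : U.left}
    (hx : x ∉ Set.range (pullback.fst U.hom j)) :
    ∃ (V : Over T) (g : V ⟶ U), Etale g.left ∧ x ∈ Set.range g.left ∧
      IsEmpty ((Over.pullback j).obj V).left := by
  have hcl : IsClosed (Set.range (pullback.fst U.hom j)) := (pullback.fst U.hom j).isClosedEmbedding.isClosed_range
  let W : U.left.Opens := ⟨_, hcl.isOpen_compl⟩
  refine ⟨Over.mk (W.ι ≫ U.hom), Over.homMk W.ι, ?_, ⟨⟨x, hx⟩, rfl⟩, ?_⟩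
  · change Etale W.ι
    infer_instance
  · apply isEmpty_pullback j (Over.homMk W.ι : Over.mk (W.ι ≫ U.hom) ⟶ U)
    intro v
    exact v.2

theorem epi_pushBig [IsClosedImmersion j] {P Q : EtFppf.AbF Z} (α : P ⟶ Q) (h : LocSurj α.hom) :
    Epi ((EtFppf.pushBig j).map α) := by
  rw [K453.SheafEx.epi_iff_locally]
  intro U s
  let s : Q.obj.obj (op ((Over.pullback j).obj U)) := s
  let R : Sieve U :=
    { arrows := fun V g => ∃ t : P.obj.obj (op ((Over.pullback j).obj V)),
        α.hom.app (op ((Over.pullback j).obj V)) t = Q.obj.map ((Over.pullback j).map g).op s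
      downward_closed := by
        rintro V V' g ⟨t, ht⟩ f
        refine ⟨P.obj.map ((Over.pullback j).map f).op t, ?_⟩
        have e1 := ConcreteCategory.congr_hom (α.hom.naturality ((Over.pullback j).map f).op) t
        rw [ConcreteCategory.comp_apply, ConcreteCategory.comp_apply] at e1
        rw [e1, ht, Functor.map_comp, op_comp, Q.obj.map_comp, ConcreteCategory.comp_apply] }
  refine ⟨R, ?_, fun V g hg => hg⟩
  refine mem_J_iff.2 fun x => ?_
  by_cases hx : x ∈ Set.range (pullback.fst U.hom j)
  · obtain ⟨z, rfl⟩ := hx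
    obtain ⟨V', g', hg', ⟨v', hv'⟩, t, ht⟩ := h _ s z
    obtain ⟨V, q, hq, W, i, r, hi, hiv, hpb⟩ := Groth.Agent.EtpbcB.ClosedImmEtale.exists_etale_lift
      (pullback.fst U.hom j) (show V'.left ⟶ pullback U.hom j from g'.left) v'
    obtain ⟨w, hw⟩ := hiv
    let g : Over.mk (q ≫ U.hom) ⟶ U := Over.homMk q
    have hsq : pullback.fst (q ≫ U.hom) j ≫ q = ((Over.pullback j).map g).left ≫ pullback.fst U.hom j :=
      (sq j g).symm
    let k₀ : pullback (q ≫ U.hom) j ⟶ W := hpb.lift (pullback.fst (q ≫ U.hom) j) ((Over.pullback j).map g).left hsq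
    have hk₀ : k₀ ≫ i ≫ g'.left = ((Over.pullback j).map g).left := hpb.lift_snd _ _ hsq
    let k : (Over.pullback j).obj (Over.mk (q ≫ U.hom)) ⟶ V' := Over.homMk (k₀ ≫ i) (by
      rw [← Over.w g', Category.assoc]
      change k₀ ≫ i ≫ g'.left ≫ _ = _
      rw [← Category.assoc i, ← Category.assoc k₀, hk₀]
      exact Over.w ((Over.pullback j).map g))
    have hk : k ≫ g' = (Over.pullback j).map g := by
      ext1
      rw [Over.comp_left, ← hk₀]
      exact Category.assoc _ _ _
    refine ⟨Over.mk (q ≫ U.hom), g, ⟨P.obj.map k.op t, ?_⟩, inferInstanceAs (Flat q),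
      inferInstanceAs (LocallyOfFinitePresentation q), ?_⟩
    · have e1 := ConcreteCategory.congr_hom (α.hom.naturality k.op) t
      rw [ConcreteCategory.comp_apply, ConcreteCategory.comp_apply] at e1
      rw [e1, ht, ← hk, op_comp, Q.obj.map_comp, ConcreteCategory.comp_apply]
    · refine ⟨r w, ?_⟩
      change q (r w) = _
      rw [← Scheme.Hom.comp_apply, hpb.w, Scheme.Hom.comp_apply, Scheme.Hom.comp_apply, hw]
      congr 1
  · obtain ⟨V, g, hg, hxg, hV⟩ := exists_compl j hx
    exact ⟨V, g, ⟨0, eq_of_isEmpty Q.property hV _ _⟩, inferInstance, inferInstance, hxg⟩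

/-- Restriction of points of a smooth commutative group scheme to a closed subscheme is an epimorphism of sheaves. -/
theorem epi_un [IsClosedImmersion j] (G : Over T) [GrpObj G] [IsCommMonObj G] [Smooth G.hom] : Epi (un j G) := by
  rw [K453.SheafEx.epi_iff_locally]
  intro U s
  let s : (CGrpSh.ptsPre G).obj (op ((Over.map j).obj ((Over.pullback j).obj U))) := s
  let p : (Over.map j).obj ((Over.pullback j).obj U) ⟶ G := s.down.toMul
  let R : Sieve U :=
    { arrows := fun V g => ∃ t : V ⟶ G, cl j V ≫ t = (Over.map j).map ((Over.pullback j).map g) ≫ p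
      downward_closed := by
        rintro V V' g ⟨t, ht⟩ f
        refine ⟨f ≫ t, ?_⟩
        rw [← Category.assoc, cl_nat, Category.assoc, ht, Functor.map_comp, Functor.map_comp, Category.assoc] }
  refine ⟨R, ?_, fun V g hg => ?_⟩
  · refine mem_J_iff.2 fun x => ?_
    by_cases hx : x ∈ Set.range (pullback.fst U.hom j)
    · obtain ⟨z, rfl⟩ := hx
      let x₀ : pullback U.hom j ⟶ pullback G.hom U.hom := pullback.lift p.left (pullback.fst U.hom j) (by
        rw [Over.w p]
        exact pullback.condition.symm)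
      obtain ⟨V, q, hq, y, hy, hqr, H⟩ := HLift.exists_lift (pullback.snd G.hom U.hom) (pullback.fst U.hom j) x₀
        (pullback.lift_snd _ _ _) z
      let g : Over.mk (q ≫ U.hom) ⟶ U := Over.homMk q
      refine ⟨Over.mk (q ≫ U.hom), g, ⟨Over.homMk (y ≫ pullback.fst G.hom U.hom) ?_, ?_⟩, inferInstanceAs (Flat q),
        inferInstanceAs (LocallyOfFinitePresentation q), hqr⟩
      · rw [Category.assoc, pullback.condition, ← Category.assoc, hy]
        rfl
      · ext1
        have h1 := H _ (pullback.fst (q ≫ U.hom) j) ((Over.pullback j).map g).left (sq j g).symm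
        rw [Over.comp_left, Over.comp_left, cl_left]
        change pullback.fst (q ≫ U.hom) j ≫ y ≫ _ = ((Over.pullback j).map g).left ≫ p.left
        rw [← Category.assoc, h1, Category.assoc, pullback.lift_fst]
    · obtain ⟨V, g, hg, hxg, hV⟩ := exists_compl j hx
      refine ⟨V, g, ⟨1, ?_⟩, inferInstance, inferInstance, hxg⟩
      ext1
      have : IsEmpty ((Over.map j).obj ((Over.pullback j).obj V)).left := hV
      exact isInitialOfIsEmpty.hom_ext _ _
  · obtain ⟨t, ht⟩ := hg
    refine ⟨ULift.up (Additive.ofMul t), ?_⟩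
    apply ULift.ext
    exact congrArg Additive.ofMul ht

end K731.HPush
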