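import Groth.Agent.CGrpSh.K731.SmDat
import Groth.Agent.FlatA.EtaleSections
import Mathlib.FieldTheory.IsAlgClosed.Basic

/-!
# Étale-local Čech acyclicity of smooth commutative group schemes for finite locally free covers
-/

set_option autoImplicit false
universe u

open CategoryTheory MonoidalCategory CartesianMonoidalCategory MonObj GrpObj AlgebraicGeometry Limits Opposite
open scoped TensorProduct
open Groth.Agent.Sga3B.InfConj Groth.Agent.Sga3B.DSPts Groth.Agent.Etrest.FppfCoch Groth.Agent.Etrest.FppfMain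

noncomputable section

namespace K731.SmAlg

/-- A finite algebra with a retraction has points in algebraically closed fields. -/
theorem exists_algHom_of_isAlgClosed {A B K : Type u} [CommRing A] [CommRing B] [Algebra A B] [Field K] [Algebra A K]
    [IsAlgClosed K] [Module.Finite A B] (L : B →ₗ[A] A) (hL : L 1 = 1) : Nonempty (B →ₐ[A] K) := by
  have h1 : Nontrivial (K ⊗[A] B) := by
    refine ⟨⟨0, 1, fun h => ?_⟩⟩
    have h2 := congrArg (bcL L K) h
    rw [map_zero, bcL_one L hL] at h2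
    exact zero_ne_one h2
  obtain ⟨m, hm⟩ := Ideal.exists_maximal (K ⊗[A] B)
  let F := (K ⊗[A] B) ⧸ m
  have : Field F := Ideal.Quotient.field m
  have hfin : Module.Finite K F := Module.Finite.of_surjective (Ideal.Quotient.mkₐ K m).toLinearMap
    (Ideal.Quotient.mkₐ_surjective K m)
  have hint : Algebra.IsIntegral K F := inferInstance
  have hb : Function.Bijective (algebraMap K F) := by
    let _ : Field F := Ideal.Quotient.field m
    exact IsAlgClosed.algebraMap_bijective_of_isIntegral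
  let ψ : F ≃ₐ[K] K := (AlgEquiv.ofBijective (Algebra.ofId K F) hb).symm
  let θ : K ⊗[A] B →ₐ[K] K := ψ.toAlgHom.comp (Ideal.Quotient.mkₐ K m)
  exact ⟨(θ.restrictScalars A).comp (incl₂ B K)⟩

/-- the affine neighbourhoods of a point of a scheme over `Spec A` -/
theorem exists_affine_nbhd {A : Type u} [CommRing A] {S : Scheme.{u}} (g : S ⟶ Spec (CommRingCat.of A)) (x : S) :
    ∃ (A' : Type u) (_ : CommRing A') (_ : Algebra A A') (w : Spec (CommRingCat.of A') ⟶ S)
      (z : Spec (CommRingCat.of A')), IsOpenImmersion w ∧ w z = x ∧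
        w ≫ g = Spec.map (CommRingCat.ofHom (algebraMap A A')) := by
  obtain ⟨W, hW, hxW, -⟩ := exists_isAffineOpen_mem_and_subset (x := x) (U := (⊤ : S.Opens)) trivial
  have hWa : IsAffine (W : Scheme.{u}) := hW
  obtain ⟨A', _, _, i, j, hj⟩ := exists_ptChart (A := A) (Over.mk (𝟙 (Spec (CommRingCat.of A)))) (W.ι ≫ g)
  have hjw : Spec.map (CommRingCat.ofHom (algebraMap A A')) = i.hom ≫ W.ι ≫ g := by
    rw [← hj]
    have := Over.w j
    exact this.symm.trans (Category.comp_id _)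
  refine ⟨A', inferInstance, inferInstance, i.hom ≫ W.ι, i.inv ⟨x, hxW⟩, inferInstance, ?_, ?_⟩
  · rw [← Scheme.Hom.comp_apply, i.inv_hom_id_assoc]
    rfl
  · rw [hjw, Category.assoc]

variable {X : Scheme.{u}} (G : Over X) [GrpObj G] [IsCommMonObj G] [Smooth G.hom]

/-- **Étale-local Čech acyclicity** of a smooth commutative group scheme. -/
theorem ca_pts : CA (CGrpSh.ptsPre G) := by
  intro T' T U p e hp n c hc hz x
  obtain ⟨D, z, hDs, hz', _, _, ⟨L, hL⟩, N, hN⟩ := exists_dat (e := e) G hp x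
  have hsm : Smooth (D.GA G).hom := inferInstanceAs (Smooth (pullback.snd G.hom D.sX))
  -- the cocycle over `A`
  let cA : AFam (D.GA G) D.B D.A (n + 1) := D.toAlg (resF (D.toU D.A) c)
  have hcA : IsN cA := D.isN_toAlg (hc.res _)
  have hzA : ∀ (R : Type u) [CommRing R] [Algebra D.A R] (x : Fin (n + 3) → (D.B →ₐ[D.A] R)),
      dS (cA R (Algebra.ofId D.A R)) x = 0 := fun R _ _ x => D.isCocycle_toAlg (hz.res _) R _ x
  have hcAeq : ∀ (R : Type u) [CommRing R] [Algebra D.A R] (x : Fin (n + 2) → (D.B →ₐ[D.A] R)),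
      cA R (Algebra.ofId D.A R) x = D.toQ (c (D.ob R) (D.toU R) (fun i => D.toT' (x i))) := by
    intro R _ _ x
    change D.toQ (c (D.ob R) (D.obMap (Algebra.ofId D.A R) ≫ D.toU D.A) (fun i => D.toT' (x i))) = _
    rw [D.obMap_toU]
  -- the geometric point
  have hzp : z.asIdeal.IsPrime := z.2
  let K := AlgebraicClosure z.asIdeal.ResidueField
  obtain ⟨ξ⟩ := exists_algHom_of_isAlgClosed (K := K) L hL
  obtain ⟨b, hb, hbc⟩ := exists_cob_of_section (p := p) (e := D.toU K ≫ e) (D.toT' ξ) (D.toT'_p _ ξ)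
    (resF (D.toU K) c) (hc.res _) (hz.res _)
  let bA : AFam (D.GA G) D.B K n := D.toAlg b
  have hbA : IsN bA := D.isN_toAlg hb
  obtain ⟨T₁⟩ := nonempty_tup (A := D.A) (B := D.B) n
  obtain ⟨T₂⟩ := nonempty_tup (A := D.A) (B := D.B) (n + 1)
  let s₀ : Q (D.GA G) (K ⊗[D.A] T₁.C) := bA _ (incl₁ T₁.C K) (fun i => (incl₂ T₁.C K).comp (T₁.y i))
  have hs₀ : IsSol T₁ cA s₀ := by
    intro R _ _ a x
    have h1 : dS (ofS T₁ s₀ R a) x = dS (bA R a) x := dS_congr fun i => (eq_ofS T₁ hbA R a _).symm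
    rw [h1, D.dS_toAlg, hbc (D.obMap a) _ (D.compat_toT' a x), hcAeq]
    change D.toQ (c (D.ob R) (D.obMap a ≫ D.toU K) _) = _
    rw [D.obMap_toU]
  have hart : IsArtinianRing (K ⊗[D.A] T₁.C) := IsArtinianRing.of_finite K _
  obtain ⟨E₀, _, _, _, j, _, c₀, hc₀⟩ := exists_disjoint_chart (D.GA G) s₀.toMul
  obtain ⟨O, _, _, hO, s, κ, hs, -⟩ := exists_chart T₁ T₂ L hL N hcA hzA j (K := K) c₀ (by
    rw [hc₀]
    exact hs₀)
  -- étale localization
  have hOs : Smooth (Spec.map (CommRingCat.ofHom (algebraMap D.A O))) := by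
    rw [HasRingHomProperty.Spec_iff (P := @Smooth)]
    exact RingHom.smooth_algebraMap.2 hO
  have hzO : z ∈ Set.range (Spec.map (CommRingCat.ofHom (algebraMap D.A O))) := by
    let k : Spec (CommRingCat.of K) := IsLocalRing.closedPoint K
    refine ⟨Spec.map (CommRingCat.ofHom κ.toRingHom) k, ?_⟩
    rw [← Scheme.Hom.comp_apply, ← Spec.map_comp, ← CommRingCat.ofHom_comp]
    have h1 : κ.toRingHom.comp (algebraMap D.A O) = algebraMap D.A K := κ.comp_algebraMap
    rw [h1]
    apply PrimeSpectrum.ext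
    change Ideal.comap (algebraMap D.A K) (IsLocalRing.closedPoint K).asIdeal = z.asIdeal
    have h2 : (IsLocalRing.closedPoint K).asIdeal = ⊥ := IsLocalRing.maximalIdeal_eq_bot
    rw [h2]
    have h3 : algebraMap D.A K = (algebraMap z.asIdeal.ResidueField K).comp
        (algebraMap D.A z.asIdeal.ResidueField) := IsScalarTower.algebraMap_eq _ _ _
    have h4 : Ideal.comap (algebraMap z.asIdeal.ResidueField K) ⊥ = ⊥ := by
      exact (RingHom.injective_iff_ker_eq_bot _).1 (algebraMap z.asIdeal.ResidueField K).injective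
    rw [h3, ← Ideal.comap_comap, h4]
    exact Ideal.ker_algebraMap_residueField _
  obtain ⟨S', g, s', hg, hgs, h, hh⟩ := Groth.Agent.FlatA.EtaleSections.exists_section _ z hzO
  obtain ⟨A', _, _, w, z', hw, hwz, hwg⟩ := exists_affine_nbhd g s'
  have hA' : Etale (Spec.map (CommRingCat.ofHom (algebraMap D.A A'))) := by
    rw [← hwg]
    infer_instance
  obtain ⟨φ, hφ⟩ := exists_algHom (A := D.A) (R := O) (R' := A') (w ≫ h) (by
    rw [Category.assoc, hh, hwg])
  let σ : AFam (D.GA G) D.B A' n := ofS T₁ (qmap (D.GA G) (tm T₁.C φ) s)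
  have hσ : IsN σ := isN_ofS _ _
  have hσc : ∀ (R : Type u) [CommRing R] [Algebra D.A R] (a : A' →ₐ[D.A] R) (x : Fin (n + 2) → (D.B →ₐ[D.A] R)),
      dS (σ R a) x = cA R (Algebra.ofId D.A R) x := IsSol.qmap T₁ cA hs φ
  refine ⟨D.ob A', D.toU A', ?_, ?_, D.fromAlg σ, ?_, ?_⟩
  · change Etale (Spec.map (CommRingCat.ofHom (algebraMap D.A A')) ≫ D.s)
    infer_instance
  · refine ⟨z', ?_⟩
    change (Spec.map (CommRingCat.ofHom (algebraMap D.A A')) ≫ D.s) z' = x
    rw [← hz', Scheme.Hom.comp_apply, ← hwg, Scheme.Hom.comp_apply, hwz, hgs]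
  · exact D.isCoch_fromAlg hσ
  · intro W a x hx
    obtain ⟨R, _, _, π', a', x', rfl, hx'⟩ := D.exists_tuple a x hx
    obtain rfl : (fun i => π' ≫ D.toT' (x' i)) = x := funext hx'
    rw [D.dS_fromAlg hσ, hσc, hcAeq, D.ofQ_toQ]
    have h1 : Compat p e (D.toU R) (fun i => D.toT' (x' i)) := fun i => D.toT'_p _ _
    rw [hc π' _ _ h1]
    change c W (π' ≫ D.toU R) _ = c W ((π' ≫ D.obMap a') ≫ D.toU A') _
    rw [Category.assoc, D.obMap_toU]

end K731.SmAlg
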