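import Groth.Agent.CGrpSh.K731.HPush
import Groth.Agent.CGrpSh.K731.SmCA
import Groth.Agent.Sga4B.AcycCmp
import Groth.Agent.TateGlob.K828.Kit
import Groth.Agent.TateLoc.K809.PtsPull

/-!
# Bijectivity of restriction maps to closed subschemes

* `pull_bijective`: an abstract criterion;
* `pull_pts_bijective`: restriction of the cohomology of a smooth commutative group scheme to a closed subscheme is
  bijective in positive degrees if the kernel of the unit has no cohomology in positive degrees.
-/

set_option autoImplicit false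
universe u

open CategoryTheory AlgebraicGeometry Limits Opposite
open Groth.Agent.Etrest.BigEtSite Groth.Agent.Etrest.FppfMain Groth.Agent.Etrest.FppfLoc
open Groth.Agent.EtpbcB.Acyc

namespace K731.HRed

section abs

variable {K : Precoverage Scheme.{u}} {Z T : Scheme.{u}} (f : Z ⟶ T) (F : BigSite.Ab K T)

/-- The exact sequence of the unit. -/
noncomputable def seq : ShortComplex (BigSite.Ab K T) :=
  ShortComplex.mk (kernel.ι ((BigSite.bigAdj K f AddCommGrpCat.{u + 1}).unit.app F))
    ((BigSite.bigAdj K f AddCommGrpCat.{u + 1}).unit.app F) (kernel.condition _)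

theorem seq_shortExact (h : Epi ((BigSite.bigAdj K f AddCommGrpCat.{u + 1}).unit.app F)) : (seq f F).ShortExact :=
  { exact := ShortComplex.exact_kernel _
    mono_f := inferInstanceAs (Mono (kernel.ι _))
    epi_g := h }

/-- An abstract criterion for the bijectivity of restriction maps. -/
theorem pull_bijective (hac : Acyclic (BigSite.pushBig K f AddCommGrpCat.{u + 1})
      ((BigSite.pullBig K f AddCommGrpCat.{u + 1}).obj F))
    (hepi : Epi ((BigSite.bigAdj K f AddCommGrpCat.{u + 1}).unit.app F))
    (hvan : ∀ m : ℕ, Subsingleton (BigSite.H K T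
      (kernel ((BigSite.bigAdj K f AddCommGrpCat.{u + 1}).unit.app F)) (m + 1)))
    (n : ℕ) (hn : 1 ≤ n) : Function.Bijective (HRes.pull K f F n) := by
  obtain ⟨n, rfl⟩ : ∃ m, n = m + 1 := ⟨n - 1, by omega⟩
  have hS := seq_shortExact f F hepi
  let P := (constantSheaf (QuotSh.J K T) AddCommGrpCat.{u + 1}).obj (AddCommGrpCat.of (ULift.{u + 1} ℤ))
  let L := BigSite.pullBig K f AddCommGrpCat.{u + 1}
  let adj := BigSite.bigAdj K f AddCommGrpCat.{u + 1}
  let b := (HRes.pullConst K f (AddCommGrpCat.of (ULift.{u + 1} ℤ))).inv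
  have h1 : Function.Bijective (Sheaf.H.map (seq f F).g (n + 1)) := by
    constructor
    · rw [injective_iff_map_eq_zero]
      intro x hx
      obtain ⟨y, rfl⟩ := K828.Kit.exact₂ hS (n + 1) x hx
      have : y = 0 := (hvan n).elim _ _
      rw [this, map_zero]
    · intro x
      exact K828.Kit.exact₃ hS (n + 1) x ((hvan (n + 1)).elim _ _)
  have h2 := Groth.Agent.Sga4B.AcycCmp.psi_bijective.{u + 1, u + 1} adj P (n + 1) (L.obj F) hac
  have h3 : Function.Bijective (fun e : Abelian.Ext.{u + 1} (L.obj P) (L.obj F) (n + 1) =>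
      (Abelian.Ext.mk₀ b).comp e (zero_add (n + 1))) :=
    Function.bijective_iff_has_inverse.2
      ⟨fun e => (Abelian.Ext.mk₀ (inv b)).comp e (zero_add (n + 1)), fun e => by
        dsimp only
        rw [← Abelian.Ext.comp_assoc_of_second_deg_zero, Abelian.Ext.mk₀_comp_mk₀, IsIso.inv_hom_id,
          Abelian.Ext.mk₀_id_comp],
      fun e => by
        dsimp only
        rw [← Abelian.Ext.comp_assoc_of_second_deg_zero, Abelian.Ext.mk₀_comp_mk₀, IsIso.hom_inv_id,
          Abelian.Ext.mk₀_id_comp]⟩
  have h4 : (HRes.pull K f F (n + 1) : BigSite.H K T F (n + 1) → _) =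
      (fun e => (Abelian.Ext.mk₀ b).comp e (zero_add (n + 1))) ∘
        (Groth.Agent.Sga4B.AcycCmp.psi adj P (L.obj F) (n + 1)) ∘ (Sheaf.H.map (seq f F).g (n + 1)) := by
    funext x
    refine (HRes.pull_apply K f F (n + 1) x).trans ?_
    change _ = (Abelian.Ext.mk₀ b).comp (Groth.Agent.Sga4B.AcycCmp.psi adj P (L.obj F) (n + 1)
      (Sheaf.H.map (seq f F).g (n + 1) x)) (zero_add (n + 1))
    congr 1
    have e1 : Sheaf.H.map (seq f F).g (n + 1) x =
        Abelian.Ext.comp x (Abelian.Ext.mk₀ (adj.unit.app F)) (add_zero (n + 1)) := Sheaf.H.map_apply _ _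
    rw [e1, Groth.Agent.Sga4B.AcycCmp.psi_apply, Abelian.Ext.mapExactFunctor_comp,
      Abelian.Ext.mapExactFunctor_mk₀, Abelian.Ext.comp_assoc_of_third_deg_zero, Abelian.Ext.mk₀_comp_mk₀,
      adj.left_triangle_components, Abelian.Ext.comp_mk₀_id]
  rw [h4]
  exact h3.comp (h2.comp h1)

end abs

section pts

variable {Z T : Scheme.{u}} (j : Z ⟶ T)

/-- Restrictions of sheaves of points of smooth commutative group schemes are étale-locally Čech acyclic. -/
theorem ca_pull (G : Over T) [GrpObj G] [IsCommMonObj G] [Smooth G.hom] :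
    CA ((BigSite.pullBig Scheme.fppfPrecoverage j AddCommGrpCat.{u + 1}).obj
      (CGrpSh.pts Scheme.fppfPrecoverage G)).obj := by
  have : Smooth (Red.bc j G).hom := inferInstanceAs (Smooth (pullback.snd G.hom j))
  exact CA.of_iso ((sheafToPresheaf _ _).mapIso (K809.PtsPull.ptsPull Scheme.fppfPrecoverage j G)).symm
    (SmAlg.ca_pts (Red.bc j G))

theorem acyclic_pull [IsClosedImmersion j] (G : Over T) [GrpObj G] [IsCommMonObj G] [Smooth G.hom] :
    Acyclic (BigSite.pushBig Scheme.fppfPrecoverage j AddCommGrpCat.{u + 1})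
      ((BigSite.pullBig Scheme.fppfPrecoverage j AddCommGrpCat.{u + 1}).obj
        (CGrpSh.pts Scheme.fppfPrecoverage G)) := by
  have : PreservesFiniteLimits (EtFppf.pushBig j) :=
    have : PreservesLimitsOfSize.{0, 0} (EtFppf.pushBig j) :=
      (BigSite.bigAdj Scheme.fppfPrecoverage j AddCommGrpCat.{u + 1}).rightAdjoint_preservesLimits
    PreservesLimitsOfSize.preservesFiniteLimits _
  intro q hq
  exact isZero_rightDerived_of_CA (EtFppf.pushBig j) (fun α h => HPush.epi_pushBig j α h) (ca_pull j G) q hq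

/-- Restriction of the cohomology of a smooth commutative group scheme to a closed subscheme. -/
theorem pull_pts_bijective [IsClosedImmersion j] (G : Over T) [GrpObj G] [IsCommMonObj G] [Smooth G.hom]
    (hvan : ∀ m : ℕ, Subsingleton (BigSite.H Scheme.fppfPrecoverage T (kernel (NSh.un j G)) (m + 1)))
    (n : ℕ) (hn : 1 ≤ n) :
    Function.Bijective (HRes.pull Scheme.fppfPrecoverage j (CGrpSh.pts Scheme.fppfPrecoverage G) n) :=
  pull_bijective j _ (acyclic_pull j G) (HPush.epi_un j G) hvan n hn

end pts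

end K731.HRed
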