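import Groth.Agent.CGrpSh.K731.SmFam
import Groth.Agent.Etrest.FppfMain3
import Mathlib.RingTheory.Localization.Free
import Mathlib.RingTheory.Flat.FaithfullyFlat.Algebra

/-!
# Good local data for a finite locally free morphism
-/

set_option autoImplicit false
universe u

open CategoryTheory MonoidalCategory CartesianMonoidalCategory MonObj GrpObj AlgebraicGeometry Limits Opposite
open scoped TensorProduct
open Groth.Agent.Sga3B.InfConj Groth.Agent.Sga3B.DSPts Groth.Agent.Etrest.FppfCoch Groth.Agent.Etrest.FppfMain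

noncomputable section

namespace K731.SmAlg

section algebra

variable {A B : Type u} [CommRing A] [CommRing B] [Algebra A B]

theorem etale_specMap_away (f : A) :
    Etale (Spec.map (CommRingCat.ofHom (algebraMap A (Localization.Away f)))) := by
  have : IsOpenImmersion (Spec.map (CommRingCat.ofHom (algebraMap A (Localization.Away f)))) :=
    inferInstance
  infer_instance

theorem exists_away_point (f : A) (z : Spec (CommRingCat.of A)) (hf : f ∉ z.asIdeal) :
    ∃ z' : Spec (CommRingCat.of (Localization.Away f)),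
      Spec.map (CommRingCat.ofHom (algebraMap A (Localization.Away f))) z' = z := by
  have h : z ∈ Set.range (PrimeSpectrum.comap (algebraMap A (Localization.Away f))) := by
    rw [PrimeSpectrum.localization_away_comap_range (Localization.Away f) f]
    exact hf
  obtain ⟨z', hz'⟩ := h
  exact ⟨z', hz'⟩

/-- A finite flat algebra of finite presentation is free locally on the base. -/
theorem exists_free [Module.Finite A B] [Module.Flat A B] [Algebra.FinitePresentation A B]
    (z : Spec (CommRingCat.of A)) :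
    ∃ f : A, f ∉ z.asIdeal ∧ Module.Free (Localization.Away f) (Localization.Away f ⊗[A] B) := by
  have hp : z.asIdeal.IsPrime := z.2
  have h1 : Module.FinitePresentation A B :=
    Module.FinitePresentation.of_finite_of_finitePresentation A B
  let Rs := Localization.AtPrime z.asIdeal
  have h2 : Module.Free Rs (Rs ⊗[A] B) := Module.free_of_flat_of_isLocalRing
  obtain ⟨r, hr, hfree, -⟩ := Module.FinitePresentation.exists_free_localizedModule_powers z.asIdeal.primeCompl
    (TensorProduct.mk A Rs B 1) Rs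
  refine ⟨r, hr, ?_⟩
  exact Module.Free.of_equiv (LocalizedModule.equivTensorProduct (Submonoid.powers r) B)

/-- A linear form which is invertible on `1`, locally on the base. -/
theorem exists_form [Module.Finite A B] [Module.Free A B]
    (hs : Function.Surjective (PrimeSpectrum.comap (algebraMap A B))) (z : Spec (CommRingCat.of A)) :
    ∃ (f : A) (L : B →ₗ[A] A), f ∉ z.asIdeal ∧ L 1 = f := by
  have hff : Module.FaithfullyFlat A B := Module.FaithfullyFlat.of_comap_surjective hs
  let κ := Module.Free.ChooseBasisIndex A B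
  let b : Module.Basis κ A B := Module.Free.chooseBasis A B
  by_cases h0 : ∃ k : κ, b.coord k 1 ∉ z.asIdeal
  · obtain ⟨k, hk⟩ := h0
    exact ⟨_, b.coord k, hk, rfl⟩
  exfalso
  have h1 : ∀ k : κ, b.coord k 1 ∈ z.asIdeal := fun k => not_not.1 (not_exists.1 h0 k)
  have h2 : (1 : B) ∈ z.asIdeal • (⊤ : Submodule A B) := by
    have h3 : ∑ k, b.repr 1 k • b k ∈ z.asIdeal • (⊤ : Submodule A B) :=
      Submodule.sum_mem _ fun k _ => Submodule.smul_mem_smul (h1 k) trivial
    rwa [b.sum_repr] at h3
  have h4 : z.asIdeal • (⊤ : Submodule A B) = (z.asIdeal.map (algebraMap A B)).restrictScalars A := by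
    rw [Ideal.smul_top_eq_map]
  have h5 : z.asIdeal.map (algebraMap A B) = ⊤ := by
    rw [Ideal.eq_top_iff_one]
    rw [h4] at h2
    exact h2
  obtain ⟨m, hm, hzm⟩ := z.asIdeal.exists_le_maximal z.2.ne_top
  apply Module.FaithfullyFlat.submodule_ne_top (R := A) (M := B) hm
  rw [eq_top_iff]
  refine le_trans ?_ (Submodule.smul_mono_left hzm)
  rw [h4, h5]
  exact le_rfl

end algebra

section dat

variable {X : Scheme.{u}} {T' T U : Over X} {p : T' ⟶ T} {e : U ⟶ T}

/-- Base change of local data. -/
def Dat.bc (D : Dat p e) (A' : Type u) [CommRing A'] [Algebra D.A A'] : Dat p e where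
  A := A'
  B := A' ⊗[D.A] D.B
  s := Spec.map (CommRingCat.ofHom (algebraMap D.A A')) ≫ D.s
  t := Spec.map (CommRingCat.ofHom (incl₂ D.B A').toRingHom) ≫ D.t
  pb := by
    have h1 : IsPullback (Spec.map (CommRingCat.ofHom (incl₂ D.B A').toRingHom))
        (Spec.map (CommRingCat.ofHom (algebraMap A' (A' ⊗[D.A] D.B))))
        (Spec.map (CommRingCat.ofHom (algebraMap D.A D.B))) (Spec.map (CommRingCat.ofHom (algebraMap D.A A'))) :=
      (isPullback_SpecMap_of_isPushout _ _ _ _ (CommRingCat.isPushout_tensorProduct D.A A' D.B)).flip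
    have h2 := h1.paste_horiz D.pb
    rwa [← Category.assoc] at h2

/-- Initial data. -/
theorem exists_dat₀ (hp : FLF p) {A : Type u} [CommRing A] (s : Spec (CommRingCat.of A) ⟶ U.left) :
    ∃ (B : Type u) (_ : CommRing B) (_ : Algebra A B) (t : Spec (CommRingCat.of B) ⟶ T'.left)
      (_ : IsPullback t (Spec.map (CommRingCat.ofHom (algebraMap A B))) p.left (s ≫ e.left)),
      Module.Finite A B ∧ Module.Flat A B ∧ Algebra.FinitePresentation A B ∧
        Function.Surjective (PrimeSpectrum.comap (algebraMap A B)) := by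
  have h1 := hp.fin
  have h2 := hp.flat
  have h3 := hp.lfp
  have h4 := hp.surj
  let P := pullback p.left (s ≫ e.left)
  let q : P ⟶ Spec (CommRingCat.of A) := pullback.snd p.left (s ≫ e.left)
  have hq1 : IsFinite q := inferInstance
  have hq2 : Flat q := inferInstance
  have hq3 : LocallyOfFinitePresentation q := inferInstance
  have hq4 : Surjective q := inferInstance
  have hP : IsAffine P := isAffine_of_isAffineHom q
  obtain ⟨B, _, _, i, j, hj⟩ := exists_ptChart (A := A) (Over.mk (𝟙 (Spec (CommRingCat.of A)))) q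
  have hjw : Spec.map (CommRingCat.ofHom (algebraMap A B)) = i.hom ≫ q := by
    rw [← hj]
    have := Over.w j
    exact this.symm.trans (Category.comp_id _)
  refine ⟨B, inferInstance, inferInstance, i.hom ≫ pullback.fst p.left (s ≫ e.left), ?_, ?_, ?_, ?_, ?_⟩
  · rw [hjw]
    exact (IsPullback.of_hasPullback p.left (s ≫ e.left)).of_iso i.symm (Iso.refl _) (Iso.refl _) (Iso.refl _)
      (by simp) (by simp [q]) (by simp) (by simp)
  · have h5 : IsFinite (Spec.map (CommRingCat.ofHom (algebraMap A B))) := by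
      rw [hjw]
      infer_instance
    rw [IsFinite.SpecMap_iff] at h5
    exact RingHom.finite_algebraMap.1 h5
  · have h5 : Flat (Spec.map (CommRingCat.ofHom (algebraMap A B))) := by
      rw [hjw]
      infer_instance
    rw [HasRingHomProperty.Spec_iff (P := @Flat)] at h5
    exact RingHom.flat_algebraMap_iff.1 h5
  · have h5 : LocallyOfFinitePresentation (Spec.map (CommRingCat.ofHom (algebraMap A B))) := by
      rw [hjw]
      infer_instance
    rw [HasRingHomProperty.Spec_iff (P := @LocallyOfFinitePresentation)] at h5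
    exact RingHom.finitePresentation_algebraMap.1 h5
  · have h5 : Surjective (Spec.map (CommRingCat.ofHom (algebraMap A B))) := by
      rw [hjw]
      infer_instance
    exact h5.surj

/-- Good local data. -/
theorem exists_dat (G : Over X) [GrpObj G] [IsCommMonObj G] [Smooth G.hom] (hp : FLF p) (x : U.left) :
    ∃ (D : Dat p e) (z : Spec (CommRingCat.of D.A)), Etale D.s ∧ D.s z = x ∧ Module.Finite D.A D.B ∧
      Module.Free D.A D.B ∧ (∃ L : D.B →ₗ[D.A] D.A, L 1 = 1) ∧
      ∃ N : UNbhd (D.GA G), Algebra.FiniteType D.A N.D := by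
  obtain ⟨W, hW, hxW, -⟩ := exists_isAffineOpen_mem_and_subset (x := x) (U := (⊤ : U.left.Opens)) trivial
  let A₁ : Type u := Γ(U.left, W)
  let s₁ : Spec (CommRingCat.of A₁) ⟶ U.left := hW.fromSpec
  obtain ⟨z₁, hz₁⟩ : ∃ z : Spec (CommRingCat.of A₁), s₁ z = x := by
    have : x ∈ Set.range hW.fromSpec := by
      rw [hW.range_fromSpec]
      exact hxW
    exact this
  have hs₁ : Etale s₁ := inferInstanceAs (Etale hW.fromSpec)
  obtain ⟨B₁, _, _, t₁, pb₁, hf₁, hfl₁, hfp₁, hsu₁⟩ := exists_dat₀ (e := e) hp s₁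
  let D₁ : Dat p e := { A := A₁, B := B₁, s := s₁, t := t₁, pb := pb₁ }
  obtain ⟨f₁, hf₁z, hfree₁⟩ := exists_free (A := A₁) (B := B₁) z₁
  let D₂ : Dat p e := D₁.bc (Localization.Away f₁)
  obtain ⟨z₂, hz₂⟩ := exists_away_point f₁ z₁ hf₁z
  have hfree₂ : Module.Free D₂.A D₂.B := hfree₁
  have hfin₂ : Module.Finite D₂.A D₂.B := inferInstanceAs (Module.Finite (Localization.Away f₁)
    (Localization.Away f₁ ⊗[A₁] B₁))
  have hsu₂ : Function.Surjective (PrimeSpectrum.comap (algebraMap D₂.A D₂.B)) := by
    have h1 : Surjective (Spec.map (CommRingCat.ofHom (algebraMap D₂.A D₂.B))) := by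
      have h4 := hp.surj
      exact MorphismProperty.of_isPullback (P := @Surjective) D₂.pb h4
    exact h1.surj
  have hs₂ : Etale D₂.s := by
    have := etale_specMap_away f₁
    exact inferInstanceAs (Etale (Spec.map (CommRingCat.ofHom (algebraMap A₁ (Localization.Away f₁))) ≫ s₁))
  obtain ⟨f₂, L₂, hf₂, hL₂⟩ := exists_form hsu₂ z₂
  obtain ⟨f₃, hf₃, hN⟩ := exists_unbhd G D₂.sX z₂
  let f : D₂.A := f₂ * f₃
  have hf : f ∉ PrimeSpectrum.asIdeal z₂ := fun h => (z₂.2.mem_or_mem h).elim hf₂ hf₃
  obtain ⟨z₃, hz₃⟩ := exists_away_point f z₂ hf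
  let D₃ : Dat p e := D₂.bc (Localization.Away f)
  have hu : IsUnit (algebraMap D₂.A (Localization.Away f) f₂ * algebraMap D₂.A (Localization.Away f) f₃) := by
    rw [← map_mul]
    exact IsLocalization.Away.algebraMap_isUnit f
  obtain ⟨hu₂, hu₃⟩ := IsUnit.mul_iff.1 hu
  refine ⟨D₃, z₃, ?_, ?_, ?_, ?_, ?_, ?_⟩
  · have := etale_specMap_away f
    exact inferInstanceAs (Etale (Spec.map (CommRingCat.ofHom (algebraMap D₂.A (Localization.Away f))) ≫ D₂.s))
  · exact (Scheme.Hom.comp_apply _ _ _).trans ((congrArg D₂.s hz₃).trans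
      ((Scheme.Hom.comp_apply _ _ _).trans ((congrArg s₁ hz₂).trans hz₁)))
  · exact inferInstanceAs (Module.Finite (Localization.Away f) (Localization.Away f ⊗[D₂.A] D₂.B))
  · exact inferInstanceAs (Module.Free (Localization.Away f) (Localization.Away f ⊗[D₂.A] D₂.B))
  · obtain ⟨v, hv⟩ := hu₂
    refine ⟨((v⁻¹ : (Localization.Away f)ˣ) : Localization.Away f) • bcL L₂ (Localization.Away f), ?_⟩
    change ((v⁻¹ : (Localization.Away f)ˣ) : Localization.Away f) • bcL L₂ (Localization.Away f) (1 ⊗ₜ 1) = 1
    rw [bcL_tmul, hL₂, smul_eq_mul, Algebra.smul_def, ← hv, _root_.mul_one, Units.inv_mul]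
  · exact hN (Localization.Away f) hu₃ _ (Category.assoc _ _ _)

end dat

end K731.SmAlg
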