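import Groth.Agent.S5035
import Groth.Agent.S0499
import Groth.Agent.S0505
import Groth.Agent.Flat2E.QFSliceScheme
import Groth.Agent.CGrpSh.K731.SmDat

/-!
# Refinement of flat coverings of henselian local schemes by finite free ones
-/

set_option autoImplicit false
universe u

open CategoryTheory AlgebraicGeometry Limits Opposite

namespace K731.HRef

theorem exists_algebra {A : Type u} [CommRing A] {W : Scheme.{u}} [IsAffine W] (w : W ⟶ Spec (CommRingCat.of A)) :
    ∃ (E : Type u) (_ : CommRing E) (_ : Algebra A E) (e : Spec (CommRingCat.of E) ≅ W),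
      Spec.map (CommRingCat.ofHom (algebraMap A E)) = e.hom ≫ w := by
  obtain ⟨E, _, _, e, j, hj⟩ := SmAlg.exists_ptChart (A := A) (Over.mk (𝟙 (Spec (CommRingCat.of A)))) w
  refine ⟨E, inferInstance, inferInstance, e, ?_⟩
  rw [← hj]
  have := Over.w j
  exact this.symm.trans (Category.comp_id _)

/-- Refinement of a flat covering of a henselian local scheme. -/
theorem exists_ref {A : Type u} [CommRing A] [HenselianLocalRing A] {Y : Scheme.{u}}
    (g : Y ⟶ Spec (CommRingCat.of A)) [Flat g] [LocallyOfFinitePresentation g] (y : Y)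
    (hy : g y = IsLocalRing.closedPoint A) :
    ∃ (B : Type u) (_ : CommRing B) (_ : IsLocalRing B) (_ : Algebra A B) (l : Spec (CommRingCat.of B) ⟶ Y),
      Module.Finite A B ∧ l ≫ g = Spec.map (CommRingCat.ofHom (algebraMap A B)) ∧
      IsFinite (Spec.map (CommRingCat.ofHom (algebraMap A B))) ∧
      Flat (Spec.map (CommRingCat.ofHom (algebraMap A B))) ∧
      LocallyOfFinitePresentation (Spec.map (CommRingCat.ofHom (algebraMap A B))) ∧
      Surjective (Spec.map (CommRingCat.ofHom (algebraMap A B))) := by
  obtain ⟨T, h, r, t, _, _, _, _, _, ht, hr⟩ := Groth.Agent.Flat2E.QFSliceScheme.exists_local_slice g y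
  obtain ⟨E, _, _, e, he⟩ := exists_algebra h
  have hfl : Module.Flat A E := by
    have h5 : Flat (Spec.map (CommRingCat.ofHom (algebraMap A E))) := by
      rw [he]
      infer_instance
    rw [HasRingHomProperty.Spec_iff (P := @Flat)] at h5
    exact RingHom.flat_algebraMap_iff.1 h5
  have hfp : Algebra.FinitePresentation A E := by
    have h5 : LocallyOfFinitePresentation (Spec.map (CommRingCat.ofHom (algebraMap A E))) := by
      rw [he]
      infer_instance
    rw [HasRingHomProperty.Spec_iff (P := @LocallyOfFinitePresentation)] at h5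
    exact RingHom.finitePresentation_algebraMap.1 h5
  have hqf : Algebra.QuasiFinite A E := by
    have h5 : LocallyQuasiFinite (Spec.map (CommRingCat.ofHom (algebraMap A E))) := by
      rw [he]
      infer_instance
    rw [HasRingHomProperty.Spec_iff (P := @LocallyQuasiFinite)] at h5
    exact RingHom.quasiFinite_algebraMap.1 h5
  let z : Spec (CommRingCat.of E) := e.inv t
  have hz : Spec.map (CommRingCat.ofHom (algebraMap A E)) z = IsLocalRing.closedPoint A := by
    rw [he, Scheme.Hom.comp_apply, ← Scheme.Hom.comp_apply e.inv, e.inv_hom_id]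
    exact ht.trans hy
  have hzp : z.asIdeal.IsPrime := z.2
  have hlie : z.asIdeal.LiesOver (IsLocalRing.maximalIdeal A) := ⟨by
    have := congrArg PrimeSpectrum.asIdeal hz
    exact this.symm⟩
  let B := Localization.AtPrime z.asIdeal
  have hfin : Module.Finite A B := Groth.Agent.S5035.finite_localization A E z.asIdeal
  have hflB : Module.Flat A B := Module.Flat.trans A E B
  have hfree : Module.Free A B := Module.free_of_flat_of_isLocalRing
  have hmfp : Module.FinitePresentation A B := Module.finitePresentation_of_projective A B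
  have hfpB : Algebra.FinitePresentation A B := inferInstance
  refine ⟨B, inferInstance, inferInstance, inferInstance,
    Spec.map (CommRingCat.ofHom (algebraMap E B)) ≫ e.hom ≫ r, hfin, ?_, ?_, ?_, ?_, ?_⟩
  · rw [Category.assoc, Category.assoc, hr, ← he, ← Spec.map_comp, ← CommRingCat.ofHom_comp,
      ← IsScalarTower.algebraMap_eq A E B]
  · rw [IsFinite.SpecMap_iff]
    exact RingHom.finite_algebraMap.2 hfin
  · rw [HasRingHomProperty.Spec_iff (P := @Flat)]
    exact RingHom.flat_algebraMap_iff.2 hflB
  · rw [HasRingHomProperty.Spec_iff (P := @LocallyOfFinitePresentation)]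
    exact RingHom.finitePresentation_algebraMap.2 hfpB
  · have hloc : IsLocalHom (algebraMap A B) := by
      refine ⟨fun a ha => ?_⟩
      by_contra hna
      have h1 : a ∈ IsLocalRing.maximalIdeal A := (IsLocalRing.mem_maximalIdeal a).2 hna
      rw [hlie.over] at h1
      have h2 : algebraMap A E a ∈ z.asIdeal := h1
      rw [IsScalarTower.algebraMap_apply A E B] at ha
      exact (IsLocalization.AtPrime.isUnit_to_map_iff B z.asIdeal _).1 ha h2
    have hff : Module.FaithfullyFlat A B := inferInstance
    exact ⟨PrimeSpectrum.comap_surjective_of_faithfullyFlat⟩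

open K731.SmAlg Groth.Agent.Sga3B.InfConj in
/-- Finite schemes over a henselian local scheme are disjoint unions of local schemes. -/
theorem exists_decomp {R : Type u} [CommRing R] [HenselianLocalRing R] (Y : Over (Spec (CommRingCat.of R)))
    [IsFinite Y.hom] :
    ∃ (ι : Type u) (C : ι → Type u) (_ : ∀ i, CommRing (C i)) (_ : ∀ i, IsLocalRing (C i))
      (_ : ∀ i, Algebra R (C i)) (j : ∀ i, pt R (C i) ⟶ Y), (∀ i, Module.Finite R (C i)) ∧
      (∀ i, IsOpenImmersion (j i).left) ∧
      (∀ y : Y.left, ∃ (i : ι) (w : (pt R (C i)).left), (j i).left w = y) ∧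
      ∀ (i i' : ι) (V : Over (Spec (CommRingCat.of R))) (a : V ⟶ pt R (C i)) (b : V ⟶ pt R (C i')),
        a ≫ j i = b ≫ j i' → i ≠ i' → IsEmpty V.left := by
  have hY : IsAffine Y.left := isAffine_of_isAffineHom Y.hom
  obtain ⟨E, _, _, e, he⟩ := exists_algebra Y.hom
  have hE : Module.Finite R E := by
    have h5 : IsFinite (Spec.map (CommRingCat.ofHom (algebraMap R E))) := by
      rw [he]
      infer_instance
    rw [IsFinite.SpecMap_iff] at h5
    exact RingHom.finite_algebraMap.1 h5
  obtain ⟨ι, _, C, _, hC, ⟨φ⟩⟩ := Groth.Agent.S0499.result R E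
  let ev : ∀ i, E →+* C i := fun i => (Pi.evalRingHom C i).comp φ.toRingHom
  have hev : ∀ i, Function.Surjective (ev i) := fun i =>
    (Function.surjective_eval i).comp φ.surjective
  let alg : ∀ i, Algebra R (C i) := fun i => ((ev i).comp (algebraMap R E)).toAlgebra
  let s : (∐ fun i => Spec (CommRingCat.of (C i))) ≅ Y.left :=
    asIso (sigmaSpec fun i => CommRingCat.of (C i)) ≪≫
      Scheme.Spec.mapIso (RingEquiv.toCommRingCatIso φ).op ≪≫ e
  let j : ∀ i, pt R (C i) ⟶ Y := fun i => Over.homMk (Spec.map (CommRingCat.ofHom (ev i)) ≫ e.hom) (by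
    rw [Category.assoc, ← he, ← Spec.map_comp, ← CommRingCat.ofHom_comp]
    rfl)
  have hj : ∀ i, (j i).left = Sigma.ι (fun i => Spec (CommRingCat.of (C i))) i ≫ s.hom := by
    intro i
    change Spec.map (CommRingCat.ofHom (ev i)) ≫ e.hom = Sigma.ι (fun i => Spec (CommRingCat.of (C i))) i ≫
      sigmaSpec (fun i => CommRingCat.of (C i)) ≫ Spec.map (RingEquiv.toCommRingCatIso φ).hom ≫ e.hom
    have h1 := ι_sigmaSpec (fun i => CommRingCat.of (C i)) i
    rw [← Category.assoc, h1, ← Category.assoc, ← Spec.map_comp]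
    rfl
  refine ⟨ι, C, inferInstance, hC, alg, j, fun i => ?_, fun i => ?_, fun y => ?_, ?_⟩
  · let evA : E →ₐ[R] C i := { (ev i) with commutes' := fun r => rfl }
    exact Module.Finite.of_surjective evA.toLinearMap (hev i)
  · rw [hj]
    infer_instance
  · obtain ⟨i, w, hw⟩ := (sigmaOpenCover (fun i => Spec (CommRingCat.of (C i)))).exists_eq (s.inv y)
    refine ⟨i, w, ?_⟩
    rw [hj, Scheme.Hom.comp_apply]
    have hw' : Sigma.ι (fun i => Spec (CommRingCat.of (C i))) i w = s.inv y := hw
    rw [hw', ← Scheme.Hom.comp_apply, s.inv_hom_id]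
    rfl
  · intro i i' V a b hab hne
    have h1 := congrArg (fun k => k.left) hab
    rw [Over.comp_left, Over.comp_left, hj, hj, ← Category.assoc, ← Category.assoc, cancel_mono] at h1
    exact isEmpty_of_commSq_sigmaι_of_ne ⟨h1⟩ hne

end K731.HRef
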