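import Groth.Agent.CGrpSh.K731.NAdq
import Groth.Agent.Adeq.K570.Local

/-!
# The sheaf of infinitesimal points is adequate: covering by charts
-/

set_option autoImplicit false
universe u

open CategoryTheory CategoryTheory.Limits AlgebraicGeometry Opposite MonObj
open K731.Comb K731.NMod K731.NSh K731.NLoc K731.NAdq

namespace K731.NCov

variable {T : Scheme.{u}} (G : Over T) [GrpObj G] [LocallyOfFinitePresentation G.hom]

/-- Existence of charts. -/
theorem exists_chart (t : T) : ∃ (R : CommRingCat.{u}) (a : Spec R ⟶ T),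
    IsOpenImmersion a ∧ t ∈ Set.range a ∧ Nonempty (Chart G a) := by
  let e : T ⟶ G.left := η[G].left
  have he : e ≫ G.hom = 𝟙 T := Over.w η[G]
  obtain ⟨V₀, hV₀, ht, -⟩ := exists_isAffineOpen_mem_and_subset (x := t) (U := (⊤ : T.Opens)) trivial
  have het : e t ∈ G.hom ⁻¹ᵁ V₀ := by
    change G.hom (e t) ∈ V₀
    rw [← Scheme.Hom.comp_apply, he]
    exact ht
  obtain ⟨W, hW, heW, hWV⟩ := exists_isAffineOpen_mem_and_subset het
  have hWV' : W ≤ G.hom ⁻¹ᵁ V₀ := hWV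
  obtain ⟨f, hf, htf⟩ := hV₀.exists_basicOpen_le (V := e ⁻¹ᵁ W) ⟨t, heW⟩ ht
  let V : T.Opens := T.basicOpen f
  have hV : IsAffineOpen V := hV₀.basicOpen f
  let W₁ : G.left.Opens := G.left.basicOpen (G.hom.appLE V₀ W hWV' f)
  have hW₁ : IsAffineOpen W₁ := hW.basicOpen _
  have hW₁' : W₁ = W ⊓ G.hom ⁻¹ᵁ V := Scheme.basicOpen_appLE _ _ _ _ _
  have h1 : W₁ ≤ G.hom ⁻¹ᵁ V := by
    rw [hW₁']
    exact inf_le_right
  have h2 : V ≤ e ⁻¹ᵁ W₁ := by
    intro y hy
    change e y ∈ W₁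
    rw [hW₁']
    refine ⟨hf hy, ?_⟩
    change G.hom (e y) ∈ V
    rw [← Scheme.Hom.comp_apply, he]
    exact hy
  let _ : Algebra Γ(T, V) Γ(G.left, W₁) := (G.hom.appLE V W₁ h1).hom.toAlgebra
  refine ⟨Γ(T, V), hV.fromSpec, inferInstance, ?_, ⟨?_⟩⟩
  · rw [hV.range_fromSpec]
    exact htf
  refine
    { D := Γ(G.left, W₁)
      fp := G.hom.finitePresentation_appLE hV hW₁ h1
      v := hW₁.fromSpec
      ov := inferInstance
      hv := (IsAffineOpen.SpecMap_appLE_fromSpec G.hom hV hW₁ h1).symm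
      ε := ⟨(e.appLE W₁ V h2).hom, fun r => ?_⟩
      hε := ?_ }
  · change (e.appLE W₁ V h2) (G.hom.appLE V W₁ h1 r) = r
    rw [← CommRingCat.comp_apply, Scheme.Hom.appLE_comp_appLE]
    have h3 : ∀ (z : T ⟶ T) (hz : z = 𝟙 T) (h : V ≤ z ⁻¹ᵁ V), z.appLE V V h = 𝟙 _ := by
      intro z hz h
      subst hz
      exact (Category.id_comp _).trans (T.presheaf.map_id _)
    rw [h3 _ he]
    rfl
  · exact IsAffineOpen.SpecMap_appLE_fromSpec e hW₁ hV h2

variable {T' : Scheme.{u}} (j : T' ⟶ T) [IsClosedImmersion j] (hj : j.ker * j.ker = ⊥) [IsCommMonObj G]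

/-- The sheaf of infinitesimal points is adequate. -/
theorem adequateMod : Adeq.adequateMod Scheme.fppfPrecoverage T (NS G hj) := by
  choose R a h1 h2 h3 using fun t => exists_chart G t
  refine ⟨T, R, a, ?_, fun t => ?_⟩
  · change Presieve.ofArrows (fun i => Spec (R i)) a ∈ (Scheme.precoverage K570.Local.Qf).coverings T
    rw [Scheme.ofArrows_mem_precoverage_iff]
    exact ⟨fun t => ⟨t, h2 t⟩, fun t => ⟨inferInstance, inferInstance⟩⟩
  · obtain ⟨c⟩ := h3 t
    have := h1 t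
    exact adequate_toMVF j c hj

end K731.NCov
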