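import Groth.Agent.CGrpSh.K731.HRed
import Groth.Agent.CGrpSh.K731.NCov
import Groth.Agent.Adeq.K569.ZarCmp
import Groth.Agent.Adeq.K569.FpqcAd

/-!
# Restriction along square-zero thickenings of affine schemes
-/

set_option autoImplicit false
universe u

open CategoryTheory AlgebraicGeometry Limits Opposite

namespace K731.HSq

variable {Z T : Scheme.{u}} (j : Z ⟶ T) [IsClosedImmersion j] (hj : j.ker * j.ker = ⊥) [IsAffine T]
  (G : Over T) [GrpObj G] [IsCommMonObj G] [Smooth G.hom]

theorem subsingleton_H (F : Sheaf (QuotSh.J (Scheme.precoverage K570.Local.Qf) T) AddCommGrpCat.{u + 1})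
    (h : K570.CA.CA F.obj) (n : ℕ) : Subsingleton (Sheaf.H F (n + 1)) :=
  K644.CohAff.subsingleton_H (T := Over.forget T) (t := Over.mk (𝟙 T)) Over.mkIdTerminal
    (inferInstanceAs (IsAffine T)) F (K569.QCS.affAcyc_of_ca F h) n

include hj in
theorem subsingleton_H_kernel (n : ℕ) :
    Subsingleton (BigSite.H Scheme.fppfPrecoverage T (kernel (NSh.un j G)) (n + 1)) :=
  subsingleton_H _ ((K569.FpqcAd.ca (Q := K570.Local.Qf) (NCov.adequateMod G j hj)).of_iso (NSh.kerIso j G).symm) n

include hj in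
theorem pull_bijective (n : ℕ) (hn : 1 ≤ n) :
    Function.Bijective (HRes.pull Scheme.fppfPrecoverage j (CGrpSh.pts Scheme.fppfPrecoverage G) n) :=
  HRed.pull_pts_bijective j G (subsingleton_H_kernel j hj G) n hn

end K731.HSq
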