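import Groth.Agent.Adeq.K569.Basic
import Mathlib.LinearAlgebra.TensorProduct.Prod
import Mathlib.LinearAlgebra.TensorProduct.Pi
import Mathlib.LinearAlgebra.TensorProduct.Quotient
import Mathlib.RingTheory.TensorProduct.Free

/-!
# A criterion for adequacy in coordinates
-/

set_option autoImplicit false
universe u

open CategoryTheory CategoryTheory.Limits Opposite TensorProduct Adeq K569.Basic

noncomputable section

namespace K731.NAlg

variable {R : Type u} [CommRing R]

section

variable (B : Type u) [CommRing B] [Algebra R B]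

/-- The module `R^n`, lifted. -/
abbrev LM (R : Type u) [CommRing R] (n : ℕ) : Type (u + 1) := ULift.{u + 1} (Fin n → R)

/-- Elements of `B ⊗ R^n` from coordinates. -/
def co (n : ℕ) : (Fin n → B) ≃ₗ[B] B ⊗[R] LM R n :=
  (TensorProduct.piScalarRight R B B (Fin n)).symm ≪≫ₗ
    LinearEquiv.baseChange R B _ _ (ULift.moduleEquiv.symm : (Fin n → R) ≃ₗ[R] LM R n)

theorem co_apply (n : ℕ) (d : Fin n → B) :
    co (R := R) B n d = ∑ k, d k ⊗ₜ (ULift.up (Pi.single k 1) : LM R n) := by
  have h : d = ∑ k, Pi.single k (d k) := by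
    funext k
    simp [Finset.sum_apply, Pi.single_apply]
  conv_lhs => rw [h]
  rw [map_sum]
  refine Finset.sum_congr rfl fun k _ => ?_
  rw [co, LinearEquiv.trans_apply, piScalarRight_symm_single]
  rfl

variable {m n : ℕ} (C : Fin m → Fin n → R) (I : Ideal R)

/-- The linear part. -/
def φ₀ : (Fin n → R) →ₗ[R] (Fin m → R) × (Fin n → R ⧸ I) where
  toFun x := (fun k => ∑ i, C k i * x i, fun i => Ideal.Quotient.mk I (x i))
  map_add' x y := by
    refine Prod.ext (funext fun k => ?_) (funext fun i => ?_)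
    · simp [mul_add, Finset.sum_add_distrib]
    · simp
  map_smul' r x := by
    refine Prod.ext (funext fun k => ?_) (funext fun i => ?_)
    · simp only [Pi.smul_apply, smul_eq_mul, RingHom.id_apply, Prod.smul_fst, Finset.mul_sum]
      exact Finset.sum_congr rfl fun i _ => by ring
    · simp only [Pi.smul_apply, smul_eq_mul, RingHom.id_apply, Prod.smul_snd, map_mul]
      rfl

/-- The linear map presenting the functor. -/
def φ : ModuleCat.of R (LM R n) ⟶ ModuleCat.of R (ULift.{u + 1} ((Fin m → R) × (Fin n → R ⧸ I))) :=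
  ModuleCat.ofHom ((ULift.moduleEquiv.symm : ((Fin m → R) × (Fin n → R ⧸ I)) ≃ₗ[R] _).toLinearMap ∘ₗ φ₀ C I ∘ₗ
    (ULift.moduleEquiv : LM R n ≃ₗ[R] _).toLinearMap)

theorem tmul_mk_eq_zero (b : B) : (b ⊗ₜ[R] (Ideal.Quotient.mk I 1) : B ⊗[R] (R ⧸ I)) = 0 ↔
    b ∈ I.map (algebraMap R B) := by
  rw [← (tensorQuotEquivQuotSMul B I).map_eq_zero_iff, tensorQuotEquivQuotSMul_tmul_mk, one_smul,
    Submodule.Quotient.mk_eq_zero, Ideal.smul_top_eq_map]
  rfl

theorem baseChange_φ_eq_zero (d : Fin n → B) :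
    ((φ C I).hom.baseChange B) (co (R := R) B n d) = 0 ↔
      (∀ i, d i ∈ I.map (algebraMap R B)) ∧ ∀ k, ∑ i, algebraMap R B (C k i) * d i = 0 := by
  let e : B ⊗[R] (ULift.{u + 1} ((Fin m → R) × (Fin n → R ⧸ I))) ≃ₗ[B]
      (Fin m → B) × (Fin n → B ⊗[R] (R ⧸ I)) :=
    LinearEquiv.baseChange R B _ _ ULift.moduleEquiv ≪≫ₗ TensorProduct.prodRight R B B _ _ ≪≫ₗ
      LinearEquiv.prodCongr (TensorProduct.piScalarRight R B B (Fin m))
        (TensorProduct.piRight R B B (fun _ : Fin n => R ⧸ I))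
  rw [← e.map_eq_zero_iff]
  have key : e (((φ C I).hom.baseChange B) (co (R := R) B n d)) =
      (fun k => ∑ i, algebraMap R B (C k i) * d i, fun i => d i ⊗ₜ[R] (Ideal.Quotient.mk I 1)) := by
    rw [co_apply, map_sum, map_sum]
    have h1 : ∀ i : Fin n, e (((φ C I).hom.baseChange B) (d i ⊗ₜ[R] (ULift.up (Pi.single i 1) : LM R n))) =
        (fun k => algebraMap R B (C k i) * d i,
          fun l => d i ⊗ₜ[R] (Ideal.Quotient.mk I ((Pi.single i 1 : Fin n → R) l))) := by
      intro i
      have h2 : ((φ C I).hom.baseChange B) (d i ⊗ₜ[R] (ULift.up (Pi.single i 1) : LM R n)) =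
          d i ⊗ₜ[R] ULift.up (φ₀ C I (Pi.single i 1)) := rfl
      rw [h2]
      have h3 : e (d i ⊗ₜ[R] ULift.up (φ₀ C I (Pi.single i 1))) =
          (fun k => (φ₀ C I (Pi.single i 1)).1 k • d i, fun l => d i ⊗ₜ[R] (φ₀ C I (Pi.single i 1)).2 l) := rfl
      rw [h3]
      refine Prod.ext (funext fun k => ?_) rfl
      change (∑ l, C k l * (Pi.single i 1 : Fin n → R) l) • d i = _
      rw [Finset.sum_eq_single i, Pi.single_eq_same, mul_one, Algebra.smul_def]
      · intro l _ hl
        rw [Pi.single_eq_of_ne hl, mul_zero]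
      · intro h
        exact absurd (Finset.mem_univ _) h
    rw [Finset.sum_congr rfl fun i _ => h1 i]
    refine Prod.ext ?_ ?_
    · rw [Prod.fst_sum]
      funext k
      rw [Finset.sum_apply]
    · rw [Prod.snd_sum]
      funext l
      rw [Finset.sum_apply]
      change ∑ i, d i ⊗ₜ[R] (Ideal.Quotient.mk I ((Pi.single i 1 : Fin n → R) l)) = _
      rw [Finset.sum_eq_single l, Pi.single_eq_same]
      · intro i _ hi
        rw [Pi.single_eq_of_ne hi.symm, map_zero, tmul_zero]
      · intro h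
        exact absurd (Finset.mem_univ _) h
  rw [key, Prod.mk_eq_zero, funext_iff, funext_iff, and_comm]
  refine and_congr (forall_congr' fun i => ?_) Iff.rfl
  exact tmul_mk_eq_zero B I (d i)

end

/-- A criterion for adequacy in coordinates. -/
theorem adequate_of_coords (F : MVF R) {m n : ℕ} (C : Fin m → Fin n → R) (I : Ideal R)
    (δ : ∀ B : Alg R, F.obj (pt B) → Fin n → B)
    (hadd : ∀ (B : Alg R) (x y : F.obj (pt B)), δ B (x + y) = δ B x + δ B y)
    (hsmul : ∀ (B : Alg R) (b : B) (x : F.obj (pt B)), δ B (b • x) = b • δ B x)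
    (hnat : ∀ ⦃B B' : Alg R⦄ (f : B ⟶ B') (x : F.obj (pt B)) (i : Fin n),
      δ B' (tr F f x) i = f.hom (δ B x i))
    (hinj : ∀ B, Function.Injective (δ B))
    (himg : ∀ (B : Alg R) (d : Fin n → B), (∃ x, δ B x = d) ↔
      (∀ i, d i ∈ I.map (algebraMap R B)) ∧ ∀ k, ∑ i, algebraMap R B (C k i) * d i = 0) : adequate R F := by
  let ι : F ⟶ (underline R).obj (ModuleCat.of R (LM R n)) :=
    mkHom (fun B x => co (R := R) B n (δ B x)) (fun B x y => by rw [hadd]; exact map_add _ _ _)
      (fun B b x => by rw [hsmul]; exact map_smul _ _ _) (fun B B' f x => by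
        rw [co_apply, co_apply]
        refine Eq.trans ?_ (map_sum (tr ((underline R).obj (ModuleCat.of R (LM R n))) f) _ _).symm
        refine Finset.sum_congr rfl fun k _ => ?_
        rw [hnat]
        rfl)
  refine adequate_of_pointwise (φ C I) ι (fun B x y h => hinj B ((co (R := R) B n).injective h)) fun B x => ?_
  obtain ⟨d, rfl⟩ := (co (R := R) B n).surjective x
  rw [baseChange_φ_eq_zero, ← himg]
  constructor
  · rintro ⟨x, rfl⟩
    exact ⟨x, rfl⟩
  · rintro ⟨x, hx⟩
    exact ⟨x, (co (R := R) B n).injective hx⟩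

end K731.NAlg
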