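import Groth.Agent.Divis.IdealComap
import Mathlib.AlgebraicGeometry.Morphisms.ClosedImmersion

/-!
# Ideal sheaves on spectra
-/

set_option autoImplicit false
universe u

open CategoryTheory CategoryTheory.Limits AlgebraicGeometry Opposite

namespace K731.NLoc

variable {A : CommRingCat.{u}}

/-- The ideal of an ideal sheaf on a spectrum. -/
noncomputable def idl (K : (Spec A).IdealSheafData) : Ideal A :=
  (K.ideal ⟨⊤, isAffineOpen_top _⟩).comap (Scheme.ΓSpecIso A).inv.hom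

theorem map_idl (K : (Spec A).IdealSheafData) :
    (idl K).map (Scheme.ΓSpecIso A).inv.hom = K.ideal ⟨⊤, isAffineOpen_top _⟩ :=
  Ideal.map_comap_of_surjective _ (ConcreteCategory.bijective_of_isIso (Scheme.ΓSpecIso A).inv).2 _

theorem idl_mul (K L : (Spec A).IdealSheafData) : idl (K * L) = idl K * idl L := by
  have hinj : Function.Injective (Ideal.comap (Scheme.ΓSpecIso A).symm.commRingCatIsoToRingEquiv.toRingHom) :=
    Ideal.comap_injective_of_surjective _ (RingEquiv.surjective _)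
  have h1 : ∀ I : Ideal Γ(Spec A, ⊤), I.comap (Scheme.ΓSpecIso A).inv.hom = I.map (Scheme.ΓSpecIso A).hom.hom := by
    intro I
    exact (Ideal.map_symm (I := I) (Scheme.ΓSpecIso A).symm.commRingCatIsoToRingEquiv).symm
  rw [idl, idl, idl, h1, h1, h1, ← Ideal.map_mul]
  rfl

theorem idl_bot : idl (⊥ : (Spec A).IdealSheafData) = ⊥ := by
  rw [eq_bot_iff]
  intro x hx
  have h : (Scheme.ΓSpecIso A).inv.hom x = 0 := hx
  exact (map_eq_zero_iff _ (ConcreteCategory.bijective_of_isIso (Scheme.ΓSpecIso A).inv).1).1 h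

theorem idl_comap {B : CommRingCat.{u}} (φ : A ⟶ B) (K : (Spec A).IdealSheafData) :
    idl (K.comap (Spec.map φ)) = (idl K).map φ.hom := by
  have h1 := Groth.Agent.Divis.IdealComap.ideal_comap K (Spec.map φ) ⟨⊤, isAffineOpen_top _⟩ ⟨⊤, isAffineOpen_top _⟩ le_top
  have h2 : (Spec.map φ).appLE ⊤ ⊤ le_top = (Spec.map φ).appTop := by
    rw [Scheme.Hom.appTop, Scheme.Hom.app_eq_appLE]
    rfl
  rw [idl, h1, h2, ← map_idl, Ideal.map_map, ← CommRingCat.hom_comp, ← Scheme.ΓSpecIso_inv_naturality,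
    CommRingCat.hom_comp, ← Ideal.map_map]
  exact Ideal.comap_map_of_bijective _ (ConcreteCategory.bijective_of_isIso (Scheme.ΓSpecIso B).inv)

theorem comp_eq_iff {Z : Scheme.{u}} (i : Z ⟶ Spec A) [QuasiCompact i] {D : CommRingCat.{u}} (f g : D ⟶ A) :
    i ≫ Spec.map f = i ≫ Spec.map g ↔ ∀ s : D, f s - g s ∈ idl i.ker := by
  have key : ∀ f : D ⟶ A, (i ≫ Spec.map f).appTop =
      (Scheme.ΓSpecIso D).hom ≫ f ≫ (Scheme.ΓSpecIso A).inv ≫ i.appTop := by
    intro f
    rw [Scheme.Hom.comp_appTop, Scheme.ΓSpecIso_inv_naturality_assoc, Iso.hom_inv_id_assoc]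
  have h1 : i ≫ Spec.map f = i ≫ Spec.map g ↔ (i ≫ Spec.map f).appTop = (i ≫ Spec.map g).appTop :=
    ⟨fun h => by rw [h], ext_of_isAffine⟩
  rw [h1, key, key, cancel_epi]
  constructor
  · intro h s
    have h2 := ConcreteCategory.congr_hom h s
    change (Scheme.ΓSpecIso A).inv.hom (f s - g s) ∈ i.ker.ideal ⟨⊤, isAffineOpen_top _⟩
    rw [Scheme.Hom.ker_apply, RingHom.mem_ker, map_sub, map_sub, sub_eq_zero]
    exact h2
  · intro h
    ext s
    have h2 : (Scheme.ΓSpecIso A).inv.hom (f s - g s) ∈ i.ker.ideal ⟨⊤, isAffineOpen_top _⟩ := h s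
    rw [Scheme.Hom.ker_apply, RingHom.mem_ker, map_sub, map_sub, sub_eq_zero] at h2
    exact h2

end K731.NLoc
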