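import Mathlib.RingTheory.FinitePresentation
import Mathlib.Algebra.MvPolynomial.PDeriv
import Mathlib.RingTheory.Ideal.Quotient.Operations
import Mathlib.Tactic.LinearCombination

/-!
# First order expansions and algebra homomorphisms close to a given one
-/

set_option autoImplicit false
universe u

open MvPolynomial

namespace K731.NTay

variable {R : Type*} [CommRing R] {n : ℕ}

theorem aeval_add {B : Type*} [CommRing B] [Algebra R B] (e : Fin n → R) (d : Fin n → B)
    (hd : ∀ i k, d i * d k = 0) (f : MvPolynomial (Fin n) R) :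
    aeval (fun i => algebraMap R B (e i) + d i) f =
      algebraMap R B (eval e f) + ∑ i, algebraMap R B (eval e (pderiv i f)) * d i := by
  induction f using MvPolynomial.induction_on with
  | C r => simp
  | add p q hp hq =>
    simp only [map_add, hp, hq, add_mul, Finset.sum_add_distrib]
    ring
  | mul_X p k hp =>
    rw [map_mul, hp, aeval_X]
    have h1 : ∀ i, algebraMap R B (eval e (pderiv i (p * X k))) * d i =
        algebraMap R B (eval e (pderiv i p)) * d i * algebraMap R B (e k) +
          algebraMap R B (eval e p) * (if i = k then d i else 0) := by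
      intro i
      rw [pderiv_mul, map_add, map_mul, map_mul, eval_X, map_add, map_mul, map_mul, pderiv_X, Pi.single_apply]
      by_cases h : i = k
      · subst h
        simp only [if_true, map_one]
        ring
      · rw [if_neg (fun h' => h h'.symm), if_neg h, map_zero, map_zero]
        ring
    rw [Finset.sum_congr rfl fun i _ => h1 i, Finset.sum_add_distrib, ← Finset.sum_mul, ← Finset.mul_sum,
      Finset.sum_ite_eq', if_pos (Finset.mem_univ k), map_mul, eval_X, map_mul]
    have h2 : (∑ i, algebraMap R B (eval e (pderiv i p)) * d i) * d k = 0 := by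
      rw [Finset.sum_mul]
      exact Finset.sum_eq_zero fun i _ => by rw [mul_assoc, hd, mul_zero]
    linear_combination h2

variable {D : Type*} [CommRing D] [Algebra R D] (π : MvPolynomial (Fin n) R →ₐ[R] D)
  (hπ : Function.Surjective π) {m : ℕ} (f : Fin m → MvPolynomial (Fin n) R)
  (hf : RingHom.ker π.toRingHom = Ideal.span (Set.range f)) (ε : D →ₐ[R] R)

/-- The coefficients of the linearised equations. -/
noncomputable def coe (k : Fin m) (i : Fin n) : R := eval (fun i => ε (π (X i))) (pderiv i (f k))

theorem eval_eq (p : MvPolynomial (Fin n) R) : eval (fun i => ε (π (X i))) p = ε (π p) := by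
  have h : (aeval (fun i => ε (π (X i))) : MvPolynomial (Fin n) R →ₐ[R] R) = ε.comp π := by
    apply MvPolynomial.algHom_ext
    intro i
    simp
  have := DFunLike.congr_fun h p
  rw [MvPolynomial.aeval_eq_eval] at this
  exact this

include hf in
theorem sum_coe {B : Type*} [CommRing B] [Algebra R B] (φ : D →ₐ[R] B)
    (hd : ∀ i k, (φ (π (X i)) - algebraMap R B (ε (π (X i)))) * (φ (π (X k)) - algebraMap R B (ε (π (X k)))) = 0)
    (k : Fin m) :
    ∑ i, algebraMap R B (coe π f ε k i) * (φ (π (X i)) - algebraMap R B (ε (π (X i)))) = 0 := by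
  have h1 := aeval_add (fun i => ε (π (X i))) (fun i => φ (π (X i)) - algebraMap R B (ε (π (X i)))) hd (f k)
  have h2 : (aeval (fun i => algebraMap R B (ε (π (X i))) + (φ (π (X i)) - algebraMap R B (ε (π (X i)))))
      : MvPolynomial (Fin n) R →ₐ[R] B) = φ.comp π := by
    apply MvPolynomial.algHom_ext
    intro i
    simp
  have h3 : π (f k) = 0 := by
    have : f k ∈ RingHom.ker π.toRingHom := by
      rw [hf]
      exact Ideal.subset_span ⟨k, rfl⟩
    exact this
  rw [h2, eval_eq, AlgHom.comp_apply, h3, map_zero, map_zero, map_zero, zero_add] at h1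
  exact h1.symm

include hπ hf in
theorem exists_hom {B : Type*} [CommRing B] [Algebra R B] (d : Fin n → B)
    (hd : ∀ i k, d i * d k = 0)
    (h : ∀ k, ∑ i, algebraMap R B (coe π f ε k i) * d i = 0) :
    ∃ φ : D →ₐ[R] B, ∀ i, φ (π (X i)) = algebraMap R B (ε (π (X i))) + d i := by
  let ψ : MvPolynomial (Fin n) R →ₐ[R] B := aeval (fun i => algebraMap R B (ε (π (X i))) + d i)
  have hψ : ∀ p, π p = 0 → ψ p = 0 := by
    intro p hp
    have hp' : p ∈ Ideal.span (Set.range f) := by
      rw [← hf]
      exact hp
    have h1 : Ideal.span (Set.range f) ≤ RingHom.ker ψ.toRingHom := by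
      rw [Ideal.span_le]
      rintro _ ⟨k, rfl⟩
      change ψ (f k) = 0
      have h2 := aeval_add (fun i => ε (π (X i))) d hd (f k)
      have h3 : π (f k) = 0 := by
        have : f k ∈ RingHom.ker π.toRingHom := by
          rw [hf]
          exact Ideal.subset_span ⟨k, rfl⟩
        exact this
      rw [eval_eq, h3, map_zero, map_zero, zero_add] at h2
      exact h2.trans (h k)
    exact h1 hp'
  let φ : D →ₐ[R] B := AlgHom.liftOfSurjective π hπ ψ (fun p hp => hψ p hp)
  refine ⟨φ, fun i => ?_⟩
  have : φ (π (X i)) = ψ (X i) := by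
    exact DFunLike.congr_fun (AlgHom.liftOfSurjective_comp π hπ ψ (fun p hp => hψ p hp)) (X i)
  rw [this]
  exact aeval_X _ _

include hπ in
theorem hom_ext {B : Type*} [CommRing B] [Algebra R B] {φ ψ : D →ₐ[R] B}
    (h : ∀ i, φ (π (X i)) = ψ (π (X i))) : φ = ψ := by
  have : φ.comp π = ψ.comp π := MvPolynomial.algHom_ext h
  ext s
  obtain ⟨p, rfl⟩ := hπ s
  exact DFunLike.congr_fun this p

include hπ in
theorem sub_mem {B : Type*} [CommRing B] [Algebra R B] (I : Ideal B) {φ ψ : D →ₐ[R] B}
    (h : ∀ i, φ (π (X i)) - ψ (π (X i)) ∈ I) (s : D) : φ s - ψ s ∈ I := by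
  have h1 : (Ideal.Quotient.mkₐ R I).comp φ = (Ideal.Quotient.mkₐ R I).comp ψ := hom_ext π hπ fun i =>
    Ideal.Quotient.eq.2 (h i)
  exact Ideal.Quotient.eq.1 (DFunLike.congr_fun h1 s)

end K731.NTay
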