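import Groth.Agent.CGrpSh.K731.NSh
import Groth.Agent.CGrpSh.K731.NAlg
import Groth.Agent.CGrpSh.K731.NLoc
import Groth.Agent.CGrpSh.K731.NTay
import Groth.Prelude.Def_Adeq2

/-!
# The sheaf of infinitesimal points is adequate
-/

set_option autoImplicit false
universe u

open CategoryTheory CategoryTheory.Limits AlgebraicGeometry Opposite MonObj
open K731.Comb K731.NMod K731.NSh K731.NLoc

namespace K731.NAdq

variable {T T' : Scheme.{u}} (j : T' ⟶ T) (G : Over T) [GrpObj G] {R : CommRingCat.{u}} (a : Spec R ⟶ T)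

/-- An affine open neighbourhood of the unit section over an affine object. -/
structure Chart where
  D : Type u
  [cr : CommRing D]
  [al : Algebra R D]
  fp : Algebra.FinitePresentation R D
  v : Spec (CommRingCat.of D) ⟶ G.left
  ov : IsOpenImmersion v
  hv : v ≫ G.hom = Spec.map (CommRingCat.ofHom (algebraMap R D)) ≫ a
  ε : D →ₐ[R] R
  hε : Spec.map (CommRingCat.ofHom ε.toRingHom) ≫ v = a ≫ η[G].left

attribute [instance] Chart.cr Chart.al Chart.ov

variable {G a} (c : Chart G a)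

/-- The object attached to an algebra. -/
noncomputable abbrev U (a : Spec R ⟶ T) (B : Adeq.Alg R) : Over T := (Adeq.specOver a).obj (op B)

/-- The unit point over an algebra. -/
noncomputable def εB (B : Adeq.Alg R) : c.D →ₐ[R] B := (Algebra.ofId R B).comp c.ε

theorem eU_eq (B : Adeq.Alg R) : eU G (U a B) = Spec.map (CommRingCat.ofHom (εB c B).toRingHom) ≫ c.v := by
  change (Spec.map (CommRingCat.ofHom (algebraMap R B)) ≫ a) ≫ η[G].left = _
  rw [Category.assoc, ← c.hε, ← Category.assoc, ← Spec.map_comp]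
  rfl

theorem exists_co [Mono a] {B : Adeq.Alg R} (x : U a B ⟶ G) (h : x.left.base = (eU G (U a B)).base) :
    ∃ φ : c.D →ₐ[R] B, Spec.map (CommRingCat.ofHom φ.toRingHom) ≫ c.v = x.left := by
  have := c.ov
  have hr : Set.range x.left ⊆ Set.range c.v := by
    rintro _ ⟨p, rfl⟩
    have h1 : x.left p = eU G (U a B) p := congrArg (fun k => (k.hom : _ → _) p) h
    have h2 : eU G (U a B) p = c.v (Spec.map (CommRingCat.ofHom (εB c B).toRingHom) p) :=
      (congrArg (fun k : Spec (CommRingCat.of B) ⟶ G.left => k p) (eU_eq c B)).trans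
        (Scheme.Hom.comp_apply _ _ _)
    exact ⟨_, (h1.trans h2).symm⟩
  obtain ⟨φ, hφ⟩ := Spec.map_surjective (IsOpenImmersion.lift c.v x.left hr)
  have h2 : Spec.map φ ≫ c.v = x.left := by
    rw [hφ]
    exact IsOpenImmersion.lift_fac _ _ _
  have h3 : CommRingCat.ofHom (algebraMap R c.D) ≫ φ = CommRingCat.ofHom (algebraMap R B) := by
    apply Spec.map_injective
    rw [← cancel_mono a, Spec.map_comp, Category.assoc, ← c.hv, ← Category.assoc, h2]
    exact Over.w x
  refine ⟨⟨φ.hom, fun r => ?_⟩, h2⟩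
  exact congrArg (fun k => k.hom r) h3

theorem co_unique {B : Adeq.Alg R} {φ ψ : c.D →ₐ[R] B}
    (h : Spec.map (CommRingCat.ofHom φ.toRingHom) ≫ c.v = Spec.map (CommRingCat.ofHom ψ.toRingHom) ≫ c.v) : φ = ψ := by
  have := c.ov
  rw [cancel_mono] at h
  have h1 := Spec.map_injective h
  ext s
  exact congrArg (fun k => k.hom s) h1

variable (a) in
/-- The ideal of the closed subscheme over an affine object. -/
noncomputable def aI [IsClosedImmersion j] : Ideal R := idl (j.ker.comap a)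

variable [IsClosedImmersion j]

variable (a) in
theorem aI_mul (hj : j.ker * j.ker = ⊥) : aI j a * aI j a = ⊥ := by
  rw [aI, ← idl_mul, ← Groth.Agent.Divis.IdealComap.comap_mul, hj, Scheme.IdealSheafData.comap_bot, idl_bot]

instance (V : Over T) : IsClosedImmersion (cl j V).left := by
  rw [cl_left]
  infer_instance

theorem idl_cl (B : Adeq.Alg R) : idl (A := CommRingCat.of B) (cl j (U a B)).left.ker =
    (aI j a).map (algebraMap R B) := by
  have h : (cl j (U a B)).left.ker = (j.ker.comap a).comap (Spec.map (CommRingCat.ofHom (algebraMap R B))) := by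
    rw [cl_left, Scheme.IdealSheafData.ker_fst_of_isClosedImmersion, ← Scheme.IdealSheafData.comap_comp]
    rfl
  rw [h, aI]
  exact idl_comap (CommRingCat.ofHom (algebraMap R B)) _

theorem cond_iff {B : Adeq.Alg R} (x : U a B ⟶ G) (φ : c.D →ₐ[R] B)
    (h : Spec.map (CommRingCat.ofHom φ.toRingHom) ≫ c.v = x.left) :
    cl j (U a B) ≫ x = 1 ↔ ∀ s, φ s - εB c B s ∈ (aI j a).map (algebraMap R B) := by
  have := c.ov
  let i : ((Over.map j).obj ((Over.pullback j).obj (U a B))).left ⟶ Spec (CommRingCat.of B) :=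
    (cl j (U a B)).left
  have e1 : i ≫ Spec.map (CommRingCat.ofHom (εB c B).toRingHom) ≫ c.v =
      i ≫ Spec.map (CommRingCat.ofHom φ.toRingHom) ≫ c.v ↔
      ∀ s, φ s - εB c B s ∈ (aI j a).map (algebraMap R B) := by
    rw [← Category.assoc, ← Category.assoc, cancel_mono, eq_comm, ← idl_cl j B]
    have : QuasiCompact i := inferInstanceAs (QuasiCompact (cl j (U a B)).left)
    exact comp_eq_iff (A := CommRingCat.of B) i (CommRingCat.ofHom φ.toRingHom)
      (CommRingCat.ofHom (εB c B).toRingHom)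
  refine (comp_eq_one_iff (c := cl j (U a B)) (x := x)).trans (Iff.trans ?_ e1)
  rw [eU_eq c, ← h]
  exact Iff.rfl

section coords

variable (hj : j.ker * j.ker = ⊥)

include hj in
theorem base_eq {B : Adeq.Alg R} {x : U a B ⟶ G} (hx : cl j (U a B) ≫ x = 1) :
    x.left.base = (eU G (U a B)).base :=
  ((sqz hj (U a B)).base_eq (agree hx)).symm

omit [IsClosedImmersion j] in
theorem val_eq {B : Adeq.Alg R} (z : Spec (CommRingCat.of B) ⟶ G.left) (φ : c.D →ₐ[R] B)
    (hz : Spec.map (CommRingCat.ofHom φ.toRingHom) ≫ c.v = z) (W : G.left.Opens)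
    (hW : ⊤ ≤ c.v ⁻¹ᵁ W) (hW' : ⊤ ≤ z ⁻¹ᵁ W) (t : Γ(G.left, W)) (s : c.D)
    (ht : c.v.appLE W ⊤ hW t = (Scheme.ΓSpecIso (CommRingCat.of c.D)).inv s) :
    z.appLE W ⊤ hW' t = (Scheme.ΓSpecIso (CommRingCat.of B)).inv (φ s) := by
  subst hz
  rw [appLE_comp_apply _ c.v W ⊤ ⊤ hW le_top, ht]
  have h1 : (Spec.map (CommRingCat.ofHom φ.toRingHom)).appLE ⊤ ⊤ le_top =
      (Spec.map (CommRingCat.ofHom φ.toRingHom)).appTop := by
    rw [Scheme.Hom.appTop, Scheme.Hom.app_eq_appLE]
    rfl
  rw [h1, ← CommRingCat.comp_apply, ← Scheme.ΓSpecIso_inv_naturality]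
  rfl

variable [Mono a] [IsCommMonObj G]

/-- The homomorphism of an infinitesimal point. -/
noncomputable def co {B : Adeq.Alg R} (x : NK G (cl j (U a B))) : c.D →ₐ[R] B :=
  (exists_co c (ptOf x) (base_eq j hj (comp_ptOf x))).choose

theorem co_spec {B : Adeq.Alg R} (x : NK G (cl j (U a B))) :
    Spec.map (CommRingCat.ofHom (co j c hj x).toRingHom) ≫ c.v = (ptOf x).left :=
  (exists_co c (ptOf x) (base_eq j hj (comp_ptOf x))).choose_spec

theorem co_eq {B : Adeq.Alg R} {x : NK G (cl j (U a B))} {φ : c.D →ₐ[R] B}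
    (h : Spec.map (CommRingCat.ofHom φ.toRingHom) ≫ c.v = (ptOf x).left) : co j c hj x = φ :=
  co_unique c ((co_spec j c hj x).trans h.symm)

theorem co_mem {B : Adeq.Alg R} (x : NK G (cl j (U a B))) (s : c.D) :
    co j c hj x s - εB c B s ∈ (aI j a).map (algebraMap R B) :=
  (cond_iff j c (ptOf x) _ (co_spec j c hj x)).1 (comp_ptOf x) s

theorem co_inj {B : Adeq.Alg R} {x y : NK G (cl j (U a B))} (h : co j c hj x = co j c hj y) : x = y := by
  apply ptOf_inj
  ext : 1
  rw [← co_spec j c hj x, ← co_spec j c hj y, h]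

theorem exists_of_co {B : Adeq.Alg R} (φ : c.D →ₐ[R] B)
    (h : ∀ s, φ s - εB c B s ∈ (aI j a).map (algebraMap R B)) :
    ∃ x : NK G (cl j (U a B)), co j c hj x = φ := by
  let y : U a B ⟶ G := Over.homMk (Spec.map (CommRingCat.ofHom φ.toRingHom) ≫ c.v) (by
    change (Spec.map (CommRingCat.ofHom φ.toRingHom) ≫ c.v) ≫ G.hom =
      Spec.map (CommRingCat.ofHom (algebraMap R B)) ≫ a
    rw [Category.assoc, c.hv, ← Category.assoc, ← Spec.map_comp, ← CommRingCat.ofHom_comp,
      AlgHom.toRingHom_eq_coe, AlgHom.comp_algebraMap])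
  exact ⟨mkPt y ((cond_iff j c y φ rfl).2 h), co_eq j c hj rfl⟩

omit [IsClosedImmersion j] [Mono a] [IsCommMonObj G] in
theorem top_le_v : (⊤ : (Spec (CommRingCat.of c.D)).Opens) ≤ c.v ⁻¹ᵁ c.v.opensRange := by
  rw [Scheme.Hom.preimage_opensRange]

omit [IsClosedImmersion j] [Mono a] [IsCommMonObj G] in
theorem exists_sec (s : c.D) : ∃ t : Γ(G.left, c.v.opensRange),
    c.v.appLE c.v.opensRange ⊤ (top_le_v c) t = (Scheme.ΓSpecIso (CommRingCat.of c.D)).inv s := by
  have h1 : IsIso (c.v.app c.v.opensRange) := c.v.isIso_app _ le_rfl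
  have h2 : IsIso (c.v.appLE c.v.opensRange ⊤ (top_le_v c)) := by
    have : (⊤ : (Spec (CommRingCat.of c.D)).Opens) = c.v ⁻¹ᵁ c.v.opensRange :=
      (Scheme.Hom.preimage_opensRange _).symm
    rw [Scheme.Hom.appLE]
    have : IsIso ((Spec (CommRingCat.of c.D)).presheaf.map (homOfLE (top_le_v c)).op) := by
      have h3 : homOfLE (top_le_v c) = eqToHom this := rfl
      rw [h3]
      infer_instance
    infer_instance
  exact (ConcreteCategory.bijective_of_isIso (c.v.appLE c.v.opensRange ⊤ (top_le_v c))).2 _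

omit [IsClosedImmersion j] [Mono a] [IsCommMonObj G] in
theorem le_eU (B : Adeq.Alg R) : ⊤ ≤ eU G (U a B) ⁻¹ᵁ c.v.opensRange := by
  intro p _
  change eU G (U a B) p ∈ c.v.opensRange
  have h2 : eU G (U a B) p = c.v (Spec.map (CommRingCat.ofHom (εB c B).toRingHom) p) :=
      (congrArg (fun k : Spec (CommRingCat.of B) ⟶ G.left => k p) (eU_eq c B)).trans
        (Scheme.Hom.comp_apply _ _ _)
  rw [h2]
  exact ⟨_, rfl⟩

theorem DV_eq {B : Adeq.Alg R} (x : NK G (cl j (U a B))) (s : c.D) (t : Γ(G.left, c.v.opensRange))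
    (ht : c.v.appLE c.v.opensRange ⊤ (top_le_v c) t = (Scheme.ΓSpecIso (CommRingCat.of c.D)).inv s) :
    DV (sqz hj (U a B)) x c.v.opensRange ⊤ (le_eU c B) t =
      (Scheme.ΓSpecIso (CommRingCat.of B)).inv (co j c hj x s - εB c B s) := by
  have h1 := val_eq c (ptOf x).left (co j c hj x) (co_spec j c hj x) c.v.opensRange (top_le_v c)
    (preim (sqz hj (U a B)) (comp_ptOf x) (le_eU c B)) t s ht
  have h2 := val_eq c (eU G (U a B)) (εB c B) (eU_eq c B).symm c.v.opensRange (top_le_v c) (le_eU c B) t s ht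
  rw [map_sub, ← h1, ← h2]
  rfl

theorem inv_inj {B : Type u} [CommRing B] {x y : B} (h : (Scheme.ΓSpecIso (CommRingCat.of B)).inv x =
    (Scheme.ΓSpecIso (CommRingCat.of B)).inv y) : x = y :=
  (ConcreteCategory.bijective_of_isIso (Scheme.ΓSpecIso (CommRingCat.of B)).inv).1 h

theorem co_add {B : Adeq.Alg R} (x y : NK G (cl j (U a B))) (s : c.D) :
    co j c hj (x + y) s - εB c B s = (co j c hj x s - εB c B s) + (co j c hj y s - εB c B s) := by
  obtain ⟨t, ht⟩ := exists_sec c s
  apply inv_inj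
  rw [map_add, ← DV_eq j c hj (x + y) s t ht, ← DV_eq j c hj x s t ht, ← DV_eq j c hj y s t ht]
  exact DV_add _ _ _ _ _ _ _

theorem co_nsmul {B : Adeq.Alg R} (b : B) (x : NK G (cl j (U a B))) (s : c.D) :
    co j c hj (nsmul (sqz hj (U a B)) ((Scheme.ΓSpecIso (CommRingCat.of B)).inv b) x) s - εB c B s =
      b * (co j c hj x s - εB c B s) := by
  obtain ⟨t, ht⟩ := exists_sec c s
  apply inv_inj
  rw [map_mul, ← DV_eq j c hj _ s t ht, ← DV_eq j c hj x s t ht]
  refine (DV_nsmul _ _ _ _ _ _ _).trans ?_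
  congr 1

theorem co_map {B B' : Adeq.Alg R} (f : B ⟶ B') (x : (NP j G).obj (op (U a B))) :
    co j c hj (show NK G (cl j (U a B')) from (NP j G).map ((Adeq.specOver a).map f.op).op x) =
      f.hom.comp (co j c hj (show NK G (cl j (U a B)) from x)) := by
  apply co_eq
  rw [ptOf_map]
  change _ = Spec.map (CommRingCat.ofHom f.hom.toRingHom) ≫ (ptOf (show NK G (cl j (U a B)) from x)).left
  rw [← co_spec j c hj, ← Category.assoc, ← Spec.map_comp]
  rfl

include c in
/-- Adequacy over a chart. -/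
theorem adequate_toMVF : Adeq.adequate R ((Adeq.toMVF Scheme.fppfPrecoverage a).obj (NS G hj)) := by
  obtain ⟨n, π, hπ, ⟨F, hF⟩⟩ := c.fp.out
  let m := F.card
  let f : Fin m → MvPolynomial (Fin n) R := fun k => (F.equivFin.symm k : MvPolynomial (Fin n) R)
  have hf : RingHom.ker π.toRingHom = Ideal.span (Set.range f) := by
    rw [← hF]
    congr 1
    ext p
    constructor
    · intro hp
      exact ⟨F.equivFin ⟨p, hp⟩, by simp [f]⟩
    · rintro ⟨k, rfl⟩
      exact (F.equivFin.symm k).2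
  have hI : ∀ (B : Adeq.Alg R) (x y : B), x ∈ (aI j a).map (algebraMap R B) →
      y ∈ (aI j a).map (algebraMap R B) → x * y = 0 := by
    intro B x y hx hy
    have h1 := Ideal.mul_mem_mul hx hy
    rw [← Ideal.map_mul, aI_mul j a hj, Ideal.map_bot] at h1
    exact h1
  refine K731.NAlg.adequate_of_coords _ (NTay.coe π f c.ε) (aI j a)
    (fun B (x : NK G (cl j (U a B))) i => co j c hj x (π (MvPolynomial.X i)) - εB c B (π (MvPolynomial.X i)))
    ?_ ?_ ?_ ?_ ?_
  · intro B x y
    funext i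
    exact co_add j c hj x y _
  · intro B b x
    funext i
    exact co_nsmul j c hj b x _
  · intro B B' f x i
    have h1 := DFunLike.congr_fun (co_map j c hj f x) (π (MvPolynomial.X i))
    refine (congrArg (· - εB c B' (π (MvPolynomial.X i))) h1).trans ?_
    rw [map_sub]
    congr 1
    exact (f.hom.commutes _).symm
  · intro B x y hxy
    apply co_inj j c hj
    refine NTay.hom_ext π hπ fun i => ?_
    exact sub_left_injective (congrFun hxy i)
  · intro B d
    constructor
    · rintro ⟨x, rfl⟩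
      refine ⟨fun i => co_mem j c hj x _, fun k => ?_⟩
      exact NTay.sum_coe π f hf c.ε (co j c hj x) (fun i k => hI B _ _ (co_mem j c hj x _) (co_mem j c hj x _)) k
    · rintro ⟨h1, h2⟩
      obtain ⟨φ, hφ⟩ := NTay.exists_hom π hπ f hf c.ε d (fun i k => hI B _ _ (h1 i) (h1 k)) h2
      obtain ⟨x, hx⟩ := exists_of_co j c hj φ fun s => by
        refine NTay.sub_mem π hπ _ (φ := φ) (ψ := εB c B) (fun i => ?_) s
        rw [hφ]
        have : (algebraMap R B) (c.ε (π (MvPolynomial.X i))) + d i - εB c B (π (MvPolynomial.X i)) = d i :=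
          add_sub_cancel_left _ _
        rw [this]
        exact h1 i
      refine ⟨x, funext fun i => ?_⟩
      rw [hx, hφ]
      exact add_sub_cancel_left _ _

end coords

end K731.NAdq
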