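import Groth.Agent.CGrpSh.K731.SqZ
import Groth.Prelude.Def_CGrpSh

/-!
# The module structure on the kernel of restriction to a square-zero closed subscheme

For `c : U' ⟶ U` over `T` whose kernel on functions has square zero, the kernel of `G(U) → G(U')` is a module over the
functions of `U`.
-/

set_option autoImplicit false
universe u

open CategoryTheory CategoryTheory.Limits AlgebraicGeometry Opposite MonObj MonoidalCategory CartesianMonoidalCategory
open K731.Comb

namespace K731.NMod

variable {T : Scheme.{u}} (G : Over T) [GrpObj G]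

/-- The unit point. -/
noncomputable abbrev eU (U : Over T) : U.left ⟶ G.left := U.hom ≫ η[G].left

theorem one_left' (U : Over T) : (1 : U ⟶ G).left = eU G U := by
  rw [Hom.one_def]
  rfl

theorem mul_left' {U : Over T} (x y : U ⟶ G) :
    (x * y).left = pullback.lift x.left y.left (by rw [Over.w, Over.w]) ≫ μ[G].left := by
  rw [Hom.mul_def]
  rfl

variable {G}

section

variable {U' U : Over T} {c : U' ⟶ U} (hc : SqZ c.left) {x y : U ⟶ G}

theorem agree {x : U ⟶ G} (hx : c ≫ x = 1) : c.left ≫ eU G U = c.left ≫ x.left := by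
  rw [← Over.comp_left, hx, one_left', eU, eU, ← Category.assoc, Over.w]

theorem comp_eq_one_iff {x : U ⟶ G} : c ≫ x = 1 ↔ c.left ≫ eU G U = c.left ≫ x.left := by
  refine ⟨agree, fun h => ?_⟩
  ext : 1
  rw [one_left', Over.comp_left, ← h, eU, eU, ← Category.assoc, Over.w]

/-- The product of infinitesimal points. -/
theorem mul_eq_comb (hx : c ≫ x = 1) (hy : c ≫ y = 1) :
    (x * y).left = comb hc (eU G U) x.left y.left (agree hx) (agree hy) 1 1 := by
  have ew : eU G U ≫ G.hom = U.hom := by rw [← one_left', Over.w]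
  let ee : U.left ⟶ pullback G.hom G.hom := pullback.lift (eU G U) (eU G U) rfl
  let xe : U.left ⟶ pullback G.hom G.hom := pullback.lift x.left (eU G U) (by rw [ew, Over.w])
  let ey : U.left ⟶ pullback G.hom G.hom := pullback.lift (eU G U) y.left (by rw [ew, Over.w])
  have h1 : c.left ≫ ee = c.left ≫ xe := by
    apply pullback.hom_ext
    · simp only [Category.assoc, ee, xe, pullback.lift_fst, agree hx]
    · simp only [Category.assoc, ee, xe, pullback.lift_snd]
  have h2 : c.left ≫ ee = c.left ≫ ey := by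
    apply pullback.hom_ext
    · simp only [Category.assoc, ee, ey, pullback.lift_fst]
    · simp only [Category.assoc, ee, ey, pullback.lift_snd, agree hy]
  have h3 : comb hc ee xe ey h1 h2 1 1 = pullback.lift x.left y.left (by rw [Over.w, Over.w]) := by
    apply pullback.hom_ext
    · rw [comb_comp]
      refine (comb_one_left hc ?_).trans ?_
      · exact (pullback.lift_fst _ _ _).trans (pullback.lift_fst _ _ _).symm
      · exact (pullback.lift_fst _ _ _).trans (pullback.lift_fst _ _ _).symm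
    · rw [comb_comp]
      refine (comb_one_right hc ?_).trans ?_
      · exact (pullback.lift_snd _ _ _).trans (pullback.lift_snd _ _ _).symm
      · exact (pullback.lift_snd _ _ _).trans (pullback.lift_snd _ _ _).symm
  rw [mul_left', ← h3, comb_comp]
  have e1 : ee ≫ μ[G].left = eU G U := by
    have := mul_left' (G := G) (1 : U ⟶ G) 1
    rw [_root_.mul_one] at this
    rw [← one_left', this]
    congr 1
  have e2 : xe ≫ μ[G].left = x.left := by
    have := mul_left' (G := G) x 1
    rw [_root_.mul_one] at this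
    rw [this]
    congr 1
  have e3 : ey ≫ μ[G].left = y.left := by
    have := mul_left' (G := G) 1 y
    rw [_root_.one_mul] at this
    rw [this]
    congr 1
  exact comb_congr hc e1 e2 e3

/-- The multiple of an infinitesimal point by a function. -/
noncomputable def smulPt (hc : SqZ c.left) (f : Γ(U.left, ⊤)) (x : U ⟶ G) (hx : c ≫ x = 1) : U ⟶ G :=
  Over.homMk (comb hc (eU G U) x.left (eU G U) (agree hx) rfl f 0) (by
    have ew : eU G U ≫ G.hom = U.hom := by rw [← one_left', Over.w]
    rw [comb_comp]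
    refine (comb_const hc ?_ rfl).trans ew
    rw [Over.w, ew])

theorem smulPt_left (f : Γ(U.left, ⊤)) (hx : c ≫ x = 1) :
    (smulPt hc f x hx).left = comb hc (eU G U) x.left (eU G U) (agree hx) rfl f 0 := rfl

theorem comp_smulPt (f : Γ(U.left, ⊤)) (hx : c ≫ x = 1) : c ≫ smulPt hc f x hx = 1 := by
  rw [comp_eq_one_iff, smulPt_left, j_comb]

theorem preim (hc : SqZ c.left) (hx : c ≫ x = 1) {W : G.left.Opens} {V : U.left.Opens} (h : V ≤ eU G U ⁻¹ᵁ W) :
    V ≤ x.left ⁻¹ᵁ W := by
  rw [← hc.preimage_eq (agree hx) W]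
  exact h

/-- The derivation of an infinitesimal point. -/
noncomputable def dv (hc : SqZ c.left) (hx : c ≫ x = 1) (W : G.left.Opens) (V : U.left.Opens)
    (h : V ≤ eU G U ⁻¹ᵁ W) (s : Γ(G.left, W)) : Γ(U.left, V) :=
  x.left.appLE W V (preim hc hx h) s - (eU G U).appLE W V h s

theorem dv_smulPt (f : Γ(U.left, ⊤)) (hx : c ≫ x = 1) (W : G.left.Opens) (V : U.left.Opens)
    (h : V ≤ eU G U ⁻¹ᵁ W) (s : Γ(G.left, W)) :
    dv hc (comp_smulPt hc f hx) W V h s = rs V f * dv hc hx W V h s := by
  have h1 := comb_appLE hc (eU G U) x.left (eU G U) (agree hx) rfl f 0 W V h (preim hc hx h) h s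
  have h2 : (smulPt hc f x hx).left.appLE W V (preim hc (comp_smulPt hc f hx) h) s = _ := h1
  rw [dv, h2, dv]
  ring

theorem comp_mul_eq (hx : c ≫ x = 1) (hy : c ≫ y = 1) : c ≫ (x * y) = 1 := by
  rw [MonObj.comp_mul, hx, hy, _root_.mul_one]

theorem dv_mul (hx : c ≫ x = 1) (hy : c ≫ y = 1) (W : G.left.Opens) (V : U.left.Opens)
    (h : V ≤ eU G U ⁻¹ᵁ W) (s : Γ(G.left, W)) :
    dv hc (comp_mul_eq hx hy) W V h s = dv hc hx W V h s + dv hc hy W V h s := by
  have h1 := comb_appLE hc (eU G U) x.left y.left (agree hx) (agree hy) 1 1 W V h (preim hc hx h) (preim hc hy h) s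
  have h2 : ∀ (z : U.left ⟶ G.left) (hz : V ≤ z ⁻¹ᵁ W) (h3 : z = comb hc (eU G U) x.left y.left (agree hx) (agree hy) 1 1),
      z.appLE W V hz s = (eU G U).appLE W V h s + (x.left.appLE W V (preim hc hx h) s - (eU G U).appLE W V h s) +
        (y.left.appLE W V (preim hc hy h) s - (eU G U).appLE W V h s) := by
    intro z hz h3
    subst h3
    rw [h1]
    simp [rs]
  rw [dv, h2 _ _ (mul_eq_comb hc hx hy), dv, dv]
  ring

theorem dv_one (h1 : c ≫ (1 : U ⟶ G) = 1) (W : G.left.Opens) (V : U.left.Opens)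
    (h : V ≤ eU G U ⁻¹ᵁ W) (s : Γ(G.left, W)) : dv hc h1 W V h s = 0 := by
  have h2 : ∀ (z : U.left ⟶ G.left) (hz : V ≤ z ⁻¹ᵁ W) (h3 : z = eU G U),
      z.appLE W V hz s = (eU G U).appLE W V h s := by
    intro z hz h3
    subst h3
    rfl
  rw [dv, h2 _ _ (one_left' G U), sub_self]

include hc in
theorem ext_dv (hx : c ≫ x = 1) (hy : c ≫ y = 1)
    (h : ∀ (W : G.left.Opens) (V : U.left.Opens) (h : V ≤ eU G U ⁻¹ᵁ W) (s : Γ(G.left, W)),
      dv hc hx W V h s = dv hc hy W V h s) : x = y := by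
  ext : 1
  refine hc.hom_ext ((agree hx).symm.trans (agree hy)) fun W V h1 h2 s => ?_
  have h3 : V ≤ eU G U ⁻¹ᵁ W := by
    rw [hc.preimage_eq (agree hx) W]
    exact h1
  have h4 := h W V h3 s
  rw [dv, dv] at h4
  exact sub_left_injective h4

section nat

variable {V' V : Over T} {c' : V' ⟶ V} (hc' : SqZ c'.left) (p : V ⟶ U) (q : V' ⟶ U') (w : c' ≫ p = q ≫ c)

include w in
theorem comp_pt (hx : c ≫ x = 1) : c' ≫ (p ≫ x) = 1 := by
  rw [← Category.assoc, w, Category.assoc, hx, MonObj.comp_one]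

theorem comp_smulPt' (f : Γ(U.left, ⊤)) (hx : c ≫ x = 1) :
    p ≫ smulPt hc f x hx = smulPt hc' (p.left.appTop f) (p ≫ x) (comp_pt p q w hx) := by
  ext : 1
  have w' : c'.left ≫ p.left = q.left ≫ c.left := by
    rw [← Over.comp_left, w, Over.comp_left]
  rw [Over.comp_left, smulPt_left, smulPt_left, comp_comb hc (agree hx) rfl f 0 hc' p.left q.left w']
  have e1 : p.left ≫ eU G U = eU G V := by
    rw [eU, eU, ← Category.assoc, Over.w]
  have e2 : p.left.appTop.hom (0 : Γ(U.left, ⊤)) = 0 := map_zero _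
  rw [e2]
  exact comb_congr hc' e1 rfl e1

end nat

end

section module

variable (G) [IsCommMonObj G] {U' U : Over T} (c : U' ⟶ U)

/-- The infinitesimal points. -/
noncomputable def NK : AddSubgroup ((CGrpSh.ptsPre G).obj (op U)) := ((CGrpSh.ptsPre G).map c.op).hom.ker

variable {G c}

theorem mem_NK {x : (CGrpSh.ptsPre G).obj (op U)} : x ∈ NK G c ↔ c ≫ x.down.toMul = 1 := by
  constructor
  · intro h
    have h1 : (CGrpSh.ptsPre G).map c.op x = 0 := h
    exact congrArg (fun t => Additive.toMul (ULift.down t)) h1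
  · intro h
    change (CGrpSh.ptsPre G).map c.op x = 0
    exact ULift.ext _ _ h

/-- The point. -/
noncomputable abbrev ptOf (x : NK G c) : U ⟶ G := x.1.down.toMul

theorem comp_ptOf (x : NK G c) : c ≫ ptOf x = 1 := mem_NK.1 x.2

/-- An infinitesimal point as an element. -/
noncomputable def mkPt (x : U ⟶ G) (hx : c ≫ x = 1) : NK G c := ⟨ULift.up (Additive.ofMul x), mem_NK.2 hx⟩

theorem ptOf_mkPt (x : U ⟶ G) (hx : c ≫ x = 1) : ptOf (mkPt x hx) = x := rfl

theorem ptOf_add (x y : NK G c) : ptOf (x + y) = ptOf x * ptOf y := rfl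

theorem ptOf_zero : ptOf (0 : NK G c) = 1 := rfl

theorem ptOf_inj {x y : NK G c} (h : ptOf x = ptOf y) : x = y :=
  Subtype.ext (ULift.ext _ _ (congrArg Additive.ofMul h))

variable (hc : SqZ c.left)

/-- The derivation of an element. -/
noncomputable def DV (x : NK G c) (W : G.left.Opens) (V : U.left.Opens)
    (h : V ≤ eU G U ⁻¹ᵁ W) (s : Γ(G.left, W)) : Γ(U.left, V) := dv hc (comp_ptOf x) W V h s

theorem DV_add (x y : NK G c) (W : G.left.Opens) (V : U.left.Opens)
    (h : V ≤ eU G U ⁻¹ᵁ W) (s : Γ(G.left, W)) : DV hc (x + y) W V h s = DV hc x W V h s + DV hc y W V h s :=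
  dv_mul hc (comp_ptOf x) (comp_ptOf y) W V h s

theorem DV_zero (W : G.left.Opens) (V : U.left.Opens)
    (h : V ≤ eU G U ⁻¹ᵁ W) (s : Γ(G.left, W)) : DV hc (0 : NK G c) W V h s = 0 :=
  dv_one hc (comp_ptOf 0) W V h s

include hc in
theorem ext_DV {x y : NK G c} (h : ∀ (W : G.left.Opens) (V : U.left.Opens) (h : V ≤ eU G U ⁻¹ᵁ W)
    (s : Γ(G.left, W)), DV hc x W V h s = DV hc y W V h s) : x = y :=
  ptOf_inj (ext_dv hc (comp_ptOf x) (comp_ptOf y) h)

/-- The multiple of an infinitesimal point by a function. -/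
noncomputable def nsmul (f : Γ(U.left, ⊤)) (x : NK G c) : NK G c :=
  mkPt (smulPt hc f (ptOf x) (comp_ptOf x)) (comp_smulPt hc f (comp_ptOf x))

theorem DV_nsmul (f : Γ(U.left, ⊤)) (x : NK G c) (W : G.left.Opens) (V : U.left.Opens)
    (h : V ≤ eU G U ⁻¹ᵁ W) (s : Γ(G.left, W)) : DV hc (nsmul hc f x) W V h s = rs V f * DV hc x W V h s :=
  dv_smulPt hc f (comp_ptOf x) W V h s

/-- The module structure. -/
@[reducible]
noncomputable def modNK : Module Γ(U.left, ⊤) (NK G c) where
  smul f x := nsmul hc f x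
  one_smul x := ext_DV hc fun W V h s => (DV_nsmul hc 1 x W V h s).trans (by rw [rs, map_one, _root_.one_mul])
  mul_smul f g x := ext_DV hc fun W V h s => (DV_nsmul hc _ x W V h s).trans (by
    refine Eq.trans ?_ (DV_nsmul hc f _ W V h s).symm
    refine Eq.trans ?_ (congrArg (rs V f * ·) (DV_nsmul hc g x W V h s)).symm
    rw [rs, map_mul, _root_.mul_assoc])
  smul_zero f := ext_DV hc fun W V h s => (DV_nsmul hc f 0 W V h s).trans (by rw [DV_zero, MulZeroClass.mul_zero])
  smul_add f x y := ext_DV hc fun W V h s => (DV_nsmul hc f _ W V h s).trans (by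
    refine Eq.trans ?_ (DV_add hc _ _ W V h s).symm
    rw [DV_add, mul_add]
    exact (congrArg₂ (· + ·) (DV_nsmul hc f x W V h s) (DV_nsmul hc f y W V h s)).symm)
  add_smul f g x := ext_DV hc fun W V h s => (DV_nsmul hc _ x W V h s).trans (by
    refine Eq.trans ?_ (DV_add hc _ _ W V h s).symm
    rw [rs, map_add, add_mul]
    exact (congrArg₂ (· + ·) (DV_nsmul hc f x W V h s) (DV_nsmul hc g x W V h s)).symm)
  zero_smul x := ext_DV hc fun W V h s => (DV_nsmul hc 0 x W V h s).trans (by
    rw [DV_zero, rs, map_zero, MulZeroClass.zero_mul])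

end module

end K731.NMod
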