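import Groth.Agent.Adeq.K569.QCS3

/-!
# Flat base change for presheaves of modules on the big site, for general affine objects
-/

set_option autoImplicit false
universe u

open CategoryTheory CategoryTheory.Limits Opposite AlgebraicGeometry

noncomputable section

namespace K731.QBC

open K644.Site K644.Psh K644.Alg K570.CechM K570.CA K569.Basic K570.FFCech K570.SpecModel
open Groth.Agent.Etbase.FFExact

variable {K : Precoverage Scheme.{u}} [BigSite.OSh K] {S : Scheme.{u}}
  (N : PresheafOfModules.{u + 1} (BigSite.ORing K S).obj)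

/-- The module structure of a value. -/
@[reducible] def mv {R : Type u} [CommRing R] (F : Adeq.MVF R) (A : Type u) [CommRing A] [Algebra R A] :
    Module A (F.obj (Adeq.pt (Adeq.algOf R A))) := Adeq.moduleValue F (Adeq.algOf R A)

/-- The module structure on sections. -/
@[reducible] def mn (V : Over S) : Module Γ(V.left, ⊤) (N.presheaf.obj (op V)) := modΓ (T := Over.forget S) N V

attribute [local instance] mv mn

/-- Restriction along the canonical isomorphism to a spectrum, as a linear map. -/
def resEquiv {V : Over S} [IsAffine V.left] {R : CommRingCat.{u}} {a : Spec R ⟶ S} [Algebra R Γ(V.left, ⊤)]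
    (E : (Adeq.specOver a).obj (op (Adeq.algOf R Γ(V.left, ⊤))) ≅ V)
    (hE : E.inv.left = V.left.isoSpec.hom) :
    ((Adeq.toMVFPre K a).obj N).obj (Adeq.pt (Adeq.algOf R Γ(V.left, ⊤))) ≃ₗ[Γ(V.left, ⊤)]
      N.presheaf.obj (op V) where
  toFun x := res N.presheaf E.inv x
  invFun x := res N.presheaf E.hom x
  left_inv _ := res_iso_hom_inv _ _ _
  right_inv _ := res_iso_inv_hom _ _ _
  map_add' x y := map_add (N.presheaf.map E.inv.op).hom x y
  map_smul' b x := by
    have h1 := map_smul' (T := Over.forget S) N E.inv ((Scheme.ΓSpecIso (CommRingCat.of Γ(V.left, ⊤))).inv.hom b) x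
    refine h1.trans ?_
    congr 1
    change E.inv.left.appTop.hom _ = _
    rw [hE]
    change V.left.toSpecΓ.appTop.hom ((Scheme.ΓSpecIso (CommRingCat.of Γ(V.left, ⊤))).inv.hom b) = b
    rw [Scheme.toSpecΓ_appTop]
    exact ConcreteCategory.congr_hom (Scheme.ΓSpecIso (CommRingCat.of Γ(V.left, ⊤))).inv_hom_id b

variable {N}

theorem isBC_of_fbc (hN : FBC N) {U V : Over S} (g : V ⟶ U) (hU : IsAffine U.left) (hV : IsAffine V.left)
    (hg : Flat g.left) : IsBC (A := Γ((Over.forget S).obj U, ⊤)) (B := Γ((Over.forget S).obj V, ⊤))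
      ((Over.forget S).map g).appTop.hom (N.presheaf.map g.op).hom := by
  let _ := alg g
  have h1 := K569.QCS.isBC_of_flatBC (hN _ (chart U)) (γ (R := Γ(U.left, ⊤)) Γ(V.left, ⊤)).unop
    g.left.flat_appTop
  refine IsBC.of_equiv h1 (resEquiv N (eU (U := U)) rfl) (resEquiv N (eV g) rfl) _ fun m => ?_
  change res N.presheaf g (res N.presheaf (eU (U := U)).inv m) = res N.presheaf (eV g).inv
    (res N.presheaf ((Adeq.specOver (chart U)).map (γ (R := Γ(U.left, ⊤)) Γ(V.left, ⊤))) m)
  rw [res_res, res_res]
  refine res_congr N.presheaf ?_ m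
  rw [Iso.eq_inv_comp, ← Category.assoc, eV_comp g, Category.assoc, Iso.hom_inv_id, Category.comp_id]

end K731.QBC
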