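import Groth.Agent.CGrpSh.K731.ESite

/-!
# The quasi-coherent module attached to a module with flat base change on the big site
-/

set_option autoImplicit false
universe u

open CategoryTheory CategoryTheory.Limits Opposite AlgebraicGeometry

noncomputable section

namespace K731.QComp

open AlgSp K644.Site K644.Psh K644.Alg K644.EtSite K612.PullSec K612.PullTerm K612.PullLoc K612.PullOver
open Groth.Agent.Etbase.FFExact K731.ESite K731.QBC K570.CA K644.Exact

/-- Comparison of two base changes. -/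
theorem bijective_of_isBC {A B : Type u} [CommRing A] [CommRing B] {φ : A →+* B}
    {M M' M'' : Type (u + 1)} [AddCommGroup M] [AddCommGroup M'] [AddCommGroup M''] [Module A M]
    [Module B M'] [Module B M''] {ψ : M →+ M'} {ψ' : M →+ M''} (h : IsBC φ ψ) (h' : IsBC φ ψ')
    (l : M' →ₗ[B] M'') (hl : ∀ m, l (ψ m) = ψ' m) : Function.Bijective l := by
  obtain ⟨l', hl', -⟩ := IsBC.existsUnique_lift h' ψ h.choose
  have e1 : l'.comp l = LinearMap.id := IsBC.hom_ext h _ _ fun m => by
    rw [LinearMap.comp_apply, hl, hl']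
    rfl
  have e2 : l.comp l' = LinearMap.id := IsBC.hom_ext h' _ _ fun m => by
    rw [LinearMap.comp_apply, hl', hl]
    rfl
  exact ⟨fun x y hxy => by
    rw [← LinearMap.id_apply (R := B) x, ← LinearMap.id_apply (R := B) y, ← e1, LinearMap.comp_apply,
      LinearMap.comp_apply, hxy],
    fun x => ⟨l' x, LinearMap.congr_fun e2 x⟩⟩

variable {T : Scheme.{u}} (M : BigSite.Mod Scheme.fppfPrecoverage T)

instance : QCSite (JT T) (Over.forget T) :=
  K569.QCS.qcSite (Q := K570.Local.Qf) (S := T)

/-- Restriction to the small étale site. -/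
abbrev N₀ : SheafOfModules.{u + 1} (RS T) := (SheafOfModules.pushforward (φT T)).obj M

variable {M}

theorem isQC_N₀ (hM : FBC M.val) : IsQC (EtOver.toScheme (XT T)) (N₀ M).val := by
  intro V U g hV hU
  have : Etale (mor g) := inferInstance
  exact isBC_of_fbc hM ((FF T).map g) hU hV (inferInstanceAs (Flat (mor g)))

variable (M)

/-- The quasi-coherent module. -/
abbrev Mq : BigSite.Mod Scheme.fppfPrecoverage T := (SheafOfModules.pullback.{u + 1} (φT T)).obj (N₀ M)

variable {M}

theorem isBC_Mq (hM : FBC M.val) {c : EtOver (XT T)} {V : Over T} (k : V ⟶ (FF T).obj c)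
    (hc : IsAffine (sch c)) (hV : IsAffine V.left) :
    IsBC ((PT T).θ k) (sm (un (φT T) (N₀ M)) k) :=
  isBC_un (PT T) (N₀ M) (isQC_N₀ hM) k hc hV

/-- The comparison morphism. -/
abbrev ψ (M : BigSite.Mod Scheme.fppfPrecoverage T) : Mq M ⟶ M :=
  (SheafOfModules.pullbackPushforwardAdjunction.{u + 1} (φT T)).counit.app M

theorem ψ_sm {c : EtOver (XT T)} {V : Over T} (k : V ⟶ (FF T).obj c) (n : sec (N₀ M) c) :
    smap (Over.forget T) (ψ M) V (sm (un (φT T) (N₀ M)) k n) = K644.Exact.res M k n := by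
  rw [smap_sm]
  have h := (SheafOfModules.pullbackPushforwardAdjunction.{u + 1} (φT T)).right_triangle_components M
  have h2 : un (φT T) (N₀ M) ≫ (SheafOfModules.pushforward (φT T)).map (ψ M) = 𝟙 _ := h
  rw [h2]
  rfl

theorem bijective_ψ_aff (hM : FBC M.val) {c : EtOver (XT T)} {V : Over T} (k : V ⟶ (FF T).obj c)
    (hc : IsAffine (sch c)) (hV : IsAffine V.left) (hk : Flat k.left) :
    Function.Bijective (smap (Over.forget T) (ψ M) V) := by
  have h1 := isBC_Mq hM k hc hV
  have h2 := isBC_of_fbc hM k hc hV hk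
  have h3 : (PT T).θ k = ((Over.forget T).map k).appTop.hom := by
    ext a
    rw [SchHom.θ_apply]
    change _ = (k.left).appTop.hom a
    change k.left.appTop.hom ((𝟙 (sch c) : sch c ⟶ sch c).appTop.hom a) = _
    rw [Scheme.Hom.id_appTop]
    rfl
  rw [h3] at h1
  exact bijective_of_isBC h1 h2 (smap (Over.forget T) (ψ M) V) (fun m => ψ_sm k m)

/-- Small flat affine objects: bijectivity of the comparison. -/
theorem bijective_ψ_small (hM : FBC M.val) {V : Over T} (hV : IsAffine V.left) (hfl : Flat V.hom)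
    (O : T.Opens) (hO : IsAffineOpen O) (h : Set.range V.hom ⊆ O) :
    Function.Bijective (smap (Over.forget T) (ψ M) V) := by
  let c : EtOver (XT T) := ofEt (tt T) (Z := O) O.ι (show Etale O.ι from inferInstance)
  let l : V.left ⟶ O := IsOpenImmersion.lift O.ι V.hom (by rw [Scheme.Opens.range_ι]; exact h)
  have hl : l ≫ O.ι = V.hom := IsOpenImmersion.lift_fac _ _ _
  let k : V ⟶ (FF T).obj c := Over.homMk l (by
    change l ≫ O.ι ≫ 𝟙 T = V.hom
    rw [Category.comp_id, hl])
  have sq : IsPullback (𝟙 V.left) l V.hom O.ι := by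
    refine ⟨⟨by rw [hl, Category.id_comp]⟩, ⟨PullbackCone.IsLimit.mk _ (fun s => s.fst) (fun s => Category.comp_id _)
      (fun s => ?_) (fun s m h1 _ => ?_)⟩⟩
    · rw [← cancel_mono O.ι, Category.assoc, hl]
      exact s.condition
    · rw [← h1, Category.comp_id]
  have hk : Flat l := MorphismProperty.of_isPullback (P := @Flat) sq hfl
  exact bijective_ψ_aff hM k hO hV hk

section loc

variable (U : Over T)

theorem exists_small (x : U.left) : ∃ (W : U.left.Opens) (O : T.Opens), IsAffineOpen W ∧ IsAffineOpen O ∧ x ∈ W ∧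
    Set.range (W.ι ≫ U.hom) ⊆ O := by
  obtain ⟨O, hO, hxO, -⟩ := exists_isAffineOpen_mem_and_subset (x := U.hom x) (U := (⊤ : T.Opens)) trivial
  obtain ⟨W, hW, hxW, hWO⟩ := exists_isAffineOpen_mem_and_subset (x := x) (U := U.hom ⁻¹ᵁ O) hxO
  refine ⟨W, O, hW, hO, hxW, ?_⟩
  rintro _ ⟨y, rfl⟩
  exact hWO y.2

/-- The small affine neighbourhoods. -/
def Wn (x : U.left) : U.left.Opens := (exists_small U x).choose

/-- The small affine neighbourhoods as objects. -/
def Vn (x : U.left) : Over T := Over.mk ((Wn U x).ι ≫ U.hom)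

/-- Their inclusions. -/
def sn (x : U.left) : Vn U x ⟶ U := Over.homMk (Wn U x).ι rfl

theorem sn_mem : Sieve.ofArrows (Vn U) (sn U) ∈ JT T U := by
  refine K570.Cov.ofArrows_mem (Q := K570.Local.Qf) (sn U) fun x => ⟨x, ⟨?_, ?_⟩, ?_⟩
  · exact inferInstanceAs (Flat (Wn U x).ι)
  · exact inferInstanceAs (LocallyOfFinitePresentation (Wn U x).ι)
  · obtain ⟨O, -, -, hx, -⟩ := (exists_small U x).choose_spec
    exact ⟨⟨x, hx⟩, rfl⟩

variable {U}

theorem bijective_Vn (hM : FBC M.val) (hU : Flat U.hom) (x : U.left) :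
    Function.Bijective (smap (Over.forget T) (ψ M) (Vn U x)) := by
  obtain ⟨O, hW, hO, -, h⟩ := (exists_small U x).choose_spec
  refine bijective_ψ_small hM hW ?_ O hO h
  change Flat ((Wn U x).ι ≫ U.hom)
  infer_instance

theorem injective_ψ (hM : FBC M.val) (hU : Flat U.hom) :
    Function.Injective (smap (Over.forget T) (ψ M) U) := by
  intro x y hxy
  refine K644.Local.ext_of_cover (Mq M) (Vn U) (sn U) (sn_mem U) x y fun i => ?_
  apply (bijective_Vn hM hU i).1
  rw [smap_res, smap_res, hxy]

theorem bijective_ψ (hM : FBC M.val) (hU : Flat U.hom) :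
    Function.Bijective (smap (Over.forget T) (ψ M) U) := by
  refine ⟨injective_ψ hM hU, fun y => ?_⟩
  choose x hx using fun i => (bijective_Vn hM hU i).2 (K644.Exact.res M (sn U i) y)
  obtain ⟨z, hz⟩ := K644.Local.exists_glue (Mq M) (Vn U) (sn U) (sn_mem U) x (by
    intro i j Z a b hab
    let P : Over T := pullback (sn U i) (sn U j)
    have hP : Flat P.hom := by
      have h1 : P.hom = (pullback.fst (sn U i) (sn U j)).left ≫ (Vn U i).hom := (Over.w _).symm
      have h2 : Flat (Vn U i).hom := by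
        change Flat ((Wn U i).ι ≫ U.hom)
        infer_instance
      have h3 : IsPullback (pullback.fst (sn U i) (sn U j)).left (pullback.snd (sn U i) (sn U j)).left
          (sn U i).left (sn U j).left := (IsPullback.of_hasPullback (sn U i) (sn U j)).map (Over.forget T)
      have h4 : Flat (sn U j).left := inferInstanceAs (Flat (Wn U j).ι)
      have h5 : Flat (pullback.fst (sn U i) (sn U j)).left := MorphismProperty.of_isPullback (P := @Flat) h3.flip h4
      rw [h1]
      infer_instance
    have key : K644.Exact.res (Mq M) (pullback.fst (sn U i) (sn U j)) (x i) =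
        K644.Exact.res (Mq M) (pullback.snd (sn U i) (sn U j)) (x j) := by
      apply injective_ψ hM hP
      rw [smap_res, smap_res, hx, hx, ← K644.Exact.res_comp, ← K644.Exact.res_comp, pullback.condition]
    obtain ⟨l, ha, hb⟩ : ∃ l : Z ⟶ P, l ≫ pullback.fst (sn U i) (sn U j) = a ∧
        l ≫ pullback.snd (sn U i) (sn U j) = b :=
      ⟨pullback.lift a b hab, pullback.lift_fst _ _ _, pullback.lift_snd _ _ _⟩
    rw [← ha, ← hb, K644.Exact.res_comp, K644.Exact.res_comp, key])
  refine ⟨z, ?_⟩
  refine K644.Local.ext_of_cover M (Vn U) (sn U) (sn_mem U) _ _ fun i => ?_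
  rw [← hx i, ← hz i, smap_res]

end loc

theorem coversTop_FF {I : Type*} (Z : I → EtOver (XT T)) (hZ : (etTop (XT T)).CoversTop Z) :
    (JT T).CoversTop fun i => (FF T).obj (Z i) := by
  intro U
  have h1 := (coverPreserving T).cover_preserve (hZ (tt T))
  have h2 := (JT T).pullback_stable (Over.mkIdTerminal.from U) h1
  refine (JT T).superset_covering ?_ h2
  rintro W g ⟨Y, k, h, ⟨i, ⟨l⟩⟩, -⟩
  exact ⟨i, ⟨h ≫ (FF T).map l⟩⟩

theorem isQuasicoherent_Mq (hM : FBC M.val) : (Mq M).IsQuasicoherent := by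
  have : (N₀ M).IsQuasicoherent := K644.QCoh.isQuasicoherent_of_isQC (isQC_N₀ hM)
  exact K612.QcPull.isQuasicoherent_pullback (φT T) fun _ Z hZ => coversTop_FF Z hZ

end K731.QComp
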