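import Groth.Agent.Sga3B.InfConj
import Groth.Agent.Etrest.FppfCoch
import Groth.Agent.Lefpen.H613.SqLift

/-!
# Points of a commutative group scheme in algebras: averaging

`G` a commutative group scheme over `Spec A` with an affine open neighbourhood of the unit section.  If `E` is an
`R`-algebra with an `R`-linear map `L : E → R`, `L 1 = 1`, points of `G` in `E` which are trivial modulo a square-zero
ideal can be averaged to points of `G` in `R` (`avg`).  As a consequence Čech cocycles with values in an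
infinitesimal kernel are coboundaries (`exists_correct`).
-/

set_option autoImplicit false
universe u

open CategoryTheory MonoidalCategory CartesianMonoidalCategory MonObj GrpObj AlgebraicGeometry Limits
open scoped TensorProduct
open Groth.Agent.Sga3B.InfConj Groth.Agent.Etrest.FppfCoch

noncomputable section

namespace K731.SmAlg

variable {A : Type u} [CommRing A]

section pts

variable (G : Over (Spec (CommRingCat.of A))) [GrpObj G] [IsCommMonObj G]

/-- The additive group of points of `G` in an algebra. -/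
abbrev Q (R : Type u) [CommRing R] [Algebra A R] : Type u := Additive (pt A R ⟶ G)

variable {R R' R'' : Type u} [CommRing R] [Algebra A R] [CommRing R'] [Algebra A R'] [CommRing R''] [Algebra A R'']

/-- Functoriality of points. -/
def qmap (φ : R →ₐ[A] R') : Q G R →+ Q G R' where
  toFun x := Additive.ofMul (ptMap φ ≫ x.toMul)
  map_zero' := by
    change Additive.ofMul (ptMap φ ≫ (1 : pt A R ⟶ G)) = 0
    rw [MonObj.comp_one]
    rfl
  map_add' x y := by
    change Additive.ofMul (ptMap φ ≫ (x.toMul * y.toMul)) = _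
    rw [MonObj.comp_mul]
    rfl

theorem toMul_qmap (φ : R →ₐ[A] R') (x : Q G R) : (qmap G φ x).toMul = ptMap φ ≫ x.toMul := rfl

theorem qmap_qmap (φ : R →ₐ[A] R') (ψ : R' →ₐ[A] R'') (x : Q G R) :
    qmap G ψ (qmap G φ x) = qmap G (ψ.comp φ) x := by
  apply Additive.toMul.injective
  rw [toMul_qmap, toMul_qmap, toMul_qmap, ptMap_comp_assoc]

theorem qmap_id (x : Q G R) : qmap G (AlgHom.id A R) x = x := by
  apply Additive.toMul.injective
  rw [toMul_qmap, ptMap_id, Category.id_comp]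

end pts

section nbhd

variable {G : Over (Spec (CommRingCat.of A))} {D : Type u} [CommRing D] [Algebra A D] (v : pt A D ⟶ G)
  [IsOpenImmersion v.left]
variable {R R' : Type u} [CommRing R] [Algebra A R] [CommRing R'] [Algebra A R']

omit [IsOpenImmersion v.left] in
theorem ptMap_injective {φ ψ : R →ₐ[A] R'} (h : ptMap φ = ptMap ψ) : φ = ψ := by
  have h1 := congrArg (fun k => k.left) h
  have h2 := Spec.map_injective h1
  ext x
  exact congr($h2 x)

include v in
theorem coord_unique {ξ ξ' : D →ₐ[A] R} (h : ptMap ξ ≫ v = ptMap ξ' ≫ v) : ξ = ξ' := by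
  apply ptMap_injective
  ext1
  have h1 := congrArg (fun k => k.left) h
  simp only [Over.comp_left] at h1
  exact (cancel_mono v.left).1 h1

theorem exists_coord_of_range (x : pt A R ⟶ G) (h : Set.range x.left ⊆ Set.range v.left) :
    ∃ ξ : D →ₐ[A] R, ptMap ξ ≫ v = x := by
  let l : Spec (CommRingCat.of R) ⟶ Spec (CommRingCat.of D) := IsOpenImmersion.lift v.left x.left h
  have hl : l ≫ v.left = x.left := IsOpenImmersion.lift_fac v.left x.left h
  have h1 : Spec.map (Spec.preimage l) = l := Spec.map_preimage l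
  have h2 : l ≫ Spec.map (CommRingCat.ofHom (algebraMap A D)) = Spec.map (CommRingCat.ofHom (algebraMap A R)) := by
    have e1 : v.left ≫ G.hom = Spec.map (CommRingCat.ofHom (algebraMap A D)) := Over.w v
    have e2 : x.left ≫ G.hom = Spec.map (CommRingCat.ofHom (algebraMap A R)) := Over.w x
    rw [← e1, ← e2, ← hl, Category.assoc]
  let ξ : D →ₐ[A] R := { (Spec.preimage l).hom with
    commutes' := fun a => by
      have h3 : CommRingCat.ofHom (algebraMap A D) ≫ Spec.preimage l = CommRingCat.ofHom (algebraMap A R) := by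
        apply Spec.map_injective
        rw [Spec.map_comp, h1, h2]
      exact congr($h3 a) }
  refine ⟨ξ, ?_⟩
  ext1
  rw [Over.comp_left, ptMap_left, ← hl]
  congr 1

theorem exists_coord_of_mk {J : Ideal R} (hJ : J * J = ⊥) (x : pt A R ⟶ G) (ξ₀ : D →ₐ[A] R ⧸ J)
    (h : ptMap (Ideal.Quotient.mkₐ A J) ≫ x = ptMap ξ₀ ≫ v) :
    ∃ ξ : D →ₐ[A] R, ptMap ξ ≫ v = x := by
  refine exists_coord_of_range v x ?_
  rintro _ ⟨p, rfl⟩
  obtain ⟨p', rfl⟩ := specMap_quotient_surjective J hJ p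
  have h1 := congrArg (fun k => k.left p') h
  simp only [Over.comp_left, ptMap_left] at h1
  exact ⟨_, h1.symm⟩

end nbhd

section nbhdG

variable (G : Over (Spec (CommRingCat.of A))) [GrpObj G] [IsCommMonObj G]

/-- An affine open neighbourhood of the unit section. -/
structure UNbhd where
  /-- the ring -/
  D : Type u
  [ring : CommRing D]
  [alg : Algebra A D]
  /-- the inclusion -/
  v : pt A D ⟶ G
  isOpen : IsOpenImmersion v.left
  /-- the unit section -/
  ε : D →ₐ[A] A
  hε : ptMap ε ≫ v = 1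

attribute [instance] UNbhd.ring UNbhd.alg UNbhd.isOpen

variable {G} (N : UNbhd G)
variable {R R' : Type u} [CommRing R] [Algebra A R] [CommRing R'] [Algebra A R']

theorem UNbhd.unit : ptMap ((Algebra.ofId A R).comp N.ε) ≫ N.v = (0 : Q G R).toMul := by
  rw [← ptMap_comp, Category.assoc, N.hε, MonObj.comp_one]
  rfl

theorem UNbhd.exists_coord {J : Ideal R} (hJ : J * J = ⊥) (x : Q G R)
    (hx : qmap G (Ideal.Quotient.mkₐ A J) x = 0) : ∃ ξ : N.D →ₐ[A] R, ptMap ξ ≫ N.v = x.toMul ∧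
      ∀ d, ξ d - algebraMap A R (N.ε d) ∈ J := by
  have h1 : ptMap (Ideal.Quotient.mkₐ A J) ≫ x.toMul = ptMap ((Algebra.ofId A (R ⧸ J)).comp N.ε) ≫ N.v := by
    rw [N.unit, ← hx]
    rfl
  obtain ⟨ξ, hξ⟩ := exists_coord_of_mk N.v hJ x.toMul _ h1
  refine ⟨ξ, hξ, fun d => ?_⟩
  rw [← hξ, ptMap_comp_assoc] at h1
  have h2 := coord_unique N.v h1
  have h3 := DFunLike.congr_fun h2 d
  rw [← Ideal.Quotient.eq]
  exact h3

theorem UNbhd.qmap_eq_zero {J : Ideal R} (x : Q G R) (ξ : N.D →ₐ[A] R) (hξ : ptMap ξ ≫ N.v = x.toMul)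
    (h : ∀ d, ξ d - algebraMap A R (N.ε d) ∈ J) : qmap G (Ideal.Quotient.mkₐ A J) x = 0 := by
  apply Additive.toMul.injective
  rw [toMul_qmap, ← hξ, ptMap_comp_assoc, ← N.unit]
  congr 2
  ext d
  exact Ideal.Quotient.eq.2 (h d)

/-- points in a quotient factor through the ring -/
theorem qmap_eq_zero_of_le {J : Ideal R} (φ : R →ₐ[A] R') (hφ : ∀ j ∈ J, φ j = 0) (x : Q G R)
    (hx : qmap G (Ideal.Quotient.mkₐ A J) x = 0) : qmap G φ x = 0 := by
  have h1 : φ = (Ideal.Quotient.liftₐ J φ hφ).comp (Ideal.Quotient.mkₐ A J) := by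
    ext r
    rfl
  rw [h1, ← qmap_qmap, hx, map_zero]

end nbhdG

section avg

variable {G : Over (Spec (CommRingCat.of A))} [GrpObj G] [IsCommMonObj G] (N : UNbhd G)
variable {R : Type u} [CommRing R] [Algebra A R] {E : Type u} [CommRing E] [Algebra A E] [Algebra R E]
  [IsScalarTower A R E] {J : Ideal E} {I : Ideal R} (hI : I * I = ⊥) (hJ : J * J = ⊥) {L : E →ₗ[R] R}
  (hL1 : L 1 = 1) (hLJ : ∀ j ∈ J, L j ∈ I)

/-- the inclusion of `R + J` in `E` -/
abbrev subVal (R : Type u) [CommRing R] [Algebra A R] {E : Type u} [CommRing E] [Algebra A E] [Algebra R E]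
    [IsScalarTower A R E] (J : Ideal E) : avgSub (C := R) J →ₐ[A] E := (avgSub (C := R) J).val.restrictScalars A

/-- the ideal `J` in `R + J` -/
abbrev subIdeal (R : Type u) [CommRing R] {E : Type u} [CommRing E] [Algebra R E] (J : Ideal E) :
    Ideal (avgSub (C := R) J) := J.comap (avgSub (C := R) J).val

theorem subIdeal_mul (hJ : J * J = ⊥) : subIdeal R J * subIdeal R J = ⊥ := by
  rw [eq_bot_iff, Ideal.mul_le]
  intro r hr s hs
  rw [Ideal.mem_bot]
  apply Subtype.ext
  have := Ideal.mul_mem_mul (Ideal.mem_comap.1 hr) (Ideal.mem_comap.1 hs)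
  rw [hJ, Ideal.mem_bot] at this
  exact this

include N hJ in
theorem exists_sub (x : Q G E) (hx : qmap G (Ideal.Quotient.mkₐ A J) x = 0) :
    ∃ y : Q G (avgSub (C := R) J), qmap G (subVal R J) y = x ∧
      qmap G (Ideal.Quotient.mkₐ A (subIdeal R J)) y = 0 := by
  obtain ⟨ξ, hξ, hξ'⟩ := N.exists_coord hJ x hx
  have hmem : ∀ d, ξ d ∈ avgSub (C := R) J := fun d => ⟨algebraMap A R (N.ε d), by
    rw [← IsScalarTower.algebraMap_apply]
    exact hξ' d⟩
  let ξ' : N.D →ₐ[A] avgSub (C := R) J :=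
    { toFun := fun d => ⟨ξ d, hmem d⟩
      map_one' := Subtype.ext (map_one ξ)
      map_mul' := fun a b => Subtype.ext (map_mul ξ a b)
      map_zero' := Subtype.ext (map_zero ξ)
      map_add' := fun a b => Subtype.ext (map_add ξ a b)
      commutes' := fun a => Subtype.ext ((ξ.commutes a).trans ((subVal R J).commutes a).symm) }
  have h1 : (subVal R J).comp ξ' = ξ := by
    ext d
    rfl
  refine ⟨Additive.ofMul (ptMap ξ' ≫ N.v), ?_, ?_⟩
  · apply Additive.toMul.injective
    rw [toMul_qmap]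
    change ptMap (subVal R J) ≫ ptMap ξ' ≫ N.v = _
    rw [ptMap_comp_assoc, h1, hξ]
  · refine N.qmap_eq_zero _ ξ' rfl fun d => ?_
    rw [Ideal.mem_comap]
    have h2 : (avgSub (C := R) J).val (ξ' d - algebraMap A _ (N.ε d)) = ξ d - algebraMap A E (N.ε d) := by
      rw [map_sub]
      exact congrArg (fun z => ξ d - z) ((subVal R J).commutes _)
    rw [h2]
    exact hξ' d

include N hJ in
theorem sub_unique (y y' : Q G (avgSub (C := R) J)) (hy : qmap G (Ideal.Quotient.mkₐ A (subIdeal R J)) y = 0)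
    (hy' : qmap G (Ideal.Quotient.mkₐ A (subIdeal R J)) y' = 0)
    (h : qmap G (subVal R J) y = qmap G (subVal R J) y') : y = y' := by
  obtain ⟨ξ, hξ, -⟩ := N.exists_coord (subIdeal_mul hJ) y hy
  obtain ⟨ξ', hξ', -⟩ := N.exists_coord (subIdeal_mul hJ) y' hy'
  have h1 : ptMap ((subVal R J).comp ξ) ≫ N.v = ptMap ((subVal R J).comp ξ') ≫ N.v := by
    rw [← ptMap_comp, ← ptMap_comp, Category.assoc, Category.assoc, hξ, hξ', ← toMul_qmap, ← toMul_qmap, h]
  have h2 := coord_unique N.v h1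
  have h3 : ξ = ξ' := by
    ext d
    exact DFunLike.congr_fun h2 d
  apply Additive.toMul.injective
  rw [← hξ, ← hξ', h3]

/-- points trivial modulo `J` -/
abbrev qker (G : Over (Spec (CommRingCat.of A))) [GrpObj G] [IsCommMonObj G] {E : Type u} [CommRing E] [Algebra A E]
    (J : Ideal E) : AddSubgroup (Q G E) := (qmap G (Ideal.Quotient.mkₐ A J)).ker

/-- The lift of points trivial modulo `J` to `R + J`. -/
def subLift (hJ : J * J = ⊥) : qker G J →+ Q G (avgSub (C := R) J) where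
  toFun x := (exists_sub (R := R) N hJ x.1 x.2).choose
  map_zero' := by
    have h := (exists_sub (R := R) N hJ (0 : qker G J).1 (0 : qker G J).2).choose_spec
    refine sub_unique N hJ _ _ h.2 (map_zero _) (h.1.trans ?_)
    rw [map_zero]
    rfl
  map_add' x y := by
    have h := (exists_sub (R := R) N hJ (x + y).1 (x + y).2).choose_spec
    have h1 := (exists_sub (R := R) N hJ x.1 x.2).choose_spec
    have h2 := (exists_sub (R := R) N hJ y.1 y.2).choose_spec
    refine sub_unique N hJ _ _ h.2 (by rw [map_add, h1.2, h2.2, add_zero]) (h.1.trans ?_)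
    rw [map_add, h1.1, h2.1]
    rfl

theorem subLift_spec (x : qker G J) : qmap G (subVal R J) (subLift (R := R) N hJ x) = x.1 ∧
    qmap G (Ideal.Quotient.mkₐ A (subIdeal R J)) (subLift (R := R) N hJ x) = 0 :=
  (exists_sub (R := R) N hJ x.1 x.2).choose_spec

/-- Averaging. -/
def avg : qker G J →+ Q G R :=
  (qmap G ((avgHom J I hI hJ L hL1 hLJ).restrictScalars A)).comp (subLift (R := R) N hJ)

theorem exists_avg_coord (x : qker G J) : ∃ (ξ : N.D →ₐ[A] E) (ζ : N.D →ₐ[A] R),
    ptMap ξ ≫ N.v = x.1.toMul ∧ (∀ d, ζ d = L (ξ d)) ∧ ptMap ζ ≫ N.v = (avg N hI hJ hL1 hLJ x).toMul := by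
  obtain ⟨h1, h2⟩ := subLift_spec (R := R) N hJ x
  obtain ⟨ξ, hξ, -⟩ := N.exists_coord (subIdeal_mul hJ) _ h2
  refine ⟨(subVal R J).comp ξ, ((avgHom J I hI hJ L hL1 hLJ).restrictScalars A).comp ξ, ?_, fun d => rfl, ?_⟩
  · rw [← ptMap_comp, Category.assoc, hξ, ← toMul_qmap, h1]
  · rw [← ptMap_comp, Category.assoc, hξ, ← toMul_qmap]
    rfl

theorem avg_eq (x : qker G J) (ξ : N.D →ₐ[A] E) (hξ : ptMap ξ ≫ N.v = x.1.toMul) (ζ : N.D →ₐ[A] R)
    (hζ : ∀ d, ζ d = L (ξ d)) : avg N hI hJ hL1 hLJ x = Additive.ofMul (ptMap ζ ≫ N.v) := by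
  obtain ⟨ξ', ζ', h1, h2, h3⟩ := exists_avg_coord N hI hJ hL1 hLJ x
  have h4 : ξ = ξ' := coord_unique N.v (hξ.trans h1.symm)
  have h5 : ζ = ζ' := by
    ext d
    rw [hζ, h2, h4]
  rw [h5, h3]
  rfl

/-- Averaging is a retraction. -/
theorem avg_incl (y : Q G R) (hy : qmap G (Ideal.Quotient.mkₐ A I) y = 0)
    (x : qker G J) (hx : x.1 = qmap G (IsScalarTower.toAlgHom A R E) y) : avg N hI hJ hL1 hLJ x = y := by
  obtain ⟨ξ, hξ, -⟩ := N.exists_coord hI y hy
  have h1 : ptMap ((IsScalarTower.toAlgHom A R E).comp ξ) ≫ N.v = x.1.toMul := by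
    rw [hx, ← ptMap_comp, Category.assoc, hξ]
    rfl
  rw [avg_eq N hI hJ hL1 hLJ x _ h1 ξ, hξ]
  · rfl
  · intro d
    change ξ d = L (algebraMap R E (ξ d))
    rw [Algebra.algebraMap_eq_smul_one, map_smul, hL1, smul_eq_mul, _root_.mul_one]

variable {R' : Type u} [CommRing R'] [Algebra A R'] {E' : Type u} [CommRing E'] [Algebra A E'] [Algebra R' E']
  [IsScalarTower A R' E'] {J' : Ideal E'} {I' : Ideal R'} (hI' : I' * I' = ⊥) (hJ' : J' * J' = ⊥) {L' : E' →ₗ[R'] R'}
  (hL1' : L' 1 = 1) (hLJ' : ∀ j ∈ J', L' j ∈ I')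

/-- Naturality of averaging. -/
theorem avg_naturality (φ : R →ₐ[A] R') (ψ : E →ₐ[A] E') (h : ∀ e, L' (ψ e) = φ (L e)) (x : qker G J) (x' : qker G J')
    (hx : x'.1 = qmap G ψ x.1) : avg N hI' hJ' hL1' hLJ' x' = qmap G φ (avg N hI hJ hL1 hLJ x) := by
  obtain ⟨ξ, ζ, h1, h2, h3⟩ := exists_avg_coord N hI hJ hL1 hLJ x
  have h4 : ptMap (ψ.comp ξ) ≫ N.v = x'.1.toMul := by
    rw [hx, ← ptMap_comp, Category.assoc, h1]
    rfl
  rw [avg_eq N hI' hJ' hL1' hLJ' x' _ h4 (φ.comp ζ)]
  · apply Additive.toMul.injective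
    rw [toMul_qmap, ← h3, ptMap_comp_assoc]
    rfl
  · intro d
    rw [AlgHom.comp_apply, AlgHom.comp_apply, h, h2]

end avg

end K731.SmAlg
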