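import Groth.Agent.CGrpSh.K731.SmLoc

/-!
# Smooth charts of the functor of solutions of `d b = c`
-/

set_option autoImplicit false
universe u

open CategoryTheory MonoidalCategory CartesianMonoidalCategory MonObj GrpObj AlgebraicGeometry Limits
open scoped TensorProduct
open Groth.Agent.Sga3B.InfConj Groth.Agent.Etrest.FppfCoch

noncomputable section

namespace K731.SmAlg

variable {A : Type u} [CommRing A] {B : Type u} [CommRing B] [Algebra A B]

section sol

variable {G : Over (Spec (CommRingCat.of A))} [GrpObj G] [IsCommMonObj G] {n : ℕ} (T : Tup A B n)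

/-- The cochain of a section. -/
def ofS {R : Type u} [CommRing R] [Algebra A R] (s : Q G (R ⊗[A] T.C)) : AFam G B R n :=
  fun _ _ _ a x => qmap G (tl a (T.lift x)) s

variable {R R' : Type u} [CommRing R] [Algebra A R] [CommRing R'] [Algebra A R']

theorem Tup.comp_lift (x : Fin (n + 1) → (B →ₐ[A] R)) (f : R →ₐ[A] R') :
    f.comp (T.lift x) = T.lift (fun i => f.comp (x i)) := by
  apply T.hom_ext
  intro i
  rw [AlgHom.comp_assoc, T.lift_y, T.lift_y]

theorem isN_ofS (s : Q G (R ⊗[A] T.C)) : IsN (ofS T s) := by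
  intro R₁ R₂ _ _ _ _ f a x
  rw [ofS, ofS, qmap_qmap, tl_comp, Tup.comp_lift]

theorem ofS_self (s : Q G (R ⊗[A] T.C)) :
    ofS T s _ (incl₁ T.C R) (fun i => (incl₂ T.C R).comp (T.y i)) = s := by
  rw [ofS]
  have : T.lift (fun i => (incl₂ T.C R).comp (T.y i)) = incl₂ T.C R := by
    apply T.hom_ext
    intro i
    rw [T.lift_y]
  rw [this, tl_self, qmap_id]

theorem ofS_qmap (φ : R →ₐ[A] R') (s : Q G (R ⊗[A] T.C)) (R₁ : Type u) [CommRing R₁] [Algebra A R₁]
    (a : R' →ₐ[A] R₁) (x : Fin (n + 1) → (B →ₐ[A] R₁)) :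
    ofS T (qmap G (tm T.C φ) s) R₁ a x = ofS T s R₁ (a.comp φ) x := by
  rw [ofS, ofS, qmap_qmap, tl_tm]

/-- A natural family is given by its value at the universal point. -/
theorem eq_ofS {c : AFam G B R n} (hc : IsN c) (R₁ : Type u) [CommRing R₁] [Algebra A R₁]
    (a : R →ₐ[A] R₁) (x : Fin (n + 1) → (B →ₐ[A] R₁)) :
    c R₁ a x = ofS T (c _ (incl₁ T.C R) (fun i => (incl₂ T.C R).comp (T.y i))) R₁ a x := by
  rw [ofS, hc]
  have h1 : (tl a (T.lift x)).comp (incl₁ T.C R) = a := by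
    ext r
    simp
  have h2 : (fun i => (tl a (T.lift x)).comp ((incl₂ T.C R).comp (T.y i))) = x := by
    funext i
    have h3 : (tl a (T.lift x)).comp (incl₂ T.C R) = T.lift x := by
      ext r
      simp
    rw [← AlgHom.comp_assoc, h3, T.lift_y]
  rw [h1, h2]

variable (c : AFam G B A (n + 1))

/-- `s` is a solution of `d s = c`. -/
def IsSol (s : Q G (R ⊗[A] T.C)) : Prop :=
  ∀ (R₁ : Type u) [CommRing R₁] [Algebra A R₁] (a : R →ₐ[A] R₁) (x : Fin (n + 2) → (B →ₐ[A] R₁)),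
    dS (ofS T s R₁ a) x = c R₁ (Algebra.ofId A R₁) x

variable (T' : Tup A B (n + 1))

/-- The defect at the universal point. -/
def defect (s : Q G (R ⊗[A] T.C)) : Q G (R ⊗[A] T'.C) :=
  dS (ofS T s _ (incl₁ T'.C R)) (fun i => (incl₂ T'.C R).comp (T'.y i)) -
    c _ (Algebra.ofId A _) (fun i => (incl₂ T'.C R).comp (T'.y i))

variable {c} in
theorem qmap_defect (hc : IsN c) (s : Q G (R ⊗[A] T.C)) (φ : R →ₐ[A] R') :
    qmap G (tm T'.C φ) (defect T c T' s) = defect T c T' (qmap G (tm T.C φ) s) := by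
  have e1 : ∀ i : Fin (n + 2), (tm T'.C φ).comp ((incl₂ T'.C R).comp (T'.y i)) =
      (incl₂ T'.C R').comp (T'.y i) := by
    intro i
    ext z
    simp
  have e2 : (tm T'.C φ).comp (incl₁ T'.C R) = (incl₁ T'.C R').comp φ := by
    ext z
    simp
  have e3 : (tm T'.C φ).comp (Algebra.ofId A _) = Algebra.ofId A _ := by
    ext
  rw [defect, map_sub, hc, (isN_ofS T s).d, e2, e3]
  simp only [e1]
  rw [defect]
  congr 1
  refine dS_congr fun i => ?_
  rw [ofS_qmap]

variable {c} in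
theorem isSol_iff (hc : IsN c) (s : Q G (R ⊗[A] T.C)) : IsSol T c s ↔ defect T c T' s = 0 := by
  constructor
  · intro h
    rw [defect, h, sub_self]
  · intro h R₁ _ _ a x
    have h1 : ∀ i, (tl a (T'.lift x)).comp ((incl₂ T'.C R).comp (T'.y i)) = x i := by
      intro i
      have h3 : (tl a (T'.lift x)).comp (incl₂ T'.C R) = T'.lift x := by
        ext r
        simp
      rw [← AlgHom.comp_assoc, h3, T'.lift_y]
    have h2 : (tl a (T'.lift x)).comp (incl₁ T'.C R) = a := by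
      ext r
      simp
    have h4 : (tl a (T'.lift x)).comp (Algebra.ofId A _) = Algebra.ofId A _ := by
      ext
    have h5 := congrArg (qmap G (tl a (T'.lift x))) h
    rw [defect, map_sub, map_zero, hc, (isN_ofS T s).d, h2, h4] at h5
    simp only [h1] at h5
    exact sub_eq_zero.1 h5

theorem IsSol.qmap {s : Q G (R ⊗[A] T.C)} (h : IsSol T c s) (φ : R →ₐ[A] R') :
    IsSol T c (qmap G (tm T.C φ) s) := by
  intro R₁ _ _ a x
  rw [← h R₁ (a.comp φ) x]
  exact dS_congr fun i => ofS_qmap T φ s R₁ a _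

end sol

section lift

variable {G : Over (Spec (CommRingCat.of A))} [GrpObj G] [IsCommMonObj G] [Smooth G.hom] {n : ℕ} (T : Tup A B n)
variable (L₀ : B →ₗ[A] A) (hL : L₀ 1 = 1) (N : UNbhd G) {c : AFam G B A (n + 1)} (hc : IsN c)
  (hz : ∀ (R : Type u) [CommRing R] [Algebra A R] (x : Fin (n + 3) → (B →ₐ[A] R)),
    dS (c R (Algebra.ofId A R)) x = 0)

theorem exists_qmap_lift {R R' : Type u} [CommRing R] [Algebra A R] [CommRing R'] [Algebra A R'] (φ : R →ₐ[A] R')
    (hφ : Function.Surjective φ) (hk : RingHom.ker φ.toRingHom ^ 2 = ⊥) (s : Q G R') :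
    ∃ s' : Q G R, qmap G φ s' = s := by
  obtain ⟨l, hl1, hl2⟩ := Groth.Agent.Lefpen.H613.SqLift.exists_lift G.hom φ.toRingHom hφ hk s.toMul.left
    (Spec.map (CommRingCat.ofHom (algebraMap A R))) (by
      have h1 : s.toMul.left ≫ G.hom = Spec.map (CommRingCat.ofHom (algebraMap A R')) := Over.w s.toMul
      rw [h1, ← Spec.map_comp, ← CommRingCat.ofHom_comp]
      congr 2
      exact φ.comp_algebraMap)
  refine ⟨Additive.ofMul (Over.homMk l hl2), ?_⟩
  apply Additive.toMul.injective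
  ext1
  exact hl1

omit [Smooth G.hom] in
theorem exists_chart_lift {R R' E₀ : Type u} [CommRing R] [Algebra A R] [CommRing R'] [Algebra A R'] [CommRing E₀]
    [Algebra A E₀] (j : pt A E₀ ⟶ G) [Smooth j.left] (φ : R →ₐ[A] R')
    (hφ : Function.Surjective φ) (hk : RingHom.ker φ.toRingHom ^ 2 = ⊥) (s : Q G R) (c₀ : E₀ →ₐ[A] R')
    (h : Additive.ofMul (ptMap c₀ ≫ j) = qmap G φ s) :
    ∃ c₁ : E₀ →ₐ[A] R, φ.comp c₁ = c₀ ∧ Additive.ofMul (ptMap c₁ ≫ j) = s := by
  obtain ⟨l, hl1, hl2⟩ := Groth.Agent.Lefpen.H613.SqLift.exists_lift j.left φ.toRingHom hφ hk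
    (ptMap c₀).left s.toMul.left (by
      have h1 := congrArg (fun k => k.toMul.left) h
      exact h1.symm)
  have h1 : Spec.map (Spec.preimage l) = l := Spec.map_preimage l
  have h2 : l ≫ Spec.map (CommRingCat.ofHom (algebraMap A E₀)) = Spec.map (CommRingCat.ofHom (algebraMap A R)) := by
    have e1 : j.left ≫ G.hom = Spec.map (CommRingCat.ofHom (algebraMap A E₀)) := Over.w j
    have e2 : s.toMul.left ≫ G.hom = Spec.map (CommRingCat.ofHom (algebraMap A R)) := Over.w s.toMul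
    rw [← e1, ← e2, ← hl2, Category.assoc]
  let c₁ : E₀ →ₐ[A] R := { (Spec.preimage l).hom with
    commutes' := fun a => by
      have h3 : CommRingCat.ofHom (algebraMap A E₀) ≫ Spec.preimage l = CommRingCat.ofHom (algebraMap A R) := by
        apply Spec.map_injective
        rw [Spec.map_comp, h1, h2]
      exact congr($h3 a) }
  have h4 : (ptMap c₁).left = l := h1
  refine ⟨c₁, ?_, ?_⟩
  · apply ptMap_injective
    ext1
    rw [← ptMap_comp, Over.comp_left, h4]
    exact hl1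
  · apply Additive.toMul.injective
    ext1
    change (ptMap c₁ ≫ j).left = _
    rw [Over.comp_left, h4, hl2]

include hL N hc hz in
/-- Solutions lift along square-zero extensions. -/
theorem exists_sol_lift {R : Type u} [CommRing R] [Algebra A R] (I : Ideal R) (hI : I ^ 2 = ⊥)
    (s₀ : Q G ((R ⧸ I) ⊗[A] T.C)) (hs₀ : IsSol T c s₀) :
    ∃ s : Q G (R ⊗[A] T.C), qmap G (tm T.C (Ideal.Quotient.mkₐ A I)) s = s₀ ∧ IsSol T c s := by
  obtain ⟨s₁, hs₁⟩ := exists_qmap_lift (tm T.C (Ideal.Quotient.mkₐ A I)) (tm_mk_surjective I) (tm_mk_ker I hI) s₀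
  let b₁ : AFam G B R n := ofS T s₁
  have hb₁ : IsN b₁ := isN_ofS T s₁
  let r : AFam G B R (n + 1) := fun R' _ _ a x => c R' (Algebra.ofId A R') x - dS (b₁ R' a) x
  have hr : IsN r := by
    intro R₁ R₂ _ _ _ _ f a x
    have e3 : f.comp (Algebra.ofId A _) = Algebra.ofId A _ := by
      ext
    rw [map_sub, hc, hb₁.d, e3]
  have hrz : ∀ (R' : Type u) [CommRing R'] [Algebra A R'] (a : R →ₐ[A] R') (x : Fin (n + 3) → (B →ₐ[A] R')),
      dS (r R' a) x = 0 := by
    intro R' _ _ a x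
    have e1 : dS (r R' a) x = dS (c R' (Algebra.ofId A R')) x - dS (dS (b₁ R' a)) x := dS_sub _ _ x
    rw [e1, hz, dS_dS, sub_zero]
  have hr0 : ∀ (R' : Type u) [CommRing R'] [Algebra A R'] (a : R →ₐ[A] R') (x : Fin (n + 2) → (B →ₐ[A] R')),
      (∀ i ∈ I, a i = 0) → r R' a x = 0 := by
    intro R' _ _ a x ha
    have e1 : a = (Ideal.Quotient.liftₐ I a ha).comp (Ideal.Quotient.mkₐ A I) := by
      ext z
      rfl
    have e2 : dS (b₁ R' a) x = dS (ofS T s₀ R' (Ideal.Quotient.liftₐ I a ha)) x := by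
      refine dS_congr fun i => ?_
      conv_lhs => rw [e1]
      rw [← hs₁, ofS_qmap]
    change c R' (Algebra.ofId A R') x - dS (b₁ R' a) x = 0
    rw [e2, hs₀, sub_self]
  obtain ⟨b₂, hb₂, hb₂r, hb₂0⟩ := exists_correct L₀ hL N I (by rw [← pow_two, hI]) hr hr0 hrz
  let b : AFam G B R n := fun R' _ _ a x => b₁ R' a x + b₂ R' a x
  have hb : IsN b := by
    intro R₁ R₂ _ _ _ _ f a x
    rw [map_add, hb₁, hb₂]
  refine ⟨b _ (incl₁ T.C R) (fun i => (incl₂ T.C R).comp (T.y i)), ?_, ?_⟩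
  · have e1 : (tm T.C (Ideal.Quotient.mkₐ A I)).comp (incl₁ T.C R) =
        (incl₁ T.C (R ⧸ I)).comp (Ideal.Quotient.mkₐ A I) := by
      ext z
      simp
    have e2 : ∀ i, (tm T.C (Ideal.Quotient.mkₐ A I)).comp ((incl₂ T.C R).comp (T.y i)) =
        (incl₂ T.C (R ⧸ I)).comp (T.y i) := by
      intro i
      ext z
      simp
    rw [hb]
    simp only [e1, e2]
    change b₁ _ _ _ + b₂ _ _ _ = s₀
    rw [hb₂0, add_zero]
    · change ofS T s₁ _ _ _ = s₀
      rw [← ofS_qmap, hs₁, ofS_self]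
    · intro i hi
      rw [AlgHom.comp_apply]
      have : Ideal.Quotient.mkₐ A I i = 0 := Ideal.Quotient.eq_zero_iff_mem.2 hi
      rw [this, map_zero]
  · intro R₁ _ _ a x
    have e1 : dS (ofS T (b _ (incl₁ T.C R) (fun i => (incl₂ T.C R).comp (T.y i))) R₁ a) x = dS (b R₁ a) x :=
      dS_congr fun i => (eq_ofS T hb R₁ a _).symm
    have e2 : dS (b R₁ a) x = dS (b₁ R₁ a) x + dS (b₂ R₁ a) x := by
      simp only [dS, b, smul_add, Finset.sum_add_distrib]
    rw [e1, e2, hb₂r]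
    exact add_sub_cancel _ _

end lift

end K731.SmAlg
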