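import Groth.Agent.CGrpSh.K731.SmChart

/-!
# Existence of smooth charts of the functor of solutions of `d b = c`
-/

set_option autoImplicit false
universe u

open CategoryTheory MonoidalCategory CartesianMonoidalCategory MonObj GrpObj AlgebraicGeometry Limits
open scoped TensorProduct
open Groth.Agent.Sga3B.InfConj Groth.Agent.Etrest.FppfCoch

noncomputable section

namespace K731.SmAlg

variable {A : Type u} [CommRing A] {B : Type u} [CommRing B] [Algebra A B]

theorem exists_loc_lift {O R : Type u} [CommRing O] [Algebra A O] [CommRing R] [Algebra A R] (f : O) (φ : O →ₐ[A] R)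
    (h : IsUnit (φ f)) :
    ∃ φ' : Localization.Away f →ₐ[A] R, φ'.comp (IsScalarTower.toAlgHom A O (Localization.Away f)) = φ := by
  have hf : ∀ y : Submonoid.powers f, IsUnit (φ y) := by
    rintro ⟨_, k, rfl⟩
    rw [map_pow]
    exact h.pow k
  refine ⟨IsLocalization.liftAlgHom (M := Submonoid.powers f) hf, ?_⟩
  ext z
  exact IsLocalization.lift_eq _ _

theorem loc_hom_ext {O R : Type u} [CommRing O] [Algebra A O] [CommRing R] [Algebra A R] (f : O)
    (φ ψ : Localization.Away f →ₐ[A] R)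
    (h : φ.comp (IsScalarTower.toAlgHom A O (Localization.Away f)) =
      ψ.comp (IsScalarTower.toAlgHom A O (Localization.Away f))) : φ = ψ := by
  apply AlgHom.coe_ringHom_injective
  refine IsLocalization.ringHom_ext (Submonoid.powers f) ?_
  ext z
  exact DFunLike.congr_fun h z

/-- Agreement of two homomorphisms from a finite type algebra is measured by a finitely generated ideal. -/
theorem exists_fg {D P : Type u} [CommRing D] [Algebra A D] [Algebra.FiniteType A D] [CommRing P] [Algebra A P]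
    (ξ ζ : D →ₐ[A] P) : ∃ a : Ideal P, a.FG ∧ ∀ (R : Type u) [CommRing R] [Algebra A R] (ψ : P →ₐ[A] R),
      (∀ z ∈ a, ψ z = 0) ↔ ψ.comp ξ = ψ.comp ζ := by
  classical
  obtain ⟨S, hS⟩ := (inferInstance : Algebra.FiniteType A D).out
  refine ⟨Ideal.span ((S.image fun d => ξ d - ζ d : Finset P) : Set P), ⟨_, rfl⟩, fun R _ _ ψ => ?_⟩
  constructor
  · intro h
    refine AlgHom.ext_of_adjoin_eq_top hS fun d hd => ?_
    have h1 := h (ξ d - ζ d) (Ideal.subset_span (by
      rw [Finset.coe_image]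
      exact ⟨d, hd, rfl⟩))
    rw [map_sub] at h1
    exact sub_eq_zero.1 h1
  · intro h
    have h1 : Ideal.span ((S.image fun d => ξ d - ζ d : Finset P) : Set P) ≤ RingHom.ker ψ := by
      rw [Ideal.span_le]
      intro z hz
      rw [Finset.coe_image] at hz
      obtain ⟨d, -, rfl⟩ := hz
      change ψ (ξ d - ζ d) = 0
      rw [map_sub]
      exact sub_eq_zero.2 (DFunLike.congr_fun h d)
    exact fun z hz => h1 hz

variable {G : Over (Spec (CommRingCat.of A))} [GrpObj G] [IsCommMonObj G] [Smooth G.hom] {n : ℕ} (T : Tup A B n)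
  (T' : Tup A B (n + 1))
variable (L₀ : B →ₗ[A] A) (hL : L₀ 1 = 1) (N : UNbhd G) [Algebra.FiniteType A N.D] {c : AFam G B A (n + 1)}
  (hc : IsN c)
  (hz : ∀ (R : Type u) [CommRing R] [Algebra A R] (x : Fin (n + 3) → (B →ₐ[A] R)),
    dS (c R (Algebra.ofId A R)) x = 0)

include T' hL N hc hz in
/-- **Smooth charts.** -/
theorem exists_chart {E₀ : Type u} [CommRing E₀] [Algebra A E₀] [Algebra.FinitePresentation A E₀] (j : pt A E₀ ⟶ G)
    [Smooth j.left] {K : Type u} [Field K] [Algebra A K] (c₀ : E₀ →ₐ[A] K ⊗[A] T.C)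
    (h₀ : IsSol T c (Additive.ofMul (ptMap c₀ ≫ j))) :
    ∃ (O : Type u) (_ : CommRing O) (_ : Algebra A O) (_ : Algebra.Smooth A O) (s : Q G (O ⊗[A] T.C))
      (κ : O →ₐ[A] K), IsSol T c s ∧ qmap G (tm T.C κ) s = Additive.ofMul (ptMap c₀ ≫ j) := by
  obtain ⟨O, _, _, _, π, huniv⟩ := Groth.Agent.Sga3B.Hens.WeilRes.exists_weil A T.C (fun _ : PUnit.{u + 1} => E₀)
  have hex : ∀ {R : Type u} [CommRing R] [Algebra A R] (e : E₀ →ₐ[A] R ⊗[A] T.C),
      ∃ φ : O →ₐ[A] R, (tm T.C φ).comp (π ⟨⟩) = e := by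
    intro R _ _ e
    obtain ⟨φ, hφ, -⟩ := huniv R (fun _ => e)
    exact ⟨φ, hφ ⟨⟩⟩
  have huq : ∀ {R : Type u} [CommRing R] [Algebra A R] (φ ψ : O →ₐ[A] R),
      (tm T.C φ).comp (π ⟨⟩) = (tm T.C ψ).comp (π ⟨⟩) → φ = ψ := by
    intro R _ _ φ ψ h
    obtain ⟨φ', -, h'⟩ := huniv R (fun _ => (tm T.C φ).comp (π ⟨⟩))
    exact (h' φ (fun _ => rfl)).trans (h' ψ (fun _ => h.symm)).symm
  let s : Q G (O ⊗[A] T.C) := Additive.ofMul (ptMap (π ⟨⟩) ≫ j)
  have hs : ∀ {R : Type u} [CommRing R] [Algebra A R] (φ : O →ₐ[A] R),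
      qmap G (tm T.C φ) s = Additive.ofMul (ptMap ((tm T.C φ).comp (π ⟨⟩)) ≫ j) := by
    intro R _ _ φ
    apply Additive.toMul.injective
    rw [toMul_qmap]
    exact ptMap_comp_assoc _ _ _
  let θ : Q G (O ⊗[A] T'.C) := defect T c T' s
  obtain ⟨w, hw⟩ := hex c₀
  have hθw : qmap G (tm T'.C w) θ = 0 := by
    rw [qmap_defect T T' hc, ← isSol_iff T T' hc, hs, hw]
    exact h₀
  obtain ⟨f, hf, ξ, hξ⟩ := exists_loc N.v θ.toMul w (by
    have h1 : ptMap (tm T'.C w) ≫ θ.toMul = (qmap G (tm T'.C w) θ).toMul := rfl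
    rw [h1, hθw, ← N.unit, Over.comp_left]
    rintro _ ⟨p, rfl⟩
    exact ⟨_, rfl⟩)
  let P := Localization.Away f
  let io : O →ₐ[A] P := IsScalarTower.toAlgHom A O P
  obtain ⟨a, ha, haD⟩ := exists_fg ξ ((Algebra.ofId A _).comp N.ε)
  -- the condition for a point of `P`
  have key : ∀ {R : Type u} [CommRing R] [Algebra A R] (φ : P →ₐ[A] R),
      (∀ z ∈ a, tm T'.C φ z = 0) ↔ IsSol T c (qmap G (tm T.C (φ.comp io)) s) := by
    intro R _ _ φ
    rw [haD, isSol_iff T T' hc, ← qmap_defect T T' hc]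
    have e1 : (qmap G (tm T'.C (φ.comp io)) (defect T c T' s)).toMul = ptMap ((tm T'.C φ).comp ξ) ≫ N.v := by
      rw [toMul_qmap, ← tm_comp, ← ptMap_comp, ← ptMap_comp, Category.assoc, Category.assoc, hξ]
    have e2 : (tm T'.C φ).comp ((Algebra.ofId A _).comp N.ε) = (Algebra.ofId A _).comp N.ε := by
      rw [← AlgHom.comp_assoc]
      congr 1
      ext
    rw [e2]
    constructor
    · intro h
      apply Additive.toMul.injective
      rw [e1, h, N.unit]
    · intro h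
      apply coord_unique N.v
      rw [← e1, h, N.unit]
  obtain ⟨b, hb, hbP⟩ := Groth.Agent.Sga3B.Hens.WeilRes.exists_ideal A T'.C P a ha
  let q : P →ₐ[A] P ⧸ b := Ideal.Quotient.mkₐ A b
  have hfp : Algebra.FinitePresentation A P := by
    have : Algebra.FinitePresentation O P := IsLocalization.Away.finitePresentation f
    exact Algebra.FinitePresentation.trans A O P
  -- the point of `K`
  obtain ⟨w₁, hw₁⟩ := exists_loc_lift f w (IsUnit.mk0 _ hf)
  have hw₂ : ∀ z ∈ b, w₁ z = 0 := by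
    rw [← hbP, key]
    change IsSol T c (qmap G (tm T.C (w₁.comp (IsScalarTower.toAlgHom A O (Localization.Away f)))) s)
    rw [hw₁, hs, hw]
    exact h₀
  refine ⟨P ⧸ b, inferInstance, inferInstance, ?_, qmap G (tm T.C (q.comp io)) s, Ideal.Quotient.liftₐ b w₁ hw₂, ?_, ?_⟩
  · refine ⟨?_, Algebra.FinitePresentation.quotient hb⟩
    refine Algebra.FormallySmooth.of_comp_surjective fun R _ _ I hI φ₀ => ?_
    have hs₀ : IsSol T c (qmap G (tm T.C ((φ₀.comp q).comp io)) s) := by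
      rw [← key, hbP]
      intro z hz
      rw [AlgHom.comp_apply]
      have : q z = 0 := Ideal.Quotient.eq_zero_iff_mem.2 hz
      rw [this, map_zero]
    obtain ⟨s₁, hs₁, hsol⟩ := exists_sol_lift T L₀ hL N hc hz I hI _ hs₀
    obtain ⟨c₁, hc₁, hc₂⟩ := exists_chart_lift j (tm T.C (Ideal.Quotient.mkₐ A I)) (tm_mk_surjective I)
      (tm_mk_ker I hI) s₁ ((tm T.C ((φ₀.comp q).comp io)).comp (π ⟨⟩)) (by
        rw [← hs, hs₁])
    obtain ⟨φ, hφ⟩ := hex c₁
    have hφ0 : (Ideal.Quotient.mkₐ A I).comp φ = (φ₀.comp q).comp io := by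
      apply huq
      rw [← hc₁, ← hφ, ← AlgHom.comp_assoc, tm_comp]
    have hu : IsUnit (φ f) := by
      rw [← IsNilpotent.isUnit_quotient_mk_iff (I := I) ⟨2, hI⟩]
      have h1 := DFunLike.congr_fun hφ0 f
      change Ideal.Quotient.mk I (φ f) = _ at h1
      rw [h1]
      exact (IsLocalization.Away.algebraMap_isUnit f).map (φ₀.comp q)
    obtain ⟨φ₁, hφ₁⟩ := exists_loc_lift f φ hu
    have hφ₂ : ∀ z ∈ b, φ₁ z = 0 := by
      rw [← hbP, key]
      change IsSol T c (qmap G (tm T.C (φ₁.comp (IsScalarTower.toAlgHom A O (Localization.Away f)))) s)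
      rw [hφ₁, hs, hφ, hc₂]
      exact hsol
    refine ⟨Ideal.Quotient.liftₐ b φ₁ hφ₂, ?_⟩
    have h2 : (Ideal.Quotient.mkₐ A I).comp φ₁ = φ₀.comp q := by
      apply loc_hom_ext
      rw [AlgHom.comp_assoc, hφ₁, hφ0]
    ext z
    obtain ⟨z, rfl⟩ := Ideal.Quotient.mk_surjective z
    exact DFunLike.congr_fun h2 z
  · rw [← key, hbP]
    intro z hz
    exact Ideal.Quotient.eq_zero_iff_mem.2 hz
  · rw [qmap_qmap, tm_comp]
    have h1 : (Ideal.Quotient.liftₐ b w₁ hw₂).comp (q.comp io) = w := by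
      rw [← hw₁]
      ext z
      rfl
    rw [h1, hs, hw]

end K731.SmAlg
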