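import Groth.Agent.CGrpSh.K731.SmAlg

/-!
# Čech cocycles with values in an infinitesimal kernel are coboundaries
-/

set_option autoImplicit false
universe u

open CategoryTheory MonoidalCategory CartesianMonoidalCategory MonObj GrpObj AlgebraicGeometry Limits
open scoped TensorProduct
open Groth.Agent.Sga3B.InfConj Groth.Agent.Etrest.FppfCoch

noncomputable section

namespace K731.SmAlg

variable {A : Type u} [CommRing A] {B : Type u} [CommRing B] [Algebra A B] (L₀ : B →ₗ[A] A) (hL : L₀ 1 = 1)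

section base

variable (R : Type u) [CommRing R] [Algebra A R]

/-- The base change of `L₀`. -/
def bcL : R ⊗[A] B →ₗ[R] R :=
  (TensorProduct.AlgebraTensorModule.rid A R R).toLinearMap ∘ₗ (L₀.baseChange R)

theorem bcL_tmul (r : R) (b : B) : bcL L₀ R (r ⊗ₜ b) = L₀ b • r := by
  simp [bcL]

include hL in
theorem bcL_one : bcL L₀ R 1 = 1 := by
  rw [Algebra.TensorProduct.one_def, bcL_tmul, hL, one_smul]

/-- The extension of an ideal. -/
abbrev extI (A : Type u) [CommRing A] (B : Type u) [CommRing B] [Algebra A B] {R : Type u} [CommRing R] [Algebra A R] (I : Ideal R) :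
    Ideal (R ⊗[A] B) := I.map (algebraMap R (R ⊗[A] B))

variable {R}

theorem extI_mul {I : Ideal R} (hI : I * I = ⊥) : extI A B I * extI A B I = ⊥ := by
  rw [extI, ← Ideal.map_mul, hI, Ideal.map_bot]

theorem bcL_mem (I : Ideal R) (j : R ⊗[A] B) (hj : j ∈ extI A B I) : bcL L₀ R j ∈ I := by
  have hj' : j ∈ (I • ⊤ : Submodule R (R ⊗[A] B)) := by
    rw [Ideal.smul_top_eq_map]; exact hj
  refine Submodule.smul_induction_on hj' ?_ ?_
  · intro r hr n _
    rw [map_smul]
    exact I.mul_mem_right _ hr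
  · intro x y hx hy
    rw [map_add]; exact I.add_mem hx hy

variable {R' : Type u} [CommRing R'] [Algebra A R']

theorem bcL_map (φ : R →ₐ[A] R') (e : R ⊗[A] B) :
    bcL L₀ R' (Algebra.TensorProduct.map φ (AlgHom.id A B) e) = φ (bcL L₀ R e) := by
  induction e using TensorProduct.induction_on with
  | zero => simp
  | add x y hx hy => rw [map_add, map_add, hx, hy, map_add, map_add]
  | tmul r b => rw [Algebra.TensorProduct.map_tmul, bcL_tmul, bcL_tmul, map_smul]; rfl

end base

section coch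

variable (G : Over (Spec (CommRingCat.of A))) [GrpObj G] [IsCommMonObj G]

/-- Families of points. -/
abbrev AFam (B : Type u) [CommRing B] [Algebra A B] (R₀ : Type u) [CommRing R₀] [Algebra A R₀] (n : ℕ) :
    Type (u + 1) :=
  ∀ (R : Type u) [CommRing R] [Algebra A R] (_ : R₀ →ₐ[A] R) (_ : Fin (n + 1) → (B →ₐ[A] R)), Q G R

variable {G} {R₀ : Type u} [CommRing R₀] [Algebra A R₀]

/-- Naturality. -/
def IsN {n : ℕ} (c : AFam G B R₀ n) : Prop :=
  ∀ (R R' : Type u) [CommRing R] [CommRing R'] [Algebra A R] [Algebra A R'] (f : R →ₐ[A] R') (a : R₀ →ₐ[A] R)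
    (x : Fin (n + 1) → (B →ₐ[A] R)), qmap G f (c R a x) = c R' (f.comp a) (fun i => f.comp (x i))

theorem IsN.d {n : ℕ} {c : AFam G B R₀ n} (hc : IsN c) (R R' : Type u) [CommRing R] [CommRing R'] [Algebra A R]
    [Algebra A R'] (f : R →ₐ[A] R') (a : R₀ →ₐ[A] R) (x : Fin (n + 2) → (B →ₐ[A] R)) :
    qmap G f (dS (c R a) x) = dS (c R' (f.comp a)) (fun i => f.comp (x i)) := by
  refine (map_dS (qmap G f) (c R a) x).trans ?_
  exact (dS_congr fun i => hc R R' f a _).trans
    (dS_comp (fun g : B →ₐ[A] R => f.comp g) (c R' (f.comp a)) x).symm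

/-- the first inclusion -/
abbrev incl₁ (B : Type u) [CommRing B] [Algebra A B] (R : Type u) [CommRing R] [Algebra A R] :
    R →ₐ[A] R ⊗[A] B := Algebra.TensorProduct.includeLeft

/-- the second inclusion -/
abbrev incl₂ (B : Type u) [CommRing B] [Algebra A B] (R : Type u) [CommRing R] [Algebra A R] :
    B →ₐ[A] R ⊗[A] B := Algebra.TensorProduct.includeRight

/-- the tuple `(t, x₀, …, xₙ)` -/
abbrev tup {n : ℕ} {R : Type u} [CommRing R] [Algebra A R] (x : Fin n → (B →ₐ[A] R)) :
    Fin (n + 1) → (B →ₐ[A] R ⊗[A] B) := Fin.cons (incl₂ B R) (fun i => (incl₁ B R).comp (x i))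

variable (N : UNbhd G) (I : Ideal R₀) (hI : I * I = ⊥)

include hI in
omit [Algebra A R₀] in
theorem map_sq {R : Type u} [CommRing R] (a : R₀ →+* R) : I.map a * I.map a = ⊥ := by
  rw [← Ideal.map_mul, hI, Ideal.map_bot]

/-- averaging over the first coordinate -/
def av {R : Type u} [CommRing R] [Algebra A R] (a : R₀ →ₐ[A] R) : qker G (extI A B (I.map a.toRingHom)) →+ Q G R :=
  avg N (map_sq I hI a.toRingHom) (extI_mul (map_sq I hI a.toRingHom)) (bcL_one L₀ hL R)
    (bcL_mem L₀ (I.map a.toRingHom))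

variable {n : ℕ} {r : AFam G B R₀ (n + 1)} (hr : IsN r)
  (h0 : ∀ (R : Type u) [CommRing R] [Algebra A R] (a : R₀ →ₐ[A] R) (x : Fin (n + 2) → (B →ₐ[A] R)),
    (∀ i ∈ I, a i = 0) → r R a x = 0)

include hr h0 in
theorem mem_qker {R : Type u} [CommRing R] [Algebra A R] (a : R₀ →ₐ[A] R) (x : Fin (n + 1) → (B →ₐ[A] R)) :
    r _ ((incl₁ B R).comp a) (tup x) ∈ qker G (extI A B (I.map a.toRingHom)) := by
  rw [AddMonoidHom.mem_ker, hr]
  apply h0
  intro i hi
  exact Ideal.Quotient.eq_zero_iff_mem.2 (Ideal.mem_map_of_mem _ (Ideal.mem_map_of_mem _ hi))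

include hr h0 in
theorem mem_qker' {R : Type u} [CommRing R] [Algebra A R] (a : R₀ →ₐ[A] R) (x : Fin (n + 2) → (B →ₐ[A] R)) :
    r R a x ∈ qker G (I.map a.toRingHom) := by
  rw [AddMonoidHom.mem_ker, hr]
  apply h0
  intro i hi
  exact Ideal.Quotient.eq_zero_iff_mem.2 (Ideal.mem_map_of_mem _ hi)

include L₀ hL N hI hr h0 in
/-- Cocycles which vanish modulo a square-zero ideal are coboundaries of cochains which vanish modulo this ideal. -/
theorem exists_correct
    (hz : ∀ (R : Type u) [CommRing R] [Algebra A R] (a : R₀ →ₐ[A] R) (x : Fin (n + 3) → (B →ₐ[A] R)),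
      dS (r R a) x = 0) :
    ∃ b : AFam G B R₀ n, IsN b ∧
      (∀ (R : Type u) [CommRing R] [Algebra A R] (a : R₀ →ₐ[A] R) (x : Fin (n + 2) → (B →ₐ[A] R)),
        dS (b R a) x = r R a x) ∧
      ∀ (R : Type u) [CommRing R] [Algebra A R] (a : R₀ →ₐ[A] R) (x : Fin (n + 1) → (B →ₐ[A] R)),
        (∀ i ∈ I, a i = 0) → b R a x = 0 := by
  refine ⟨fun R _ _ a x => av L₀ hL N I hI a ⟨_, mem_qker I hr h0 a x⟩, ?_, ?_, ?_⟩
  · intro R R' _ _ _ _ f a x
    symm
    refine avg_naturality N _ _ _ _ _ _ _ _ f (Algebra.TensorProduct.map f (AlgHom.id A B)) (bcL_map L₀ f) _ _ ?_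
    change r _ ((incl₁ B R').comp (f.comp a)) (tup fun i => f.comp (x i)) =
      qmap G (Algebra.TensorProduct.map f (AlgHom.id A B)) (r _ ((incl₁ B R).comp a) (tup x))
    rw [hr]
    have hA : (incl₁ B R').comp (f.comp a) =
        (Algebra.TensorProduct.map f (AlgHom.id A B)).comp ((incl₁ B R).comp a) := by
      ext z
      change (f (a z)) ⊗ₜ[A] (1 : B) = Algebra.TensorProduct.map f (AlgHom.id A B) ((a z) ⊗ₜ 1)
      rw [Algebra.TensorProduct.map_tmul]
      rfl
    have hX : (tup fun i => f.comp (x i)) =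
        fun i => (Algebra.TensorProduct.map f (AlgHom.id A B)).comp (tup x i) := by
      funext i
      refine Fin.cases ?_ (fun k => ?_) i
      · simp only [Fin.cons_zero]
        ext z
        change (1 : R') ⊗ₜ[A] z = Algebra.TensorProduct.map f (AlgHom.id A B) (1 ⊗ₜ z)
        rw [Algebra.TensorProduct.map_tmul, map_one]
        rfl
      · simp only [Fin.cons_succ]
        ext z
        change (f (x k z)) ⊗ₜ[A] (1 : B) = Algebra.TensorProduct.map f (AlgHom.id A B) ((x k z) ⊗ₜ 1)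
        rw [Algebra.TensorProduct.map_tmul]
        rfl
    rw [hA, hX]
  · intro R _ _ a x
    have hm : ∀ y : Fin (n + 1) → (B →ₐ[A] R),
        r _ ((incl₁ B R).comp a) (tup y) ∈ qker G (extI A B (I.map a.toRingHom)) := fun y => mem_qker I hr h0 a y
    have e1 : dS (fun y => av L₀ hL N I hI a ⟨_, hm y⟩) x =
        av L₀ hL N I hI a (dS (fun y => (⟨_, hm y⟩ : qker G (extI A B (I.map a.toRingHom)))) x) :=
      (map_dS _ _ _).symm
    refine e1.trans ?_
    refine avg_incl N _ _ _ _ (r R a x) ?_ _ ?_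
    · exact mem_qker' I hr h0 a x
    · have e2 : (dS (fun y => (⟨_, hm y⟩ : qker G (extI A B (I.map a.toRingHom)))) x).1 =
          dS (fun y => r _ ((incl₁ B R).comp a) (tup y)) x :=
        map_dS (qker G (extI A B (I.map a.toRingHom))).subtype _ _
      refine e2.trans ?_
      have e3 := dS_cons (r _ ((incl₁ B R).comp a)) (incl₂ B R) (fun i => (incl₁ B R).comp (x i))
      rw [hz] at e3
      have e4 : dS (fun y => r _ ((incl₁ B R).comp a) (tup y)) x =
          dS (fun y => r _ ((incl₁ B R).comp a) (Fin.cons (incl₂ B R) y : Fin (n + 2) → (B →ₐ[A] R ⊗[A] B)))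
            (fun i => (incl₁ B R).comp (x i)) := rfl
      rw [e4, ← sub_eq_zero.1 e3.symm]
      exact (hr R _ (incl₁ B R) a x).symm
  · intro R _ _ a x ha
    have e1 : (⟨_, mem_qker I hr h0 a x⟩ : qker G (extI A B (I.map a.toRingHom))) = 0 := by
      apply Subtype.ext
      apply h0
      intro i hi
      rw [AlgHom.comp_apply, ha i hi, map_zero]
    exact (congrArg (av L₀ hL N I hI a) e1).trans (map_zero _)

end coch

end K731.SmAlg
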