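import Groth.Agent.CGrpSh.K731.SmPt

/-!
# Affine neighbourhoods of the unit section, locally on the base
-/

set_option autoImplicit false
universe u

open CategoryTheory MonoidalCategory CartesianMonoidalCategory MonObj GrpObj AlgebraicGeometry Limits
open scoped TensorProduct
open Groth.Agent.Sga3B.InfConj Groth.Agent.Sga3B.DSPts

noncomputable section

namespace K731.SmAlg

section

variable {X : Scheme.{u}} (G : Over X) [GrpObj G]

theorem one_left (T : Over X) : (1 : T ⟶ G).left = T.hom ≫ η[G].left := by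
  rw [Hom.one_def]
  rfl

theorem one_bc_left_fst {S : Scheme.{u}} (s : S ⟶ X) (T : Over S) :
    (1 : T ⟶ Red.bc s G).left ≫ pullback.fst G.hom s = T.hom ≫ s ≫ η[G].left := by
  have h1 : bcEquiv s T G 1 = 1 := map_one _
  rw [← h1, bcEquiv_fst, one_left]
  exact Category.assoc _ _ _

end

variable {A : Type u} [CommRing A]

theorem finiteType_of_pt {G : Over (Spec (CommRingCat.of A))} [LocallyOfFiniteType G.hom] {E : Type u}
    [CommRing E] [Algebra A E] (j : pt A E ⟶ G) [LocallyOfFiniteType j.left] :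
    Algebra.FiniteType A E := by
  have h1 : LocallyOfFiniteType (Spec.map (CommRingCat.ofHom (algebraMap A E))) := by
    have h2 : j.left ≫ G.hom = Spec.map (CommRingCat.ofHom (algebraMap A E)) := Over.w j
    rw [← h2]
    infer_instance
  rw [HasRingHomProperty.Spec_iff (P := @LocallyOfFiniteType)] at h1
  exact RingHom.finiteType_algebraMap.1 h1

theorem exists_unbhd_of_affine (G : Over (Spec (CommRingCat.of A))) [GrpObj G] [IsCommMonObj G]
    [LocallyOfFiniteType G.hom] (W : G.left.Opens) (hW : IsAffineOpen W)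
    (h : Set.range η[G].left ⊆ W) : ∃ N : UNbhd G, Algebra.FiniteType A N.D := by
  have : IsAffine (W : Scheme.{u}) := hW
  obtain ⟨D, _, _, e, v, hv⟩ := exists_ptChart G W.ι
  have hvo : IsOpenImmersion v.left := by
    rw [hv]
    infer_instance
  obtain ⟨ε, hε⟩ := exists_coord_of_range v (1 : pt A A ⟶ G) (by
    rw [one_left, hv]
    rintro _ ⟨p, rfl⟩
    rw [Scheme.Hom.comp_apply]
    have h1 : η[G].left ((pt A A).hom p) ∈ Set.range W.ι := by
      rw [Scheme.Opens.range_ι]
      exact h ⟨_, rfl⟩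
    obtain ⟨q, hq⟩ := h1
    refine ⟨e.inv q, ?_⟩
    rw [← Scheme.Hom.comp_apply, e.inv_hom_id_assoc, hq])
  exact ⟨⟨D, v, hvo, ε, hε⟩, finiteType_of_pt v⟩

theorem exists_unbhd {X : Scheme.{u}} (G : Over X) [GrpObj G] [IsCommMonObj G] [Smooth G.hom]
    (s : Spec (CommRingCat.of A) ⟶ X) (z : Spec (CommRingCat.of A)) :
    ∃ f : A, f ∉ z.asIdeal ∧ ∀ (A' : Type u) [CommRing A'] [Algebra A A'] (_ : IsUnit (algebraMap A A' f))
      (s' : Spec (CommRingCat.of A') ⟶ X) (_ : s' = Spec.map (CommRingCat.ofHom (algebraMap A A')) ≫ s),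
      ∃ N : UNbhd (Red.bc s' G), Algebra.FiniteType A' N.D := by
  obtain ⟨W, hW, hzW, -⟩ := exists_isAffineOpen_mem_and_subset (x := η[Red.bc s G].left z)
    (U := (⊤ : (Red.bc s G).left.Opens)) trivial
  obtain ⟨_, ⟨f, rfl⟩, hf, hfW⟩ := PrimeSpectrum.isTopologicalBasis_basic_opens.exists_subset_of_mem_open
    (show z ∈ (η[Red.bc s G].left ⁻¹' W : Set _) from hzW) (W.2.preimage η[Red.bc s G].left.continuous)
  refine ⟨f, hf, fun A' _ _ hu s' hs' => ?_⟩
  subst hs'
  let h : Spec (CommRingCat.of A') ⟶ Spec (CommRingCat.of A) := Spec.map (CommRingCat.ofHom (algebraMap A A'))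
  let k : (Red.bc (h ≫ s) G).left ⟶ (Red.bc s G).left :=
    pullback.lift (pullback.fst G.hom (h ≫ s)) (pullback.snd G.hom (h ≫ s) ≫ h) (by
      rw [pullback.condition, Category.assoc])
  have hk : IsPullback k (pullback.snd G.hom (h ≫ s)) (pullback.snd G.hom s) h := by
    refine IsPullback.of_right (h₁₂ := pullback.fst G.hom s) (v₁₃ := G.hom) (h₂₂ := s) ?_ ?_
      (IsPullback.of_hasPullback G.hom s)
    · rw [pullback.lift_fst]
      exact IsPullback.of_hasPullback G.hom (h ≫ s)
    · exact pullback.lift_snd _ _ _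
  have hka : IsAffineHom k := MorphismProperty.of_isPullback (P := @IsAffineHom) hk.flip inferInstance
  have hlft : LocallyOfFiniteType (Red.bc (h ≫ s) G).hom :=
    inferInstanceAs (LocallyOfFiniteType (pullback.snd G.hom (h ≫ s)))
  refine exists_unbhd_of_affine (Red.bc (h ≫ s) G) (k ⁻¹ᵁ W) (hW.preimage k) ?_
  rintro _ ⟨p, rfl⟩
  change k (η[Red.bc (h ≫ s) G].left p) ∈ W
  have e1 : (𝟙_ (Over (Spec (CommRingCat.of A')))).hom ≫ η[Red.bc (h ≫ s) G].left = η[Red.bc (h ≫ s) G].left := by
    exact Category.id_comp _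
  have e2 : (𝟙_ (Over (Spec (CommRingCat.of A)))).hom ≫ η[Red.bc s G].left = η[Red.bc s G].left := by
    exact Category.id_comp _
  have h1 : η[Red.bc (h ≫ s) G].left ≫ k = h ≫ η[Red.bc s G].left := by
    refine pullback.hom_ext ?_ ?_
    · have h2 := one_bc_left_fst G (h ≫ s) (𝟙_ (Over (Spec (CommRingCat.of A'))))
      have h3 := one_bc_left_fst G s (𝟙_ (Over (Spec (CommRingCat.of A))))
      rw [one_left, e1] at h2
      rw [one_left, e2] at h3
      rw [Category.assoc, pullback.lift_fst, Category.assoc]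
      refine h2.trans ?_
      refine Eq.trans ?_ (congrArg (fun t => h ≫ t) h3).symm
      change 𝟙 _ ≫ _ = h ≫ 𝟙 _ ≫ _
      rw [Category.id_comp, Category.id_comp, Category.assoc]
    · rw [Category.assoc, pullback.lift_snd, Category.assoc]
      have h2 : η[Red.bc (h ≫ s) G].left ≫ pullback.snd G.hom (h ≫ s) = 𝟙 _ := Over.w η[Red.bc (h ≫ s) G]
      have h3 : η[Red.bc s G].left ≫ pullback.snd G.hom s = 𝟙 _ := Over.w η[Red.bc s G]
      rw [h3, ← Category.assoc, h2]
      exact (Category.id_comp _).trans (Category.comp_id _).symm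
  rw [← Scheme.Hom.comp_apply, h1]
  refine @hfW (h p) ?_
  change f ∉ Ideal.comap _ p.asIdeal
  rw [Ideal.mem_comap]
  exact fun h5 => p.2.ne_top (Ideal.eq_top_of_isUnit_mem _ h5 hu)

end K731.SmAlg
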