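import Groth.Agent.CGrpSh.K731.SmChart2
import Groth.Agent.CGrpSh.K731.SmUnit
import Groth.Prelude.Def_CGrpSh

/-!
# Čech cochains on schemes and on algebras
-/

set_option autoImplicit false
universe u

open CategoryTheory MonoidalCategory CartesianMonoidalCategory MonObj GrpObj AlgebraicGeometry Limits Opposite
open scoped TensorProduct
open Groth.Agent.Sga3B.InfConj Groth.Agent.Sga3B.DSPts Groth.Agent.Etrest.FppfCoch

noncomputable section

namespace K731.SmAlg

variable {X : Scheme.{u}} {T' T U : Over X} (p : T' ⟶ T) (e : U ⟶ T)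

/-- An affine scheme over `U` together with an affine base change of `p`. -/
structure Dat where
  /-- the base ring -/
  A : Type u
  [ringA : CommRing A]
  /-- the ring of the base change of `p` -/
  B : Type u
  [ringB : CommRing B]
  [algB : Algebra A B]
  /-- the morphism to `U` -/
  s : Spec (CommRingCat.of A) ⟶ U.left
  /-- the morphism to `T'` -/
  t : Spec (CommRingCat.of B) ⟶ T'.left
  pb : IsPullback t (Spec.map (CommRingCat.ofHom (algebraMap A B))) p.left (s ≫ e.left)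

attribute [instance] Dat.ringA Dat.ringB Dat.algB

variable {p e} (D : Dat p e) (G : Over X) [GrpObj G] [IsCommMonObj G]

namespace Dat

/-- the structure morphism -/
abbrev sX : Spec (CommRingCat.of D.A) ⟶ X := D.s ≫ U.hom

/-- the base change of the group -/
abbrev GA : Over (Spec (CommRingCat.of D.A)) := Red.bc D.sX G

variable (R : Type u) [CommRing R] [Algebra D.A R] {R' : Type u} [CommRing R'] [Algebra D.A R']

/-- the spectrum of an algebra over `X` -/
abbrev ob : Over X := (Over.map D.sX).obj (pt D.A R)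

variable {R} in
/-- functoriality -/
abbrev obMap (φ : R →ₐ[D.A] R') : D.ob R' ⟶ D.ob R := (Over.map D.sX).map (ptMap φ)

/-- the morphism to `U` -/
def toU : D.ob R ⟶ U := Over.homMk (Spec.map (CommRingCat.ofHom (algebraMap D.A R)) ≫ D.s) (Category.assoc _ _ _)

variable {R} in
/-- the morphism to `T'` given by a homomorphism from `B` -/
def toT' (x : D.B →ₐ[D.A] R) : D.ob R ⟶ T' :=
  Over.homMk (Spec.map (CommRingCat.ofHom x.toRingHom) ≫ D.t) (by
    have h1 : D.t ≫ T'.hom = Spec.map (CommRingCat.ofHom (algebraMap D.A D.B)) ≫ D.sX := by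
      rw [← Over.w p, ← Category.assoc, D.pb.w, Category.assoc, Category.assoc, Over.w]
    have h2 : (Spec.map (CommRingCat.ofHom x.toRingHom) ≫ Spec.map (CommRingCat.ofHom (algebraMap D.A D.B))) =
        Spec.map (CommRingCat.ofHom (algebraMap D.A R)) := by
      rw [← Spec.map_comp, ← CommRingCat.ofHom_comp]
      congr 2
      exact x.comp_algebraMap
    rw [Category.assoc, h1, ← Category.assoc, h2]
    rfl)

theorem obMap_comp {R'' : Type u} [CommRing R''] [Algebra D.A R''] (φ : R →ₐ[D.A] R') (ψ : R' →ₐ[D.A] R'') :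
    D.obMap ψ ≫ D.obMap φ = D.obMap (ψ.comp φ) := by
  rw [← (Over.map D.sX).map_comp, ptMap_comp]

theorem obMap_left (φ : R →ₐ[D.A] R') : (D.obMap φ).left = Spec.map (CommRingCat.ofHom φ.toRingHom) := rfl

theorem obMap_toU (φ : R →ₐ[D.A] R') : D.obMap φ ≫ D.toU R = D.toU R' := by
  ext1
  rw [Over.comp_left, obMap_left]
  change Spec.map _ ≫ Spec.map _ ≫ D.s = Spec.map _ ≫ D.s
  rw [← Category.assoc, ← Spec.map_comp, ← CommRingCat.ofHom_comp]
  congr 3
  exact φ.comp_algebraMap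

theorem obMap_toT' (φ : R →ₐ[D.A] R') (x : D.B →ₐ[D.A] R) : D.obMap φ ≫ D.toT' x = D.toT' (φ.comp x) := by
  ext1
  rw [Over.comp_left, obMap_left]
  change Spec.map _ ≫ Spec.map _ ≫ D.t = Spec.map _ ≫ D.t
  rw [← Category.assoc, ← Spec.map_comp, ← CommRingCat.ofHom_comp]
  rfl

theorem toT'_p (x : D.B →ₐ[D.A] R) : D.toT' x ≫ p = D.toU R ≫ e := by
  ext1
  rw [Over.comp_left, Over.comp_left]
  change (Spec.map _ ≫ D.t) ≫ p.left = (Spec.map _ ≫ D.s) ≫ e.left
  rw [Category.assoc, D.pb.w, ← Category.assoc, ← Spec.map_comp, ← CommRingCat.ofHom_comp, Category.assoc]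
  congr 3
  exact x.comp_algebraMap

variable {G} {R} in
/-- points of `G` and of its base change -/
def toQ : (CGrpSh.ptsPre G).obj (op (D.ob R)) →+ Q (D.GA G) R where
  toFun z := Additive.ofMul (bcEquiv D.sX (pt D.A R) G z.down.toMul)
  map_zero' := congrArg Additive.ofMul ((bcEquiv D.sX (pt D.A R) G).map_one)
  map_add' _ _ := congrArg Additive.ofMul ((bcEquiv D.sX (pt D.A R) G).map_mul _ _)

variable {G} {R} in
/-- points of `G` and of its base change -/
def ofQ : Q (D.GA G) R →+ (CGrpSh.ptsPre G).obj (op (D.ob R)) where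
  toFun z := ULift.up (Additive.ofMul ((bcEquiv D.sX (pt D.A R) G).symm z.toMul))
  map_zero' := by
    apply ULift.ext
    exact congrArg Additive.ofMul ((bcEquiv D.sX (pt D.A R) G).symm.map_one)
  map_add' _ _ := by
    apply ULift.ext
    exact congrArg Additive.ofMul ((bcEquiv D.sX (pt D.A R) G).symm.map_mul _ _)

variable {G} {R} in
theorem ofQ_toQ (z : (CGrpSh.ptsPre G).obj (op (D.ob R))) : D.ofQ (D.toQ z) = z := by
  apply ULift.ext
  exact congrArg Additive.ofMul ((bcEquiv D.sX (pt D.A R) G).symm_apply_apply _)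

variable {G} {R} in
theorem toQ_ofQ (z : Q (D.GA G) R) : D.toQ (D.ofQ z) = z :=
  congrArg Additive.ofMul ((bcEquiv D.sX (pt D.A R) G).apply_symm_apply _)

variable {G} {R} in
theorem toQ_map (φ : R →ₐ[D.A] R') (z : (CGrpSh.ptsPre G).obj (op (D.ob R))) :
    D.toQ ((CGrpSh.ptsPre G).map (D.obMap φ).op z) = qmap (D.GA G) φ (D.toQ z) := by
  apply Additive.toMul.injective
  rw [toMul_qmap]
  exact (bcEquiv_naturality D.sX G (ptMap φ) z.down.toMul).symm

variable {G} {R} in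
theorem ofQ_map (φ : R →ₐ[D.A] R') (z : Q (D.GA G) R) :
    D.ofQ (qmap (D.GA G) φ z) = (CGrpSh.ptsPre G).map (D.obMap φ).op (D.ofQ z) := by
  rw [← D.ofQ_toQ ((CGrpSh.ptsPre G).map (D.obMap φ).op (D.ofQ z)), toQ_map, toQ_ofQ]

section toAlg

variable {G} {R₀ : Type u} [CommRing R₀] [Algebra D.A R₀] {m : ℕ}

/-- The algebraic family of a family. -/
def toAlg (c : Fam (CGrpSh.ptsPre G) (D.ob R₀) T' m) : AFam (D.GA G) D.B R₀ m :=
  fun R _ _ a x => D.toQ (c (D.ob R) (D.obMap a) (fun i => D.toT' (x i)))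

theorem compat_toT' {R : Type u} [CommRing R] [Algebra D.A R] (a : R₀ →ₐ[D.A] R) {m : ℕ}
    (x : Fin m → (D.B →ₐ[D.A] R)) :
    Compat p (D.toU R₀ ≫ e) (D.obMap a) (fun i => D.toT' (x i)) := by
  intro i
  rw [← Category.assoc, obMap_toU, toT'_p]

theorem isN_toAlg {c : Fam (CGrpSh.ptsPre G) (D.ob R₀) T' m} (hc : IsCoch p (D.toU R₀ ≫ e) c) :
    IsN (D.toAlg c) := by
  intro R R' _ _ _ _ f a x
  rw [toAlg, ← toQ_map, hc (D.obMap f) _ _ (D.compat_toT' a x), obMap_comp]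
  simp only [obMap_toT']
  rfl

theorem dS_toAlg (c : Fam (CGrpSh.ptsPre G) (D.ob R₀) T' m) (R : Type u) [CommRing R] [Algebra D.A R]
    (a : R₀ →ₐ[D.A] R) (x : Fin (m + 2) → (D.B →ₐ[D.A] R)) :
    dS (D.toAlg c R a) x = D.toQ (dS (c (D.ob R) (D.obMap a)) (fun i => D.toT' (x i))) := by
  rw [map_dS (B := Q (D.GA G) R) D.toQ]
  exact Finset.sum_congr rfl fun i _ => rfl

theorem isCocycle_toAlg {c : Fam (CGrpSh.ptsPre G) (D.ob R₀) T' m} (hc : IsCocycle p (D.toU R₀ ≫ e) c)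
    (R : Type u) [CommRing R] [Algebra D.A R]
    (a : R₀ →ₐ[D.A] R) (x : Fin (m + 2) → (D.B →ₐ[D.A] R)) : dS (D.toAlg c R a) x = 0 := by
  rw [dS_toAlg, hc _ _ (D.compat_toT' a x), map_zero]

end toAlg

section fromAlg

variable {G} {R₀ : Type u} [CommRing R₀] [Algebra D.A R₀] {m : ℕ}

/-- The chosen affinization. -/
def aff {W : Over X} (a : W ⟶ D.ob R₀) : Aff (a.left ≫ Spec.map (CommRingCat.ofHom (algebraMap D.A R₀))) :=
  Classical.choice (nonempty_aff _)

/-- The canonical morphism to the affinization. -/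
def affπ {W : Over X} (a : W ⟶ D.ob R₀) : W ⟶ D.ob (D.aff a).R :=
  Over.homMk (D.aff a).π (by
    change (D.aff a).π ≫ Spec.map _ ≫ D.sX = _
    rw [← Category.assoc, (D.aff a).hπ, Category.assoc]
    exact Over.w a)

theorem exists_aff_hom {W : Over X} (a : W ⟶ D.ob R₀) {R' : Type u} [CommRing R'] [Algebra D.A R']
    (π' : W ⟶ D.ob R') (h : π'.left ≫ Spec.map (CommRingCat.ofHom (algebraMap D.A R')) =
      a.left ≫ Spec.map (CommRingCat.ofHom (algebraMap D.A R₀))) :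
    ∃ φ : R' →ₐ[D.A] (D.aff a).R, D.affπ a ≫ D.obMap φ = π' := by
  refine ⟨(D.aff a).fac π'.left h, ?_⟩
  ext1
  exact (D.aff a).π_fac π'.left h

theorem aff_hom_ext {W : Over X} (a : W ⟶ D.ob R₀) {R' : Type u} [CommRing R'] [Algebra D.A R']
    (φ ψ : R' →ₐ[D.A] (D.aff a).R) (h : D.affπ a ≫ D.obMap φ = D.affπ a ≫ D.obMap ψ) : φ = ψ := by
  apply (D.aff a).hom_ext
  exact congrArg (fun k => k.left) h

theorem toT'_ext {W : Over X} {R : Type u} [CommRing R] [Algebra D.A R] (π' : W ⟶ D.ob R)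
    (x x' : D.B →ₐ[D.A] R) (h : π' ≫ D.toT' x = π' ≫ D.toT' x') :
    π'.left ≫ Spec.map (CommRingCat.ofHom x.toRingHom) = π'.left ≫ Spec.map (CommRingCat.ofHom x'.toRingHom) := by
  apply D.pb.hom_ext
  · have := congrArg (fun k => k.left) h
    rw [Category.assoc, Category.assoc]
    exact this
  · rw [Category.assoc, Category.assoc, ← Spec.map_comp, ← Spec.map_comp, ← CommRingCat.ofHom_comp,
      ← CommRingCat.ofHom_comp]
    have h1 : x.toRingHom.comp (algebraMap D.A D.B) = algebraMap D.A R := x.comp_algebraMap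
    have h2 : x'.toRingHom.comp (algebraMap D.A D.B) = algebraMap D.A R := x'.comp_algebraMap
    rw [h1, h2]

/-- the structure morphism of the affinization over `R₀` -/
theorem exists_affα {W : Over X} (a : W ⟶ D.ob R₀) :
    ∃ φ : R₀ →ₐ[D.A] (D.aff a).R, D.affπ a ≫ D.obMap φ = a :=
  D.exists_aff_hom a a rfl

/-- points of `T'` come from the affinization -/
theorem exists_affξ {W : Over X} (a : W ⟶ D.ob R₀) (x : W ⟶ T') (hx : x ≫ p = a ≫ D.toU R₀ ≫ e) :
    ∃ ξ : D.B →ₐ[D.A] (D.aff a).R, D.affπ a ≫ D.toT' ξ = x := by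
  have h1 : x.left ≫ p.left = (a.left ≫ Spec.map (CommRingCat.ofHom (algebraMap D.A R₀))) ≫ D.s ≫ e.left := by
    have := congrArg (fun k => k.left) hx
    change x.left ≫ p.left = a.left ≫ (Spec.map _ ≫ D.s) ≫ e.left at this
    rw [this]
    simp only [Category.assoc]
  let l : W.left ⟶ Spec (CommRingCat.of D.B) := D.pb.lift x.left _ h1
  have hl1 : l ≫ D.t = x.left := D.pb.lift_fst _ _ _
  have hl2 : l ≫ Spec.map (CommRingCat.ofHom (algebraMap D.A D.B)) = _ := D.pb.lift_snd _ _ _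
  refine ⟨(D.aff a).fac l hl2, ?_⟩
  ext1
  change (D.aff a).π ≫ Spec.map _ ≫ D.t = x.left
  rw [← Category.assoc, (D.aff a).π_fac, hl1]

open Classical in
/-- The family of an algebraic family. -/
def fromAlg (σ : AFam (D.GA G) D.B R₀ m) : Fam (CGrpSh.ptsPre G) (D.ob R₀) T' m := fun _ a x =>
  if h : ∀ i, x i ≫ p = a ≫ D.toU R₀ ≫ e then
    (CGrpSh.ptsPre G).map (D.affπ a).op
      (D.ofQ (σ (D.aff a).R (D.exists_affα a).choose fun i => (D.exists_affξ a (x i) (h i)).choose))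
  else 0

theorem fromAlg_eq {σ : AFam (D.GA G) D.B R₀ m} (hσ : IsN σ) {W : Over X} (R : Type u) [CommRing R] [Algebra D.A R]
    (π' : W ⟶ D.ob R) (a : R₀ →ₐ[D.A] R) (x : Fin (m + 1) → (D.B →ₐ[D.A] R)) :
    D.fromAlg σ W (π' ≫ D.obMap a) (fun i => π' ≫ D.toT' (x i)) =
      (CGrpSh.ptsPre G).map π'.op (D.ofQ (σ R a x)) := by
  have h : ∀ i, (π' ≫ D.toT' (x i)) ≫ p = (π' ≫ D.obMap a) ≫ D.toU R₀ ≫ e := by
    intro i
    rw [Category.assoc, toT'_p, Category.assoc, ← Category.assoc (D.obMap a), obMap_toU]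
  rw [fromAlg, dif_pos h]
  set w := π' ≫ D.obMap a with hw
  have h1 : π'.left ≫ Spec.map (CommRingCat.ofHom (algebraMap D.A R)) =
      w.left ≫ Spec.map (CommRingCat.ofHom (algebraMap D.A R₀)) := by
    rw [hw, Over.comp_left, obMap_left, Category.assoc, ← Spec.map_comp, ← CommRingCat.ofHom_comp]
    congr 3
    exact a.comp_algebraMap.symm
  obtain ⟨φ, hφ⟩ := D.exists_aff_hom w π' h1
  have h2 : (D.exists_affα w).choose = φ.comp a := by
    apply D.aff_hom_ext w
    rw [(D.exists_affα w).choose_spec, ← obMap_comp, ← Category.assoc, hφ]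
  have h3 : ∀ i, (D.exists_affξ w (π' ≫ D.toT' (x i)) (h i)).choose = φ.comp (x i) := by
    intro i
    apply (D.aff w).hom_ext
    apply D.toT'_ext (D.affπ w)
    rw [(D.exists_affξ w (π' ≫ D.toT' (x i)) (h i)).choose_spec, ← obMap_toT', ← Category.assoc, hφ]
  rw [h2]
  simp only [h3]
  rw [← hσ, ofQ_map]
  have h4 : (CGrpSh.ptsPre G).map (D.affπ w).op ((CGrpSh.ptsPre G).map (D.obMap φ).op (D.ofQ (σ R a x))) =
      (CGrpSh.ptsPre G).map (D.affπ w ≫ D.obMap φ).op (D.ofQ (σ R a x)) := by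
    rw [op_comp, (CGrpSh.ptsPre G).map_comp, ConcreteCategory.comp_apply]
  rw [h4, hφ]

/-- Every compatible tuple comes from the affinization. -/
theorem exists_tuple {W : Over X} (a : W ⟶ D.ob R₀) {k : ℕ} (x : Fin k → (W ⟶ T'))
    (hx : Compat p (D.toU R₀ ≫ e) a x) :
    ∃ (R : Type u) (_ : CommRing R) (_ : Algebra D.A R) (π' : W ⟶ D.ob R) (a' : R₀ →ₐ[D.A] R)
      (x' : Fin k → (D.B →ₐ[D.A] R)), π' ≫ D.obMap a' = a ∧ ∀ i, π' ≫ D.toT' (x' i) = x i := by
  choose x' hx' using fun i => D.exists_affξ a (x i) (hx i)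
  obtain ⟨a', ha'⟩ := D.exists_affα a
  exact ⟨(D.aff a).R, inferInstance, inferInstance, D.affπ a, a', x', ha', hx'⟩

theorem isCoch_fromAlg {σ : AFam (D.GA G) D.B R₀ m} (hσ : IsN σ) : IsCoch p (D.toU R₀ ≫ e) (D.fromAlg σ) := by
  intro W W' f a x hx
  obtain ⟨R, _, _, π', a', x', rfl, hx'⟩ := D.exists_tuple a x hx
  obtain rfl : (fun i => π' ≫ D.toT' (x' i)) = x := funext hx'
  rw [D.fromAlg_eq hσ]
  have h1 := D.fromAlg_eq hσ R (f ≫ π') a' x'
  simp only [Category.assoc] at h1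
  rw [h1, op_comp, (CGrpSh.ptsPre G).map_comp, ConcreteCategory.comp_apply]

theorem dS_fromAlg {σ : AFam (D.GA G) D.B R₀ m} (hσ : IsN σ) {W : Over X} (R : Type u) [CommRing R] [Algebra D.A R]
    (π' : W ⟶ D.ob R) (a : R₀ →ₐ[D.A] R) (x : Fin (m + 2) → (D.B →ₐ[D.A] R)) :
    dS (D.fromAlg σ W (π' ≫ D.obMap a)) (fun i => π' ≫ D.toT' (x i)) =
      (CGrpSh.ptsPre G).map π'.op (D.ofQ (dS (σ R a) x)) := by
  have h1 : D.ofQ (dS (σ R a) x) = dS (fun y => D.ofQ (σ R a y)) x :=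
    map_dS (A := Q (D.GA G) R) D.ofQ (σ R a) x
  have h2 : (CGrpSh.ptsPre G).map π'.op (dS (fun y => D.ofQ (σ R a y)) x) =
      dS (fun y => (CGrpSh.ptsPre G).map π'.op (D.ofQ (σ R a y))) x :=
    map_dS ((CGrpSh.ptsPre G).map π'.op).hom _ x
  rw [h1, h2]
  refine Finset.sum_congr rfl fun i _ => ?_
  congr 1
  exact D.fromAlg_eq hσ R π' a _

end fromAlg

end Dat

end K731.SmAlg
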