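import Groth.Agent.CGrpSh.K731.SmCorr
import Groth.Agent.Sga3B.Hens.WeilRes

/-!
# Universal tuples and localisation
-/

set_option autoImplicit false
universe u

open CategoryTheory MonoidalCategory CartesianMonoidalCategory MonObj GrpObj AlgebraicGeometry Limits
open scoped TensorProduct
open Groth.Agent.Sga3B.InfConj Groth.Agent.Etrest.FppfCoch

noncomputable section

namespace K731.SmAlg

variable {A : Type u} [CommRing A] {B : Type u} [CommRing B] [Algebra A B]

/-- An algebra with the universal `n + 1`-tuple of homomorphisms from `B`, finite free over `A`. -/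
structure Tup (A : Type u) [CommRing A] (B : Type u) [CommRing B] [Algebra A B] (n : ℕ) where
  /-- the algebra -/
  C : Type u
  [ring : CommRing C]
  [alg : Algebra A C]
  [fin : Module.Finite A C]
  [free : Module.Free A C]
  /-- the universal tuple -/
  y : Fin (n + 1) → (B →ₐ[A] C)
  /-- lifts -/
  lift : ∀ {R : Type u} [CommRing R] [Algebra A R] (_ : Fin (n + 1) → (B →ₐ[A] R)), C →ₐ[A] R
  lift_y : ∀ {R : Type u} [CommRing R] [Algebra A R] (x : Fin (n + 1) → (B →ₐ[A] R)) (i : Fin (n + 1)),
    (lift x).comp (y i) = x i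
  hom_ext : ∀ {R : Type u} [CommRing R] [Algebra A R] (f g : C →ₐ[A] R),
    (∀ i, f.comp (y i) = g.comp (y i)) → f = g

attribute [instance] Tup.ring Tup.alg Tup.fin Tup.free

theorem nonempty_tup [Module.Finite A B] [Module.Free A B] (n : ℕ) : Nonempty (Tup A B n) := by
  induction n with
  | zero =>
    exact ⟨{ C := B
             y := fun _ => AlgHom.id A B
             lift := fun x => x 0
             lift_y := fun x i => by
              rw [AlgHom.comp_id, Fin.fin_one_eq_zero i]
             hom_ext := fun f g h => by simpa using h 0 }⟩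
  | succ n ih =>
    obtain ⟨T⟩ := ih
    exact ⟨{ C := T.C ⊗[A] B
             y := (Fin.cons (incl₂ B T.C) (fun i => (incl₁ B T.C).comp (T.y i)) :
              Fin (n + 2) → (B →ₐ[A] T.C ⊗[A] B))
             lift := fun x => Algebra.TensorProduct.lift (T.lift fun i => x i.succ) (x 0) (fun _ _ => .all _ _)
             lift_y := fun x i => by
              refine Fin.cases ?_ (fun k => ?_) i
              · simp
              · rw [Fin.cons_succ, ← AlgHom.comp_assoc, Algebra.TensorProduct.lift_comp_includeLeft, T.lift_y]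
             hom_ext := fun f g h => by
              have h0 := h 0
              rw [Fin.cons_zero] at h0
              refine Algebra.TensorProduct.ext (T.hom_ext _ _ fun i => ?_) h0
              have h1 := h i.succ
              rw [Fin.cons_succ] at h1
              exact h1 }⟩

section tensor

variable {C : Type u} [CommRing C] [Algebra A C]
variable {R R' : Type u} [CommRing R] [Algebra A R] [CommRing R'] [Algebra A R']

/-- functoriality of `R ↦ R ⊗ C` -/
abbrev tm (C : Type u) [CommRing C] [Algebra A C] (φ : R →ₐ[A] R') : R ⊗[A] C →ₐ[A] R' ⊗[A] C :=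
  Algebra.TensorProduct.map φ (AlgHom.id A C)

theorem tm_comp {R'' : Type u} [CommRing R''] [Algebra A R''] (φ : R →ₐ[A] R') (ψ : R' →ₐ[A] R'') :
    (tm C ψ).comp (tm C φ) = tm C (ψ.comp φ) := by
  apply Algebra.TensorProduct.ext <;> ext <;> rfl

theorem isPushout_tm (C : Type u) [CommRing C] [Algebra A C] (φ : R →ₐ[A] R') :
    IsPushout (CommRingCat.ofHom φ.toRingHom) (CommRingCat.ofHom (incl₁ C R).toRingHom)
      (CommRingCat.ofHom (incl₁ C R').toRingHom) (CommRingCat.ofHom (tm C φ).toRingHom) := by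
  have h1 := CommRingCat.isPushout_tensorProduct A R C
  have h2 := CommRingCat.isPushout_tensorProduct A R' C
  have h3 : IsPushout (CommRingCat.ofHom (algebraMap A R) ≫ CommRingCat.ofHom φ.toRingHom)
      (CommRingCat.ofHom (algebraMap A C)) (CommRingCat.ofHom (incl₁ C R').toRingHom)
      (CommRingCat.ofHom (incl₂ C R).toRingHom ≫ CommRingCat.ofHom (tm C φ).toRingHom) := by
    have e1 : CommRingCat.ofHom (algebraMap A R) ≫ CommRingCat.ofHom φ.toRingHom =
        CommRingCat.ofHom (algebraMap A R') := by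
      ext a
      exact φ.commutes a
    have e2 : CommRingCat.ofHom (incl₂ C R).toRingHom ≫ CommRingCat.ofHom (tm C φ).toRingHom =
        CommRingCat.ofHom (incl₂ C R').toRingHom := by
      ext (c : C)
      change tm C φ (1 ⊗ₜ c) = 1 ⊗ₜ c
      rw [Algebra.TensorProduct.map_tmul, map_one]
      rfl
    rw [e1, e2]
    exact h2
  refine IsPushout.of_left h3 ?_ h1
  ext (r : R)
  change (φ r) ⊗ₜ[A] (1 : C) = tm C φ (r ⊗ₜ 1)
  rw [Algebra.TensorProduct.map_tmul, map_one]

/-- the homomorphism `R ⊗ C → R'` -/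
abbrev tl (a : R →ₐ[A] R') (g : C →ₐ[A] R') : R ⊗[A] C →ₐ[A] R' :=
  Algebra.TensorProduct.lift a g (fun _ _ => .all _ _)

theorem tl_comp {R'' : Type u} [CommRing R''] [Algebra A R''] (a : R →ₐ[A] R') (g : C →ₐ[A] R') (f : R' →ₐ[A] R'') :
    f.comp (tl a g) = tl (f.comp a) (f.comp g) := by
  apply Algebra.TensorProduct.ext <;> ext <;> simp

theorem tl_tm {R'' : Type u} [CommRing R''] [Algebra A R''] (a : R' →ₐ[A] R'') (g : C →ₐ[A] R'') (f : R →ₐ[A] R') :
    (tl a g).comp (tm C f) = tl (a.comp f) g := by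
  apply Algebra.TensorProduct.ext <;> ext <;> simp

theorem tl_self : tl (incl₁ C R) (incl₂ C R) = AlgHom.id A _ := by
  apply Algebra.TensorProduct.ext <;> ext <;> simp

/-- Surjectivity and the kernel of `R ⊗ C → (R/I) ⊗ C`. -/
theorem tm_mk_surjective (I : Ideal R) : Function.Surjective (tm C (Ideal.Quotient.mkₐ A I)) :=
  TensorProduct.map_surjective (Ideal.Quotient.mkₐ_surjective A I) Function.surjective_id

theorem tm_mk_ker (I : Ideal R) (hI : I ^ 2 = ⊥) :
    RingHom.ker (tm C (Ideal.Quotient.mkₐ A I)).toRingHom ^ 2 = ⊥ := by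
  have h1 : RingHom.ker (tm C (Ideal.Quotient.mkₐ A I)).toRingHom = extI A C I := by
    have := Algebra.TensorProduct.rTensor_ker (R := A) (S := A) (C := C) (Ideal.Quotient.mkₐ A I)
      (Ideal.Quotient.mkₐ_surjective A I)
    have h0 : RingHom.ker (Ideal.Quotient.mkₐ A I) = I := Ideal.Quotient.mkₐ_ker A I
    rw [h0] at this
    exact this
  rw [h1, extI, ← Ideal.map_pow, hI, Ideal.map_bot]

end tensor

section loc

variable {G : Over (Spec (CommRingCat.of A))} {D : Type u} [CommRing D] [Algebra A D] (v : pt A D ⟶ G)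
  [IsOpenImmersion v.left]
variable {O K C : Type u} [CommRing O] [Algebra A O] [Field K] [Algebra A K] [CommRing C] [Algebra A C]
  [Module.Finite A C]

/-- A point of `O ⊗ C` which lies in an open subscheme after base change to a point of `Spec O` does so locally. -/
theorem exists_loc (θ : pt A (TensorProduct A O C) ⟶ G) (w : O →ₐ[A] K)
    (h : Set.range (ptMap (tm C w) ≫ θ).left ⊆ Set.range v.left) :
    ∃ f : O, w f ≠ 0 ∧ ∃ ξ : D →ₐ[A] Localization.Away f ⊗[A] C,
      ptMap ξ ≫ v = ptMap (tm C (IsScalarTower.toAlgHom A O (Localization.Away f))) ≫ θ := by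
  let π : Spec (CommRingCat.of (O ⊗[A] C)) ⟶ Spec (CommRingCat.of O) :=
    Spec.map (CommRingCat.ofHom (incl₁ (A := A) C O).toRingHom)
  let Z : Set (Spec (CommRingCat.of (O ⊗[A] C))) := (θ.left ⁻¹' Set.range v.left)ᶜ
  have hZ : IsClosed Z := by
    refine IsOpen.isClosed_compl ?_
    exact v.left.isOpenEmbedding.isOpen_range.preimage θ.left.continuous
  have hint : (incl₁ (A := A) C O).toRingHom.IsIntegral := by
    have : (algebraMap O (O ⊗[A] C)).IsIntegral := algebraMap_isIntegral_iff.2 inferInstance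
    exact this
  have hcl : IsClosed (π '' Z) := PrimeSpectrum.isClosedMap_comap_of_isIntegral _ hint _ hZ
  let w' : Spec (CommRingCat.of K) ⟶ Spec (CommRingCat.of O) := Spec.map (CommRingCat.ofHom w.toRingHom)
  let κ : Spec (CommRingCat.of K) := IsLocalRing.closedPoint K
  have hκ : w' κ ∉ π '' Z := by
    rintro ⟨z, hz, hzκ⟩
    have hp := isPullback_SpecMap_of_isPushout _ _ _ _ (isPushout_tm C w)
    obtain ⟨p, -, hp2⟩ := Scheme.exists_preimage_of_isPullback hp κ z hzκ.symm
    apply hz
    have h1 := h ⟨p, rfl⟩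
    rw [Over.comp_left, Scheme.Hom.comp_apply] at h1
    rw [← hp2]
    exact h1
  obtain ⟨_, ⟨f, rfl⟩, hf, hfZ⟩ := PrimeSpectrum.isTopologicalBasis_basic_opens.exists_subset_of_mem_open
    (show w' κ ∈ (π '' Z)ᶜ from hκ) hcl.isOpen_compl
  refine ⟨f, ?_, ?_⟩
  · intro h0
    apply hf
    change w f ∈ κ.asIdeal
    rw [h0]
    exact zero_mem _
  · refine exists_coord_of_range v (ptMap (tm C (IsScalarTower.toAlgHom A O (Localization.Away f))) ≫ θ) ?_
    rintro _ ⟨p, rfl⟩
    by_contra hc
    rw [Over.comp_left, Scheme.Hom.comp_apply] at hc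
    have h1 : π ((ptMap (tm C (IsScalarTower.toAlgHom A O (Localization.Away f)))).left p) ∈ π '' Z :=
      ⟨_, hc, rfl⟩
    refine hfZ ?_ h1
    change f ∉ Ideal.comap _ (Ideal.comap _ p.asIdeal)
    rw [Ideal.mem_comap, Ideal.mem_comap]
    have h2 : IsUnit (tm C (IsScalarTower.toAlgHom A O (Localization.Away f)) (incl₁ C O f)) := by
      have h3 : tm C (IsScalarTower.toAlgHom A O (Localization.Away f)) (incl₁ C O f) =
          incl₁ C (Localization.Away f) (algebraMap O _ f) := by
        change tm C _ (f ⊗ₜ 1) = _ ⊗ₜ 1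
        rw [Algebra.TensorProduct.map_tmul, map_one]
        rfl
      rw [h3]
      exact (IsLocalization.Away.algebraMap_isUnit f).map _
    exact fun h4 => p.2.ne_top (Ideal.eq_top_of_isUnit_mem _ h4 h2)

end loc

end K731.SmAlg
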