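import Groth.Agent.CGrpSh.K731.Comb
import Groth.Agent.Divis.IdealComap

/-!
# Square-zero closed immersions
-/

set_option autoImplicit false
universe u

open CategoryTheory CategoryTheory.Limits AlgebraicGeometry Opposite TopologicalSpace

namespace K731.Comb

variable {U' U X T T' : Scheme.{u}}

theorem SqZ.of_ker (j : U' ⟶ U) [IsClosedImmersion j] (hj : j.ker * j.ker = ⊥) : SqZ j where
  surj x := by
    have h1 : (j.ker * j.ker).support = ⊤ := by rw [hj]; rfl
    rw [Scheme.IdealSheafData.support_mul, sup_idem] at h1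
    have h2 := Scheme.Hom.support_ker j
    rw [h1, (j.isClosedEmbedding.isClosed_range).closure_eq] at h2
    have : x ∈ ((⊤ : Closeds U) : Set U) := trivial
    rw [h2] at this
    exact this
  sq W s t hs ht := by
    refine TopCat.Presheaf.section_ext U.sheaf _ _ _ fun x hx => ?_
    obtain ⟨V, hV, hxV, hVW⟩ := exists_isAffineOpen_mem_and_subset hx
    have hVW' : V ≤ W := hVW
    have key : ∀ s : Γ(U, W), j.app W s = 0 → U.presheaf.map (homOfLE hVW').op s ∈ j.ker.ideal ⟨V, hV⟩ := by
      intro s hs
      rw [Scheme.Hom.ker_apply, RingHom.mem_ker]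
      have h3 := congrArg (fun k => k s) (congrArg CommRingCat.Hom.hom (j.naturality (homOfLE hVW').op))
      change j.app V (U.presheaf.map (homOfLE hVW').op s) = _ at h3
      refine h3.trans ?_
      change U'.presheaf.map _ (j.app W s) = 0
      rw [hs, map_zero]
    have h4 : U.presheaf.map (homOfLE hVW').op s * U.presheaf.map (homOfLE hVW').op t ∈
        (j.ker * j.ker).ideal ⟨V, hV⟩ := Ideal.mul_mem_mul (key s hs) (key t ht)
    rw [hj, Scheme.IdealSheafData.ideal_bot, Pi.bot_apply, Ideal.mem_bot, ← map_mul] at h4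
    have h5 := congrArg (U.presheaf.germ V x hxV) h4
    rw [map_zero] at h5
    have h6 : U.presheaf.germ W x hx (s * t) = 0 := by
      rw [← h5]
      exact (TopCat.Presheaf.germ_res_apply U.presheaf (homOfLE hVW') x hxV (s * t)).symm
    exact h6.trans (map_zero _).symm

theorem ker_fst_mul (j : T' ⟶ T) [IsClosedImmersion j] (hj : j.ker * j.ker = ⊥) (f : U ⟶ T) :
    (pullback.fst f j).ker * (pullback.fst f j).ker = ⊥ := by
  rw [Scheme.IdealSheafData.ker_fst_of_isClosedImmersion]
  rw [← Groth.Agent.Divis.IdealComap.comap_mul, hj, Scheme.IdealSheafData.comap_bot]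

end K731.Comb
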